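import Groth.Agent.Lib.Helper97.RedModBC
import Groth.Prelude.Def_MoreMor

/-!
# Relative assassin and base change along an arbitrary cartesian square (helper97)
-/

set_option autoImplicit false
set_option linter.style.haveILetI false
set_option linter.unusedSectionVars false
universe u

open AlgebraicGeometry CategoryTheory TensorProduct TopologicalSpace Limits

namespace Groth.Agent.Lib.Helper97.AssFibre

open Groth.Agent.Lib.Helper97.StalkTensor Groth.Agent.Lib.Helper16.FlatPull

section Surj

variable {B B' : Type u} [CommRing B] [CommRing B'] [Algebra B B']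
  (hsurj : Function.Surjective (algebraMap B B'))
  {N N' : Type u} [AddCommGroup N] [Module B N] [AddCommGroup N'] [Module B N'] [Module B' N']
  [IsScalarTower B B' N']

include hsurj in
/-- Associated primes over a quotient ring and over the ring itself (no Noetherian hypothesis). -/
theorem mem_ass_iff_comap_mem_ass' (Q : Ideal B') [Q.IsPrime] :
    Q ∈ associatedPrimes B' N' ↔ Q.comap (algebraMap B B') ∈ associatedPrimes B N' := by
  have key : ∀ ξ : N', ((⊥ : Submodule B N').colon {ξ}) =
      ((⊥ : Submodule B' N').colon {ξ}).comap (algebraMap B B') := by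
    intro ξ
    ext b
    rw [Ideal.mem_comap, Submodule.mem_colon_singleton, Submodule.mem_colon_singleton,
      Submodule.mem_bot, Submodule.mem_bot, algebraMap_smul]
  rw [AssociatedPrimes.mem_iff, AssociatedPrimes.mem_iff]
  unfold IsAssociatedPrime
  rw [Submodule.isAssociatedPrime_def, Submodule.isAssociatedPrime_def]
  constructor
  · rintro ⟨hQ, ξ, hξ⟩
    refine ⟨Ideal.comap_isPrime _ _, ξ, ?_⟩
    rw [key, ← Ideal.comap_radical, ← hξ]
  · rintro ⟨-, ξ, hξ⟩
    refine ⟨inferInstance, ξ, ?_⟩
    apply Ideal.comap_injective_of_surjective (algebraMap B B') hsurj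
    rw [hξ, key, Ideal.comap_radical]

include hsurj in
theorem mem_ass_baseChange_iff' (ψ : N →ₗ[B] N') (hψ : IsBaseChange B' ψ) (Q : Ideal B')
    [Q.IsPrime] :
    Q ∈ associatedPrimes B' N' ↔
      Q.comap (algebraMap B B') ∈ associatedPrimes B
        (N ⧸ (RingHom.ker (algebraMap B B')) • (⊤ : Submodule B N)) := by
  rw [mem_ass_iff_comap_mem_ass' hsurj Q]
  let e₁ : N' ≃ₗ[B] B' ⊗[B] N := hψ.equiv.symm.restrictScalars B
  let e₂ : (B ⧸ RingHom.ker (algebraMap B B')) ≃ₗ[B] B' :=
    (Ideal.quotientKerAlgEquivOfSurjective (f := Algebra.ofId B B') hsurj).toLinearEquiv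
  let e₃ : B' ⊗[B] N ≃ₗ[B] (B ⧸ RingHom.ker (algebraMap B B')) ⊗[B] N :=
    TensorProduct.congr e₂.symm (LinearEquiv.refl B N)
  let e₄ := TensorProduct.quotTensorEquivQuotSMul N (RingHom.ker (algebraMap B B'))
  rw [LinearEquiv.AssociatedPrimes.eq (e₁ ≪≫ₗ e₃ ≪≫ₗ e₄)]

end Surj

section Fibre

variable {X Y : Scheme.{u}} (f : X ⟶ Y)

/-- Associated points of the restriction of `F` to a fibre, in terms of the relative assassin
(no Noetherian hypothesis). -/
theorem isAssPoint_fiber_iff_mem_relAss (F : X.Modules) [F.IsQuasicoherent] (s : Y)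
    (z : ↥(f.fiber s)) :
    Curv2.IsAssPoint ((Scheme.Modules.pullback (f.fiberι s)).obj F) z ↔
      f.fiberι s z ∈ MoreMor.relAss f F := by
  letI algBB' := ((f.fiberι s).stalkMap z).hom.toAlgebra
  have hsurj : Function.Surjective (algebraMap (X.presheaf.stalk (f.fiberι s z))
      ((f.fiber s).presheaf.stalk z)) := (f.fiberι s).stalkMap_surjective z
  letI : Module (X.presheaf.stalk ((f.fiberι s).base z))
      (((Scheme.Modules.pullback (f.fiberι s)).obj F).presheaf.stalk z) :=
    FlatMod.moduleStalkOver (f.fiberι s) ((Scheme.Modules.pullback (f.fiberι s)).obj F) z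
  haveI : IsScalarTower (X.presheaf.stalk ((f.fiberι s).base z)) ((f.fiber s).presheaf.stalk z)
      (((Scheme.Modules.pullback (f.fiberι s)).obj F).presheaf.stalk z) :=
    IsScalarTower.of_compHom _ _ _
  obtain ⟨ψ, hψ⟩ := exists_isBaseChange_stalk (f.fiberι s) F z
  have hker : RingHom.ker (algebraMap (X.presheaf.stalk ((f.fiberι s).base z))
      ((f.fiber s).presheaf.stalk z)) =
      (IsLocalRing.maximalIdeal ↑(Y.presheaf.stalk (f (f.fiberι s z)))).map
        (f.stalkMap (f.fiberι s z)).hom :=
    le_antisymm (Groth.Agent.Lib.Helper49.ker_le_map f s z)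
      (Groth.Agent.Lib.Helper49.map_le_ker f s z)
  have hcomap : (IsLocalRing.maximalIdeal ((f.fiber s).presheaf.stalk z)).comap
      (algebraMap (X.presheaf.stalk ((f.fiberι s).base z)) ((f.fiber s).presheaf.stalk z)) =
      IsLocalRing.maximalIdeal (X.presheaf.stalk ((f.fiberι s).base z)) := by
    haveI : IsLocalHom (algebraMap (X.presheaf.stalk ((f.fiberι s).base z))
        ((f.fiber s).presheaf.stalk z)) := by
      change IsLocalHom ((f.fiberι s).stalkMap z).hom
      infer_instance
    exact AssTensorLocal.comap_maximalIdeal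
  unfold Curv2.IsAssPoint MoreMor.relAss
  rw [Set.mem_ofPred_eq, ← AssociatedPrimes.mem_iff, ← AssociatedPrimes.mem_iff,
    mem_ass_baseChange_iff' hsurj ψ hψ, hcomap, hker]

end Fibre

section Square

variable {X S X' S' : Scheme.{u}} {f : X ⟶ S} {g : S' ⟶ S} {f' : X' ⟶ S'} {g' : X' ⟶ X}
  (hc : IsPullback g' f' f g)

/-- The projection from the fibre of `f'` over `s'` to the fibre of `f` over `g s'`. -/
noncomputable def fiberProjSq (s' : S') : f'.fiber s' ⟶ f.fiber (g s') :=
  pullback.map _ _ _ _ g' (Spec.map (g.residueFieldMap s')) g hc.w.symm (by simp)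

theorem isPullback_fiberProjSq (s' : S') :
    IsPullback (fiberProjSq hc s') (f'.fiberToSpecResidueField s')
      (f.fiberToSpecResidueField (g s')) (Spec.map (g.residueFieldMap s')) :=
  isPullback_fiberToSpecResidueField_of_isPullback hc s'

theorem fiberProjSq_fiberι (s' : S') :
    fiberProjSq hc s' ≫ f.fiberι (g s') = f'.fiberι s' ≫ g' := by
  unfold fiberProjSq Scheme.Hom.fiberι
  exact pullback.lift_fst _ _ _

instance flat_fiberProjSq (s' : S') : Flat (fiberProjSq hc s') := by
  have hφ : Flat (Spec.map (g.residueFieldMap s')) := by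
    rw [Flat.SpecMap_iff]
    letI := (g.residueFieldMap s').hom.toAlgebra
    change Module.Flat (S.residueField (g s')) (S'.residueField s')
    infer_instance
  exact MorphismProperty.of_isPullback (isPullback_fiberProjSq hc s').flip hφ

theorem surjective_fiberProjSq (s' : S') : Surjective (fiberProjSq hc s') := by
  have hφ : Surjective (Spec.map (g.residueFieldMap s')) := by
    refine ⟨fun x => ?_⟩
    haveI : Subsingleton ↥(Spec (S.residueField (g s'))) :=
      (inferInstance : Subsingleton (PrimeSpectrum (S.residueField (g s'))))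
    haveI : Nonempty ↥(Spec (S'.residueField s')) :=
      (inferInstance : Nonempty (PrimeSpectrum (S'.residueField s')))
    exact ⟨Classical.arbitrary _, Subsingleton.elim _ _⟩
  exact MorphismProperty.of_isPullback (isPullback_fiberProjSq hc s').flip hφ

theorem fiberProjSq_apply (s' : S') (w : ↥(f'.fiber s')) :
    f.fiberι (g s') (fiberProjSq hc s' w) = g' (f'.fiberι s' w) := by
  rw [← Scheme.Hom.comp_apply, ← Scheme.Hom.comp_apply, fiberProjSq_fiberι]

include hc in
theorem locallyOfFiniteType_of_isPullback [LocallyOfFiniteType f] : LocallyOfFiniteType f' :=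
  MorphismProperty.of_isPullback hc inferInstance

variable [LocallyOfFiniteType f] (F : X.Modules) [F.IsQuasicoherent]

/-- Associated points of the restriction of `g'^* F` to a fibre of `f'`. -/
theorem isAssPoint_fiber_sq_iff (s' : S') (z' : ↥(f'.fiber s')) :
    haveI := locallyOfFiniteType_of_isPullback hc
    haveI := isLocallyNoetherian_fiber_of_locallyOfFiniteType f' s'
    haveI := isLocallyNoetherian_fiber_of_locallyOfFiniteType f (g s')
    Curv2.IsAssPoint ((Scheme.Modules.pullback (f'.fiberι s')).obj
        ((Scheme.Modules.pullback g').obj F)) z' ↔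
      Curv2.IsAssPoint ((Scheme.Modules.pullback (f.fiberι (g s'))).obj F)
          (fiberProjSq hc s' z') ∧ FibAssRingAt (fiberProjSq hc s') z' := by
  haveI := locallyOfFiniteType_of_isPullback hc
  haveI := isLocallyNoetherian_fiber_of_locallyOfFiniteType f' s'
  haveI := isLocallyNoetherian_fiber_of_locallyOfFiniteType f (g s')
  haveI := isQuasicoherent_pullback g' F
  haveI := isQuasicoherent_pullback (f.fiberι (g s')) F
  haveI := isQuasicoherent_pullback (f'.fiberι s') ((Scheme.Modules.pullback g').obj F)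
  haveI := isQuasicoherent_pullback (fiberProjSq hc s')
    ((Scheme.Modules.pullback (f.fiberι (g s'))).obj F)
  let e : (Scheme.Modules.pullback (f'.fiberι s')).obj ((Scheme.Modules.pullback g').obj F) ≅
      (Scheme.Modules.pullback (fiberProjSq hc s')).obj
        ((Scheme.Modules.pullback (f.fiberι (g s'))).obj F) :=
    (Scheme.Modules.pullbackComp (f'.fiberι s') g').app F ≪≫
      (Scheme.Modules.pullbackCongr (fiberProjSq_fiberι hc s').symm).app F ≪≫
      ((Scheme.Modules.pullbackComp (fiberProjSq hc s') (f.fiberι (g s'))).app F).symm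
  rw [isAssPoint_congr e, isAssPoint_pullback_iff_of_flat (fiberProjSq hc s') _ z']

/-- Over every point of the fibre of `f` there is a point of the fibre of `f'` which is associated
in its fibre. -/
theorem exists_fibAssRingAt_fiberProjSq (s' : S') (w : ↥(f.fiber (g s'))) :
    ∃ z' : ↥(f'.fiber s'), fiberProjSq hc s' z' = w ∧ FibAssRingAt (fiberProjSq hc s') z' := by
  haveI := locallyOfFiniteType_of_isPullback hc
  haveI := isLocallyNoetherian_fiber_of_locallyOfFiniteType f' s'
  haveI := isLocallyNoetherian_fiber_of_locallyOfFiniteType f (g s')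
  haveI := surjective_fiberProjSq hc s'
  obtain ⟨z', hz'⟩ := (fiberProjSq hc s').surjective w
  obtain ⟨t, ht⟩ := exists_fiberι_eq (fiberProjSq hc s') w z' hz'
  obtain ⟨t₀, ht₀, -, -⟩ :=
    Groth.Agent.Lib.Helper45.NowhereDense.exists_minimal_ass_specializes
      (Coh.structureModule ((fiberProjSq hc s').fiber w))
      (Groth.Agent.Lib.Helper45.RefHullStalk.isCoh_structureModule _)
      (mem_support_structureModule t)
  refine ⟨(fiberProjSq hc s').fiberι w t₀, apply_fiberι' _ _ _, ?_⟩
  exact (isAssPoint_structureModule_fiber_iff (fiberProjSq hc s') w t₀).mp ht₀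

include hc in
/-- The relative assassin in a fibre lies in an open `U` if and only if it does so after base
change. -/
theorem relAss_fibre_subset_iff (U : X.Opens) (s' : S') :
    {x : ↑X | x ∈ MoreMor.relAss f F ∧ f x = g s'} ⊆ (U : Set ↑X) ↔
      {x' : ↑X' | x' ∈ MoreMor.relAss f' ((Scheme.Modules.pullback g').obj F) ∧ f' x' = s'} ⊆
        (g' ⁻¹ᵁ U : Set ↑X') := by
  haveI := locallyOfFiniteType_of_isPullback hc
  haveI := isQuasicoherent_pullback g' F
  constructor
  · rintro h x' ⟨hx', hs⟩
    obtain ⟨z', hz'⟩ := exists_fiberι_eq f' s' x' hs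
    rw [← hz', ← isAssPoint_fiber_iff_mem_relAss f' _ s' z', isAssPoint_fiber_sq_iff hc F s' z',
      isAssPoint_fiber_iff_mem_relAss f F (g s'), fiberProjSq_apply, hz'] at hx'
    apply h
    refine ⟨hx'.1, ?_⟩
    rw [← Scheme.Hom.comp_apply, hc.w, Scheme.Hom.comp_apply, hs]
  · rintro h x ⟨hx, hs⟩
    obtain ⟨w, hw⟩ := exists_fiberι_eq f (g s') x hs
    obtain ⟨z', hz'w, hz'A⟩ := exists_fibAssRingAt_fiberProjSq hc s' w
    have h1 : f'.fiberι s' z' ∈ MoreMor.relAss f' ((Scheme.Modules.pullback g').obj F) := by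
      rw [← isAssPoint_fiber_iff_mem_relAss f' _ s' z', isAssPoint_fiber_sq_iff hc F s' z',
        isAssPoint_fiber_iff_mem_relAss f F (g s'), hz'w, hw]
      exact ⟨hx, hz'A⟩
    have h2 := h ⟨h1, apply_fiberι' f' s' z'⟩
    have h3 : g' (f'.fiberι s' z') = x := by
      rw [← fiberProjSq_apply hc, hz'w, hw]
    rw [← h3]
    exact h2

end Square

end Groth.Agent.Lib.Helper97.AssFibre
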