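import Groth.Agent.Lib.Helper97.AssTensorLocal
import Groth.Agent.S9668

/-!
# The local theorem on `Ass(N ⊗_A M)` for arbitrary `M` (helper97)
-/

set_option autoImplicit false
set_option linter.style.haveILetI false
universe u

open TensorProduct IsLocalRing

namespace Groth.Agent.Lib.Helper97.AssTensorLocal

open Groth.Agent.Lib.Helper50

variable {A B : Type u} [CommRing A] [CommRing B] [IsLocalRing A] [IsLocalRing B]
  [IsNoetherianRing A] [IsNoetherianRing B] [Algebra A B] [IsLocalHom (algebraMap A B)]
  (M : Type u) [AddCommGroup M] [Module A M]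
  (N : Type u) [AddCommGroup N] [Module B N] [Module A N] [IsScalarTower A B N] [Module.Flat A N]

/-- The local form of the theorem on the associated primes of `N ⊗_A M`, `N` flat over `A`, `M`
arbitrary. -/
theorem maximalIdeal_mem_ass_tensor_iff' :
    maximalIdeal B ∈ associatedPrimes B (N ⊗[A] M) ↔
      maximalIdeal A ∈ associatedPrimes A M ∧
        maximalIdeal B ∈ associatedPrimes B
          (N ⧸ ((maximalIdeal A).map (algebraMap A B)) • (⊤ : Submodule B N)) := by
  constructor
  · intro h
    rw [← ass_eq_associatedPrimes] at h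
    obtain ⟨M', hM', h'⟩ := Groth.Agent.S9668.result N M (maximalIdeal B) h
    haveI : Module.Finite A M' := Module.Finite.iff_fg.mpr hM'
    rw [ass_eq_associatedPrimes] at h'
    obtain ⟨h1, h2⟩ := (maximalIdeal_mem_ass_tensor_iff (↥M') N).mp h'
    exact ⟨associatedPrimes.subset_of_injective (f := M'.subtype) M'.injective_subtype h1, h2⟩
  · rintro ⟨h1, h2⟩
    rw [← ass_eq_associatedPrimes] at h1 h2 ⊢
    rw [(Groth.Agent.S9669.result N (maximalIdeal A)).1] at h2
    obtain ⟨Q, hQ, hQc⟩ := (Groth.Agent.S9664.result N (maximalIdeal A) (maximalIdeal B)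
      comap_maximalIdeal).mp h2
    have := Groth.Agent.S9648.result M N (maximalIdeal A) h1 Q hQ
    rwa [hQc] at this

/-- The case `M = A`. -/
theorem maximalIdeal_mem_ass_iff_of_flat :
    maximalIdeal B ∈ associatedPrimes B N ↔
      maximalIdeal A ∈ associatedPrimes A A ∧
        maximalIdeal B ∈ associatedPrimes B
          (N ⧸ ((maximalIdeal A).map (algebraMap A B)) • (⊤ : Submodule B N)) := by
  rw [← maximalIdeal_mem_ass_tensor_iff' A N,
    LinearEquiv.AssociatedPrimes.eq (AlgebraTensorModule.rid A B N)]

omit [IsLocalRing A] [IsLocalRing B] [IsNoetherianRing A] [IsNoetherianRing B]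
  [IsLocalHom (algebraMap A B)] in
/-- `B / I B` as a quotient of the `B`-module `B`. -/
theorem ass_quot_smul_top_self (I : Ideal A) :
    associatedPrimes B (B ⧸ (I.map (algebraMap A B)) • (⊤ : Submodule B B)) =
      associatedPrimes B (B ⧸ I.map (algebraMap A B)) := by
  have h : (I.map (algebraMap A B)) • (⊤ : Submodule B B) = I.map (algebraMap A B) := by
    rw [Ideal.smul_top_eq_map]
    simp
  exact LinearEquiv.AssociatedPrimes.eq (Submodule.quotEquivOfEq _ _ h)

/-- The case `N = B`, a flat `A`-algebra. -/
theorem maximalIdeal_mem_ass_baseChange_iff [Module.Flat A B] :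
    maximalIdeal B ∈ associatedPrimes B (B ⊗[A] M) ↔
      maximalIdeal A ∈ associatedPrimes A M ∧
        maximalIdeal B ∈ associatedPrimes B (B ⧸ (maximalIdeal A).map (algebraMap A B)) := by
  rw [maximalIdeal_mem_ass_tensor_iff' M B, ass_quot_smul_top_self]

section SurjRing

variable {R R' : Type u} [CommRing R] [CommRing R'] [IsNoetherianRing R] [Algebra R R']
  (hsurj : Function.Surjective (algebraMap R R'))

include hsurj in
/-- For `R → R'` surjective: a prime `Q` of `R'` is associated to `R'` iff its contraction is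
associated to `R / ker`. -/
theorem mem_ass_self_iff_comap_mem_ass_quot (Q : Ideal R') [Q.IsPrime] :
    Q ∈ associatedPrimes R' R' ↔
      Q.comap (algebraMap R R') ∈ associatedPrimes R (R ⧸ RingHom.ker (algebraMap R R')) := by
  let e : (R ⧸ RingHom.ker (algebraMap R R')) ≃ₗ[R] R' :=
    (Ideal.quotientKerAlgEquivOfSurjective (f := Algebra.ofId R R') hsurj).toLinearEquiv
  rw [mem_ass_iff_comap_mem_ass hsurj, ← LinearEquiv.AssociatedPrimes.eq e]

end SurjRing

end Groth.Agent.Lib.Helper97.AssTensorLocal
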