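import Groth.Agent.Lib.Helper97.AssFibre
import Groth.Agent.Lib.Helper97.AssTensorLocal2
import Groth.Agent.Lib.Helper45.RefHullStalk
import Groth.Agent.Lib.Helper45.PrimaryUnique

/-!
# Associated points: quasi-coherent `E`, pull-back along a flat morphism, structure sheaf of a
fibre (helper97)
-/

set_option autoImplicit false
set_option linter.style.haveILetI false
universe u

open AlgebraicGeometry CategoryTheory TensorProduct TopologicalSpace Limits

namespace Groth.Agent.Lib.Helper97.AssFibre

open Groth.Agent.Lib.Helper97.StalkTensor Groth.Agent.Lib.Helper16.FlatPull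

variable {X Y : Scheme.{u}} (f : X ⟶ Y)

/-- Associated points of `f^*E ⊗ F`, `F` flat over the base at `x`, `E` quasi-coherent. -/
theorem isAssPoint_pullback_tensor_iff' [IsLocallyNoetherian X] [IsLocallyNoetherian Y]
    (E : Y.Modules) [E.IsQuasicoherent] (F : X.Modules) [F.IsQuasicoherent] (x : X)
    (hfl : FlatMod.IsFlatOverAt f F x) :
    Curv2.IsAssPoint (CohB1.tensorMod ((Scheme.Modules.pullback f).obj E) F) x ↔
      Curv2.IsAssPoint E (f x) ∧ FibAssAt f F x := by
  letI algAB := (f.stalkMap x).hom.toAlgebra
  letI modAN : Module (Y.presheaf.stalk (f.base x)) (F.presheaf.stalk x) :=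
    FlatMod.moduleStalkOver f F x
  haveI : IsScalarTower (Y.presheaf.stalk (f.base x)) (X.presheaf.stalk x)
    (F.presheaf.stalk x) := IsScalarTower.of_compHom _ _ _
  haveI : Module.Flat (Y.presheaf.stalk (f.base x)) (F.presheaf.stalk x) := hfl
  haveI : IsLocalHom (algebraMap (Y.presheaf.stalk (f.base x)) (X.presheaf.stalk x)) := by
    change IsLocalHom (f.stalkMap x).hom
    infer_instance
  haveI : IsNoetherianRing (Y.presheaf.stalk (f.base x)) := inferInstance
  haveI : IsNoetherianRing (X.presheaf.stalk x) := inferInstance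
  obtain ⟨e⟩ := nonempty_stalk_pullback_tensor_equiv f E F x
  unfold Curv2.IsAssPoint FibAssAt
  rw [← AssociatedPrimes.mem_iff, LinearEquiv.AssociatedPrimes.eq e,
    AssTensorLocal.maximalIdeal_mem_ass_tensor_iff']
  rfl

/-- The associated points of the structure sheaf, through the local rings. -/
theorem isAssPoint_structureModule_iff (y : Y) :
    Curv2.IsAssPoint (Coh.structureModule Y) y ↔
      IsLocalRing.maximalIdeal (Y.presheaf.stalk y) ∈
        associatedPrimes (Y.presheaf.stalk y) (Y.presheaf.stalk y) := by
  unfold Curv2.IsAssPoint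
  rw [← AssociatedPrimes.mem_iff,
    LinearEquiv.AssociatedPrimes.eq (Groth.Agent.Lib.Helper45.RefHullStalk.unitStalkEquiv y)]

/-- Associated points of a module flat over the base. -/
theorem isAssPoint_iff_of_isFlatOverAt [IsLocallyNoetherian X] [IsLocallyNoetherian Y]
    (F : X.Modules) (x : X) (hfl : FlatMod.IsFlatOverAt f F x) :
    Curv2.IsAssPoint F x ↔
      Curv2.IsAssPoint (Coh.structureModule Y) (f x) ∧ FibAssAt f F x := by
  letI algAB := (f.stalkMap x).hom.toAlgebra
  letI modAN : Module (Y.presheaf.stalk (f.base x)) (F.presheaf.stalk x) :=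
    FlatMod.moduleStalkOver f F x
  haveI : IsScalarTower (Y.presheaf.stalk (f.base x)) (X.presheaf.stalk x)
    (F.presheaf.stalk x) := IsScalarTower.of_compHom _ _ _
  haveI : Module.Flat (Y.presheaf.stalk (f.base x)) (F.presheaf.stalk x) := hfl
  haveI : IsLocalHom (algebraMap (Y.presheaf.stalk (f.base x)) (X.presheaf.stalk x)) := by
    change IsLocalHom (f.stalkMap x).hom
    infer_instance
  haveI : IsNoetherianRing (Y.presheaf.stalk (f.base x)) := inferInstance
  haveI : IsNoetherianRing (X.presheaf.stalk x) := inferInstance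
  rw [isAssPoint_structureModule_iff]
  unfold Curv2.IsAssPoint FibAssAt
  rw [← AssociatedPrimes.mem_iff,
    AssTensorLocal.maximalIdeal_mem_ass_iff_of_flat (A := Y.presheaf.stalk (f.base x))]
  rfl

/-- `w` is an associated point of the fibre of `π` through `w`: the maximal ideal of `O_w` is
associated to `O_w / m_{π w} O_w`. -/
def FibAssRingAt (w : X) : Prop :=
  IsLocalRing.maximalIdeal (X.presheaf.stalk w) ∈ associatedPrimes (X.presheaf.stalk w)
    (X.presheaf.stalk w ⧸
      (IsLocalRing.maximalIdeal (Y.presheaf.stalk (f w))).map (f.stalkMap w).hom)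

/-- Associated points of the pull-back of a quasi-coherent module along a flat morphism. -/
theorem isAssPoint_pullback_iff_of_flat [IsLocallyNoetherian X] [IsLocallyNoetherian Y] [Flat f]
    (E : Y.Modules) [E.IsQuasicoherent] (w : X) :
    Curv2.IsAssPoint ((Scheme.Modules.pullback f).obj E) w ↔
      Curv2.IsAssPoint E (f w) ∧ FibAssRingAt f w := by
  letI algAB := (f.stalkMap w).hom.toAlgebra
  letI : Module (Y.presheaf.stalk (f.base w))
      (((Scheme.Modules.pullback f).obj E).presheaf.stalk w) :=
    FlatMod.moduleStalkOver f ((Scheme.Modules.pullback f).obj E) w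
  haveI : IsScalarTower (Y.presheaf.stalk (f.base w)) (X.presheaf.stalk w)
      (((Scheme.Modules.pullback f).obj E).presheaf.stalk w) := IsScalarTower.of_compHom _ _ _
  haveI : Module.Flat (Y.presheaf.stalk (f.base w)) (X.presheaf.stalk w) := Flat.stalkMap f w
  haveI : IsLocalHom (algebraMap (Y.presheaf.stalk (f.base w)) (X.presheaf.stalk w)) := by
    change IsLocalHom (f.stalkMap w).hom
    infer_instance
  haveI : IsNoetherianRing (Y.presheaf.stalk (f.base w)) := inferInstance
  haveI : IsNoetherianRing (X.presheaf.stalk w) := inferInstance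
  obtain ⟨ψ, hψ⟩ := exists_isBaseChange_stalk f E w
  have h1 := LinearEquiv.AssociatedPrimes.eq hψ.equiv
  have h2 := AssTensorLocal.maximalIdeal_mem_ass_baseChange_iff (A := Y.presheaf.stalk (f.base w))
    (B := X.presheaf.stalk w) (E.presheaf.stalk (f.base w))
  unfold Curv2.IsAssPoint FibAssRingAt
  rw [← AssociatedPrimes.mem_iff, ← h1]
  exact h2

/-- Associated points of the structure sheaf of a fibre. -/
theorem isAssPoint_structureModule_fiber_iff [IsLocallyNoetherian X] (s : Y)
    (t : ↥(f.fiber s)) :
    Curv2.IsAssPoint (Coh.structureModule (f.fiber s)) t ↔ FibAssRingAt f (f.fiberι s t) := by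
  letI algBB' := ((f.fiberι s).stalkMap t).hom.toAlgebra
  have hsurj : Function.Surjective (algebraMap (X.presheaf.stalk (f.fiberι s t))
      ((f.fiber s).presheaf.stalk t)) := (f.fiberι s).stalkMap_surjective t
  haveI : IsNoetherianRing (X.presheaf.stalk ((f.fiberι s).base t)) := inferInstance
  have hker : RingHom.ker (algebraMap (X.presheaf.stalk ((f.fiberι s).base t))
      ((f.fiber s).presheaf.stalk t)) =
      (IsLocalRing.maximalIdeal ↑(Y.presheaf.stalk (f (f.fiberι s t)))).map
        (f.stalkMap (f.fiberι s t)).hom :=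
    le_antisymm (Groth.Agent.Lib.Helper49.ker_le_map f s t)
      (Groth.Agent.Lib.Helper49.map_le_ker f s t)
  have hcomap : (IsLocalRing.maximalIdeal ((f.fiber s).presheaf.stalk t)).comap
      (algebraMap (X.presheaf.stalk ((f.fiberι s).base t)) ((f.fiber s).presheaf.stalk t)) =
      IsLocalRing.maximalIdeal (X.presheaf.stalk ((f.fiberι s).base t)) := by
    haveI : IsLocalHom (algebraMap (X.presheaf.stalk ((f.fiberι s).base t))
        ((f.fiber s).presheaf.stalk t)) := by
      change IsLocalHom ((f.fiberι s).stalkMap t).hom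
      infer_instance
    exact AssTensorLocal.comap_maximalIdeal
  rw [isAssPoint_structureModule_iff]
  unfold FibAssRingAt
  rw [AssTensorLocal.mem_ass_self_iff_comap_mem_ass_quot hsurj, hcomap, hker]

end Groth.Agent.Lib.Helper97.AssFibre
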