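import Groth.Agent.Lib.Helper97.AssFibre
import Groth.Agent.Lib.Helper50.NoEmbSch
import Groth.Agent.Lib.Helper50.NoEmbProd

/-!
# Fibres of a base change of a field extension have no embedded points (helper97)

For a cartesian square `Z' → Z`, `Spec K → Spec k` with `k`, `K` fields and `Z'` locally Noetherian,
the fibres of `Z' → Z` (spectra of `κ(z) ⊗_k K`) have no embedded associated points.
-/

set_option autoImplicit false
set_option linter.style.haveILetI false
universe u

open AlgebraicGeometry CategoryTheory TensorProduct TopologicalSpace Limits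

namespace Groth.Agent.Lib.Helper97.AssFibre

open Groth.Agent.Lib.Helper50

theorem noEmbedded_structureModule_fiber_of_isPullback_field {Z Z' : Scheme.{u}}
    {k K : Type u} [Field k] [Field K] (φ : CommRingCat.of k ⟶ CommRingCat.of K)
    (ρ : Z ⟶ Spec (CommRingCat.of k)) (ρ' : Z' ⟶ Spec (CommRingCat.of K))
    (π : Z' ⟶ Z) (h : IsPullback π ρ' ρ (Spec.map φ)) [IsLocallyNoetherian Z'] (z : Z) :
    AssSch.NoEmbedded (Coh.structureModule (π.fiber z)) := by
  -- the fibre as a pull-back over `Spec k`
  have h1 : IsPullback (π.fiberToSpecResidueField z) (π.fiberι z ≫ ρ')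
      (Z.fromSpecResidueField z ≫ ρ) (Spec.map φ) :=
    (IsPullback.of_hasPullback π (Z.fromSpecResidueField z)).flip.paste_vert h
  let ψ : CommRingCat.of k ⟶ Z.residueField z := Spec.preimage (Z.fromSpecResidueField z ≫ ρ)
  have hψ : Spec.map ψ = Z.fromSpecResidueField z ≫ ρ := Spec.map_preimage _
  rw [← hψ] at h1
  letI : Algebra k (Z.residueField z) := ψ.hom.toAlgebra
  letI : Algebra k K := φ.hom.toAlgebra
  let e : π.fiber z ≅ Spec (CommRingCat.of ((Z.residueField z) ⊗[k] K)) :=
    h1.isoPullback ≪≫ pullbackSpecIso k (Z.residueField z) K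
  haveI : IsLocallyNoetherian (Spec (CommRingCat.of ((Z.residueField z) ⊗[k] K))) :=
    isLocallyNoetherian_of_isOpenImmersion e.inv
  haveI hN : IsNoetherianRing ((Z.residueField z) ⊗[k] K) :=
    isLocallyNoetherian_Spec (R := CommRingCat.of ((Z.residueField z) ⊗[k] K)).mp inferInstance
  have hNE : NoEmbRing ((Z.residueField z) ⊗[k] K) :=
    noEmbRing_tensor_of_noEmbRing (noEmbRing_of_isDomain (Z.residueField z))
  haveI : IsAffine (π.fiber z) := .of_isIso e.hom
  refine noEmbedded_of_forall_exists fun t => ⟨⊤, isAffineOpen_top _, trivial, ?_⟩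
  let er : Γ(π.fiber z, ⊤) ≃+* (Z.residueField z) ⊗[k] K :=
    ((Scheme.Γ.mapIso e.op).symm ≪≫ Scheme.ΓSpecIso _).commRingCatIsoToRingEquiv
  exact hNE.of_ringEquiv er

end Groth.Agent.Lib.Helper97.AssFibre
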