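import Groth.Agent.Lib.Helper97.AssProd
import Groth.Agent.Lib.Helper97.NoEmbFieldFibre
import Groth.Agent.Lib.Helper16.FlatPull.BaseChange

/-!
# Associated points of `F ⊗_S G` on `X ×_S Y` (helper97)
-/

set_option autoImplicit false
set_option linter.style.haveILetI false
set_option linter.unusedSectionVars false
universe u

open AlgebraicGeometry CategoryTheory TensorProduct TopologicalSpace Limits

namespace Groth.Agent.Lib.Helper97.AssFibre

open Groth.Agent.Lib.Helper97.StalkTensor Groth.Agent.Lib.Helper16.FlatPull

variable {X Y S : Scheme.{u}} (f : X ⟶ S) (g : Y ⟶ S)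

/-- The projection from the fibre of `X ×_S Y → X` over `x` to the fibre of `Y → S` over `f x`. -/
noncomputable def fiberProj (x : X) : (pullback.fst f g).fiber x ⟶ g.fiber (f x) :=
  pullback.map _ _ _ _ (pullback.snd f g) (Spec.map (f.residueFieldMap x)) f
    (IsPullback.of_hasPullback f g).flip.w.symm (by simp)

theorem isPullback_fiberProj (x : X) :
    IsPullback (fiberProj f g x) ((pullback.fst f g).fiberToSpecResidueField x)
      (g.fiberToSpecResidueField (f x)) (Spec.map (f.residueFieldMap x)) :=
  isPullback_fiberToSpecResidueField_of_isPullback (IsPullback.of_hasPullback f g).flip x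

theorem fiberProj_fiberι (x : X) :
    fiberProj f g x ≫ g.fiberι (f x) = (pullback.fst f g).fiberι x ≫ pullback.snd f g := by
  unfold fiberProj Scheme.Hom.fiberι
  exact pullback.lift_fst _ _ _

instance flat_fiberProj (x : X) : Flat (fiberProj f g x) := by
  have hφ : Flat (Spec.map (f.residueFieldMap x)) := by
    rw [Flat.SpecMap_iff]
    letI := (f.residueFieldMap x).hom.toAlgebra
    change Module.Flat (S.residueField (f x)) (X.residueField x)
    infer_instance
  exact MorphismProperty.of_isPullback (isPullback_fiberProj f g x).flip hφ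

theorem fiberProj_apply (x : X) (w : ↥((pullback.fst f g).fiber x)) :
    g.fiberι (f x) (fiberProj f g x w) = pullback.snd f g ((pullback.fst f g).fiberι x w) := by
  rw [← Scheme.Hom.comp_apply, ← Scheme.Hom.comp_apply, fiberProj_fiberι]

section Main

/-- Associated points are invariant under isomorphisms of quasi-coherent modules. -/
theorem isAssPoint_congr {Z : Scheme.{u}} [IsLocallyNoetherian Z] {M N : Z.Modules}
    [M.IsQuasicoherent] [N.IsQuasicoherent] (e : M ≅ N) (z : Z) :
    Curv2.IsAssPoint M z ↔ Curv2.IsAssPoint N z :=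
  ⟨fun h => Groth.Agent.Lib.Helper45.PrimaryUnique.isAssPoint_of_mono e.hom h,
    fun h => Groth.Agent.Lib.Helper45.PrimaryUnique.isAssPoint_of_mono e.inv h⟩

variable [IsLocallyNoetherian X] [IsLocallyNoetherian Y] [IsLocallyNoetherian (pullback f g)]
  (F : X.Modules) [F.IsQuasicoherent] (G : Y.Modules) [G.IsQuasicoherent]

/-- First step: the associated points of `F ⊗_S G` through the fibres of `X ×_S Y → X`. -/
theorem isAssPoint_tensorS_iff (hGfl : FlatMod.IsFlatOver g G) (z : ↥(pullback f g)) :
    Curv2.IsAssPoint (CohB1.tensorMod ((Scheme.Modules.pullback (pullback.fst f g)).obj F)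
        ((Scheme.Modules.pullback (pullback.snd f g)).obj G)) z ↔
      Curv2.IsAssPoint F (pullback.fst f g z) ∧
        FibAssAt (pullback.fst f g) ((Scheme.Modules.pullback (pullback.snd f g)).obj G) z := by
  haveI := isQuasicoherent_pullback (pullback.snd f g) G
  exact isAssPoint_pullback_tensor_iff' (pullback.fst f g) F _ z
    (isFlatOverAt_baseChange g (pullback.fst f g) (pullback.snd f g) f
      (IsPullback.of_hasPullback f g).flip G z (hGfl _))

/-- Second step: the relative associated points of `q^* G` over `X`, through the fibres of `Y → S`. -/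
theorem fibAssAt_fst_iff (x : X) (w : ↥((pullback.fst f g).fiber x)) :
    FibAssAt (pullback.fst f g) ((Scheme.Modules.pullback (pullback.snd f g)).obj G)
        ((pullback.fst f g).fiberι x w) ↔
      Curv2.IsAssPoint ((Scheme.Modules.pullback (g.fiberι (f x))).obj G) (fiberProj f g x w) ∧
        FibAssRingAt (fiberProj f g x) w := by
  haveI := isQuasicoherent_pullback (pullback.snd f g) G
  haveI := isQuasicoherent_pullback (g.fiberι (f x)) G
  haveI := isQuasicoherent_pullback ((pullback.fst f g).fiberι x)
    ((Scheme.Modules.pullback (pullback.snd f g)).obj G)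
  haveI := isQuasicoherent_pullback (fiberProj f g x)
    ((Scheme.Modules.pullback (g.fiberι (f x))).obj G)
  rw [← isAssPoint_fiber_iff (pullback.fst f g) _ x w]
  let e : (Scheme.Modules.pullback ((pullback.fst f g).fiberι x)).obj
        ((Scheme.Modules.pullback (pullback.snd f g)).obj G) ≅
      (Scheme.Modules.pullback (fiberProj f g x)).obj
        ((Scheme.Modules.pullback (g.fiberι (f x))).obj G) :=
    (Scheme.Modules.pullbackComp ((pullback.fst f g).fiberι x) (pullback.snd f g)).app G ≪≫
      (Scheme.Modules.pullbackCongr (fiberProj_fiberι f g x).symm).app G ≪≫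
      ((Scheme.Modules.pullbackComp (fiberProj f g x) (g.fiberι (f x))).app G).symm
  rw [isAssPoint_congr e]
  exact isAssPoint_pullback_iff_of_flat (fiberProj f g x) _ w

theorem exists_fiberι_eq {Z W : Scheme.{u}} (h : Z ⟶ W) (s : W) (z : Z) (hz : h z = s) :
    ∃ t : ↥(h.fiber s), h.fiberι s t = z := by
  have : z ∈ Set.range (h.fiberι s) := by
    rw [h.range_fiberι s]
    exact hz
  exact this

/-- An associated point of `F ⊗_S G` lies over an associated point of `F` and over an associated
point of the restriction of `G` to a fibre. -/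
theorem exists_mem_ass_fiber_of_isAssPoint (hGfl : FlatMod.IsFlatOver g G) (z : ↥(pullback f g))
    (hz : Curv2.IsAssPoint (CohB1.tensorMod ((Scheme.Modules.pullback (pullback.fst f g)).obj F)
        ((Scheme.Modules.pullback (pullback.snd f g)).obj G)) z) (s : S)
    (hs : f (pullback.fst f g z) = s) :
    Curv2.IsAssPoint F (pullback.fst f g z) ∧
      ∃ y' : ↥(g.fiber s), g.fiberι s y' = pullback.snd f g z ∧
        Curv2.IsAssPoint ((Scheme.Modules.pullback (g.fiberι s)).obj G) y' := by
  subst hs
  obtain ⟨hF, hfib⟩ := (isAssPoint_tensorS_iff f g F G hGfl z).mp hz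
  refine ⟨hF, ?_⟩
  obtain ⟨w, hw⟩ := exists_fiberι_eq (pullback.fst f g) (pullback.fst f g z) z rfl
  rw [← hw] at hfib
  obtain ⟨hy', -⟩ := (fibAssAt_fst_iff f g G _ w).mp hfib
  refine ⟨fiberProj f g _ w, ?_, hy'⟩
  rw [fiberProj_apply, hw]

/-- Two associated points of `F ⊗_S G`, one specializing to the other, with the same images in
`X` and in `Y`, are equal. -/
theorem eq_of_specializes_of_isAssPoint (hGfl : FlatMod.IsFlatOver g G) (z z' : ↥(pullback f g))
    (hz : Curv2.IsAssPoint (CohB1.tensorMod ((Scheme.Modules.pullback (pullback.fst f g)).obj F)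
        ((Scheme.Modules.pullback (pullback.snd f g)).obj G)) z)
    (hz' : Curv2.IsAssPoint (CohB1.tensorMod ((Scheme.Modules.pullback (pullback.fst f g)).obj F)
        ((Scheme.Modules.pullback (pullback.snd f g)).obj G)) z')
    (hspec : z' ⤳ z) (hp : pullback.fst f g z = pullback.fst f g z')
    (hq : pullback.snd f g z = pullback.snd f g z') : z = z' := by
  obtain ⟨w, hw⟩ := exists_fiberι_eq (pullback.fst f g) (pullback.fst f g z) z rfl
  obtain ⟨w', hw'⟩ := exists_fiberι_eq (pullback.fst f g) (pullback.fst f g z) z' hp.symm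
  have hfib := ((isAssPoint_tensorS_iff f g F G hGfl z).mp hz).2
  have hfib' := ((isAssPoint_tensorS_iff f g F G hGfl z').mp hz').2
  rw [← hw] at hfib
  rw [← hw'] at hfib'
  have hR := ((fibAssAt_fst_iff f g G _ w).mp hfib).2
  have hR' := ((fibAssAt_fst_iff f g G _ w').mp hfib').2
  have hπ : fiberProj f g _ w' = fiberProj f g _ w := by
    apply (g.fiberι _).isEmbedding.injective
    rw [fiberProj_apply, fiberProj_apply, hw, hw', hq]
  obtain ⟨t, ht⟩ := exists_fiberι_eq (fiberProj f g _) (fiberProj f g _ w) w rfl
  obtain ⟨t', ht'⟩ := exists_fiberι_eq (fiberProj f g _) (fiberProj f g _ w) w' hπ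
  have hww' : w' ⤳ w := by
    rw [← ((pullback.fst f g).fiberι _).isEmbedding.isInducing.specializes_iff, hw, hw']
    exact hspec
  have htt' : t' ⤳ t := by
    rw [← ((fiberProj f g _).fiberι _).isEmbedding.isInducing.specializes_iff, ht, ht']
    exact hww'
  rw [← ht] at hR
  rw [← ht'] at hR'
  have hA := (isAssPoint_structureModule_fiber_iff (fiberProj f g _) _ t).mpr hR
  have hA' := (isAssPoint_structureModule_fiber_iff (fiberProj f g _) _ t').mpr hR'
  have hNE := noEmbedded_structureModule_fiber_of_isPullback_field
    (f.residueFieldMap (pullback.fst f g z)) _ _ _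
    (isPullback_fiberProj f g (pullback.fst f g z)) (fiberProj f g _ w)
  have := hNE t hA t' hA' htt'
  rw [← hw, ← hw', ← ht, ← ht', this]

end Main

end Groth.Agent.Lib.Helper97.AssFibre
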