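import Groth.Agent.Lib.Helper97.RelAssBC
import Groth.Agent.Lib.Helper54.ZeroDim
import Groth.Agent.Lib.Helper50.GeomReduced
import Groth.Prelude.Def_RefFun
import Mathlib.RingTheory.LocalRing.Length

/-!
# Reduced modules and base change of the ground field (helper97)

* `length_stalk_pullback_of_flat`: the length of the stalk of a flat pull-back.
* `isReducedMod_pullback_of_fibRed`, `fibRed_of_isReducedMod_pullback`: reduced modules under a
  base change `Spec K → Spec k` of fields.
-/

set_option autoImplicit false
set_option linter.style.haveILetI false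
set_option linter.unusedSectionVars false
universe u

open AlgebraicGeometry CategoryTheory TensorProduct TopologicalSpace Limits

namespace Groth.Agent.Lib.Helper97.AssFibre

open Groth.Agent.Lib.Helper97.StalkTensor Groth.Agent.Lib.Helper16.FlatPull

section Alg

variable {R : Type*} [CommRing R]

theorem length_self_eq_one_of_isField (h : IsField R) : Module.length R R = 1 := by
  rw [Module.length_eq_one_iff, isSimpleModule_self_iff_isUnit]
  refine ⟨h.nontrivial, fun x hx => ?_⟩
  obtain ⟨y, hy⟩ := h.mul_inv_cancel hx
  exact IsUnit.of_mul_eq_one y hy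

theorem isReduced_of_length_self_eq_one (h : Module.length R R = 1) : IsReduced R := by
  rw [Module.length_eq_one_iff, isSimpleModule_self_iff_isUnit] at h
  obtain ⟨hnt, hu⟩ := h
  refine ⟨fun x hx => ?_⟩
  by_contra hne
  exact (hu x hne).not_isNilpotent hx

theorem flat_of_isField {M : Type*} [AddCommGroup M] [Module R M] (h : IsField R) :
    Module.Flat R M := by
  letI F := h.toField
  have : @Module.Flat R M F.toCommRing.toCommSemiring _ ‹_› := inferInstance
  exact this

end Alg

section Stalk

variable {X : Scheme.{u}}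

/-- The stalk of an isomorphism of modules, as a linear equivalence. -/
noncomputable def stalkLinearEquivOfIso {M N : X.Modules} (e : M ≅ N) (x : X) :
    M.presheaf.stalk x ≃ₗ[X.presheaf.stalk x] N.presheaf.stalk x :=
  LinearEquiv.ofLinearMap (RefHull.stalkMapₗ e.hom x) (RefHull.stalkMapₗ e.inv x)
    (by rw [← RefFun.stalkMapₗ_comp, e.inv_hom_id, RefFun.stalkMapₗ_id])
    (by rw [← RefFun.stalkMapₗ_comp, e.hom_inv_id, RefFun.stalkMapₗ_id])

theorem length_stalk_congr {M N : X.Modules} (e : M ≅ N) (x : X) :
    Module.length (X.presheaf.stalk x) (M.presheaf.stalk x) =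
      Module.length (X.presheaf.stalk x) (N.presheaf.stalk x) :=
  (stalkLinearEquivOfIso e x).length_eq

theorem length_stalk_of_eq (M : X.Modules) {x y : X} (h : x = y) :
    Module.length (X.presheaf.stalk x) (M.presheaf.stalk x) =
      Module.length (X.presheaf.stalk y) (M.presheaf.stalk y) := by
  subst h
  rfl

end Stalk

section Length

variable {X Y : Scheme.{u}} (f : X ⟶ Y)

/-- The length of the stalk of a flat pull-back: `ℓ((f^*E)_w) = ℓ(E_{f w}) · ℓ(O_w / m_{f w} O_w)`. -/
theorem length_stalk_pullback_of_flat [Flat f] (E : Y.Modules) [E.IsQuasicoherent] (w : X) :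
    Module.length (X.presheaf.stalk w) (((Scheme.Modules.pullback f).obj E).presheaf.stalk w) =
      Module.length (Y.presheaf.stalk (f w)) (E.presheaf.stalk (f w)) *
        Module.length (X.presheaf.stalk w)
          (X.presheaf.stalk w ⧸
            (IsLocalRing.maximalIdeal (Y.presheaf.stalk (f w))).map (f.stalkMap w).hom) := by
  letI algAB := (f.stalkMap w).hom.toAlgebra
  letI : Module (Y.presheaf.stalk (f.base w))
      (((Scheme.Modules.pullback f).obj E).presheaf.stalk w) :=
    FlatMod.moduleStalkOver f ((Scheme.Modules.pullback f).obj E) w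
  haveI : IsScalarTower (Y.presheaf.stalk (f.base w)) (X.presheaf.stalk w)
      (((Scheme.Modules.pullback f).obj E).presheaf.stalk w) := IsScalarTower.of_compHom _ _ _
  haveI : Module.Flat (Y.presheaf.stalk (f.base w)) (X.presheaf.stalk w) := Flat.stalkMap f w
  haveI : IsLocalHom (algebraMap (Y.presheaf.stalk (f.base w)) (X.presheaf.stalk w)) := by
    change IsLocalHom (f.stalkMap w).hom
    infer_instance
  obtain ⟨ψ, hψ⟩ := exists_isBaseChange_stalk f E w
  rw [← hψ.equiv.length_eq]
  exact IsLocalRing.length_baseChange (Y.presheaf.stalk (f.base w)) (X.presheaf.stalk w)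
    (E.presheaf.stalk (f.base w))

/-- `ℓ(O_w / m_{f w} O_w)` is the length of the local ring of the fibre at `w`. -/
theorem length_quot_map_maximalIdeal (s : Y) (t : ↥(f.fiber s)) :
    Module.length (X.presheaf.stalk (f.fiberι s t))
        (X.presheaf.stalk (f.fiberι s t) ⧸
          (IsLocalRing.maximalIdeal (Y.presheaf.stalk (f (f.fiberι s t)))).map
            (f.stalkMap (f.fiberι s t)).hom) =
      Module.length ((f.fiber s).presheaf.stalk t) ((f.fiber s).presheaf.stalk t) := by
  letI algBB' := ((f.fiberι s).stalkMap t).hom.toAlgebra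
  have hsurj : Function.Surjective (algebraMap (X.presheaf.stalk (f.fiberι s t))
      ((f.fiber s).presheaf.stalk t)) := (f.fiberι s).stalkMap_surjective t
  have hker : RingHom.ker (algebraMap (X.presheaf.stalk ((f.fiberι s).base t))
      ((f.fiber s).presheaf.stalk t)) =
      (IsLocalRing.maximalIdeal ↑(Y.presheaf.stalk (f (f.fiberι s t)))).map
        (f.stalkMap (f.fiberι s t)).hom :=
    le_antisymm (Groth.Agent.Lib.Helper49.ker_le_map f s t)
      (Groth.Agent.Lib.Helper49.map_le_ker f s t)
  let e₂ : (X.presheaf.stalk (f.fiberι s t) ⧸ RingHom.ker (algebraMap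
        (X.presheaf.stalk (f.fiberι s t)) ((f.fiber s).presheaf.stalk t)))
      ≃ₗ[X.presheaf.stalk (f.fiberι s t)] (f.fiber s).presheaf.stalk t :=
    (Ideal.quotientKerAlgEquivOfSurjective
      (f := Algebra.ofId (X.presheaf.stalk (f.fiberι s t)) ((f.fiber s).presheaf.stalk t))
      hsurj).toLinearEquiv
  rw [← Module.length_eq_of_surjective hsurj, ← e₂.length_eq, hker]

/-- The length of the stalk of a flat pull-back at a point of a fibre. -/
theorem length_stalk_pullback_fiberι [Flat f] (E : Y.Modules) [E.IsQuasicoherent] (s : Y)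
    (t : ↥(f.fiber s)) :
    Module.length (X.presheaf.stalk (f.fiberι s t))
        (((Scheme.Modules.pullback f).obj E).presheaf.stalk (f.fiberι s t)) =
      Module.length (Y.presheaf.stalk (f (f.fiberι s t))) (E.presheaf.stalk (f (f.fiberι s t))) *
        Module.length ((f.fiber s).presheaf.stalk t) ((f.fiber s).presheaf.stalk t) := by
  rw [length_stalk_pullback_of_flat, length_quot_map_maximalIdeal]

end Length

section Square

theorem enat_mul_eq_one {a b : ℕ∞} (h : a * b = 1) : a = 1 ∧ b = 1 :=
  ⟨isUnit_iff_eq_one.mp (IsUnit.of_mul_eq_one b h),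
    isUnit_iff_eq_one.mp (IsUnit.of_mul_eq_one a (by rwa [mul_comm] at h))⟩

theorem mem_support_structureModule {T : Scheme.{u}} (z : T) :
    z ∈ CohB1.support (Coh.structureModule T) := by
  intro hz
  have hz' : Subsingleton ((Coh.structureModule T).presheaf.stalk z) := hz
  have e := Groth.Agent.Lib.Helper45.RefHullStalk.unitStalkEquiv (X := T) z
  haveI : Nontrivial (T.presheaf.stalk z) := inferInstance
  exact not_subsingleton (T.presheaf.stalk z) (e.symm.toEquiv.subsingleton)

variable {k : Type u} [Field k] {Z : Scheme.{u}} (ρ : Z ⟶ Spec (CommRingCat.of k))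

/-- The `k`-algebra structure of the residue field at a point of a `k`-scheme. -/
noncomputable abbrev resAlg (z : Z) : Algebra k (Z.residueField z) :=
  (Spec.preimage (Z.fromSpecResidueField z ≫ ρ)).hom.toAlgebra

theorem spec_map_algebraMap_resAlg (z : Z) :
    Spec.map (CommRingCat.ofHom (@algebraMap k (Z.residueField z) _ _ (resAlg ρ z))) =
      Z.fromSpecResidueField z ≫ ρ := Spec.map_preimage _

/-- The fibre ring `κ(z) ⊗_k K` is reduced. -/
def FibRed (K : Type u) [Field K] [Algebra k K] (z : Z) : Prop :=
  letI := resAlg ρ z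
  IsReduced ((Z.residueField z) ⊗[k] K)

variable {K : Type u} [Field K] [Algebra k K] {Z' : Scheme.{u}}
  (ρ' : Z' ⟶ Spec (CommRingCat.of K)) (π : Z' ⟶ Z)
  (h : IsPullback π ρ' ρ (Spec.map (CommRingCat.ofHom (algebraMap k K))))

include h

/-- The fibre of `π` over `z` is the spectrum of `κ(z) ⊗_k K`. -/
theorem nonempty_fiber_iso_spec_tensor (z : Z) :
    letI := resAlg ρ z
    Nonempty (π.fiber z ≅ Spec (CommRingCat.of ((Z.residueField z) ⊗[k] K))) := by
  letI := resAlg ρ z
  have h1 : IsPullback (π.fiberToSpecResidueField z) (π.fiberι z ≫ ρ')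
      (Z.fromSpecResidueField z ≫ ρ) (Spec.map (CommRingCat.ofHom (algebraMap k K))) :=
    (IsPullback.of_hasPullback π (Z.fromSpecResidueField z)).flip.paste_vert h
  rw [← spec_map_algebraMap_resAlg ρ z] at h1
  exact ⟨h1.isoPullback ≪≫ pullbackSpecIso k (Z.residueField z) K⟩

theorem isReduced_fiber_iff (z : Z) : IsReduced (π.fiber z) ↔ FibRed ρ K z := by
  letI := resAlg ρ z
  obtain ⟨e⟩ := nonempty_fiber_iso_spec_tensor ρ ρ' π h z
  unfold FibRed
  rw [← affine_isReduced_iff (CommRingCat.of ((Z.residueField z) ⊗[k] K))]
  exact ⟨fun _ => isReduced_of_isOpenImmersion e.inv, fun _ => isReduced_of_isOpenImmersion e.hom⟩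

theorem flat_of_isPullback_field : Flat π := by
  have hφ : Flat (Spec.map (CommRingCat.ofHom (algebraMap k K))) := by
    rw [Flat.SpecMap_iff]
    change (algebraMap k K).Flat
    rw [RingHom.flat_algebraMap_iff]
    infer_instance
  exact MorphismProperty.of_isPullback h.flip hφ

theorem surjective_of_isPullback_field : Surjective π := by
  have hφ : Surjective (Spec.map (CommRingCat.ofHom (algebraMap k K))) := by
    refine ⟨fun x => ?_⟩
    haveI : Subsingleton ↥(Spec (CommRingCat.of k)) :=
      (inferInstance : Subsingleton (PrimeSpectrum k))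
    haveI : Nonempty ↥(Spec (CommRingCat.of K)) :=
      (inferInstance : Nonempty (PrimeSpectrum K))
    exact ⟨Classical.arbitrary _, Subsingleton.elim _ _⟩
  exact MorphismProperty.of_isPullback h.flip hφ

theorem noEmbedded_fiber [IsLocallyNoetherian Z'] (z : Z) :
    AssSch.NoEmbedded (Coh.structureModule (π.fiber z)) :=
  noEmbedded_structureModule_fiber_of_isPullback_field (CommRingCat.ofHom (algebraMap k K))
    ρ ρ' π h z

/-- For a finite extension, all points of the fibres are associated points of the fibre. -/
theorem isAssPoint_structureModule_fiber_of_finite [Module.Finite k K] [IsLocallyNoetherian Z']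
    (z : Z) (t : ↥(π.fiber z)) :
    Curv2.IsAssPoint (Coh.structureModule (π.fiber z)) t := by
  letI := resAlg ρ z
  obtain ⟨e⟩ := nonempty_fiber_iso_spec_tensor ρ ρ' π h z
  haveI : Module.Finite (Z.residueField z) ((Z.residueField z) ⊗[k] K) := inferInstance
  haveI : IsArtinianRing ((Z.residueField z) ⊗[k] K) :=
    IsArtinianRing.of_finite (Z.residueField z) _
  haveI : DiscreteTopology ↥(Spec (CommRingCat.of ((Z.residueField z) ⊗[k] K))) :=
    inferInstanceAs (DiscreteTopology (PrimeSpectrum _))
  haveI : T1Space ↥(π.fiber z) := e.hom.homeomorph.isEmbedding.t1Space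
  obtain ⟨t₀, ht₀, -, hspec⟩ :=
    Groth.Agent.Lib.Helper45.NowhereDense.exists_minimal_ass_specializes
      (Coh.structureModule (π.fiber z))
      (Groth.Agent.Lib.Helper45.RefHullStalk.isCoh_structureModule _)
      (mem_support_structureModule t)
  rw [← hspec.eq]
  exact ht₀

variable [IsLocallyNoetherian Z] [IsLocallyNoetherian Z']

/-- A reduced module whose associated points have reduced fibre rings `κ(x) ⊗_k K` pulls back to
a reduced module. -/
theorem isReducedMod_pullback_of_fibRed (F : Z.Modules) [F.IsQuasicoherent]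
    (hNE : AssSch.NoEmbedded F)
    (hlen : ∀ x ∈ AssSch.Ass F, Module.length (Z.presheaf.stalk x) (F.presheaf.stalk x) = 1)
    (hred : ∀ x ∈ AssSch.Ass F, FibRed ρ K x) :
    AssSch.IsReducedMod ((Scheme.Modules.pullback π).obj F) := by
  haveI : Flat π := flat_of_isPullback_field ρ ρ' π h
  haveI := isQuasicoherent_pullback π F
  have key : ∀ x' : Z', Curv2.IsAssPoint ((Scheme.Modules.pullback π).obj F) x' →
      Curv2.IsAssPoint F (π x') ∧ ∃ t : ↥(π.fiber (π x')), π.fiberι (π x') t = x' ∧
        Curv2.IsAssPoint (Coh.structureModule (π.fiber (π x'))) t := by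
    intro x' hx'
    obtain ⟨h1, h2⟩ := (isAssPoint_pullback_iff_of_flat π F x').mp hx'
    obtain ⟨t, ht⟩ := exists_fiberι_eq π (π x') x' rfl
    refine ⟨h1, t, ht, ?_⟩
    rw [isAssPoint_structureModule_fiber_iff π (π x') t, ht]
    exact h2
  constructor
  · intro x' hx' y' hy' hspec
    obtain ⟨hx, t, ht, htA⟩ := key x' hx'
    obtain ⟨hy, -⟩ := key y' hy'
    have hxy : π x' = π y' := hNE _ hx _ hy (hspec.map π.continuous)
    obtain ⟨t', ht'⟩ := exists_fiberι_eq π (π x') y' hxy.symm
    have ht'A : Curv2.IsAssPoint (Coh.structureModule (π.fiber (π x'))) t' := by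
      rw [isAssPoint_structureModule_fiber_iff π (π x') t', ht']
      exact ((isAssPoint_pullback_iff_of_flat π F y').mp hy').2
    have htt : t' ⤳ t := by
      rw [← (π.fiberι _).isEmbedding.isInducing.specializes_iff, ht, ht']
      exact hspec
    have := noEmbedded_fiber ρ ρ' π h (π x') t htA t' ht'A htt
    rw [← ht, ← ht', this]
  · intro x' hx'
    obtain ⟨hx, t, ht, htA⟩ := key x' hx'
    haveI hT : IsReduced (π.fiber (π x')) :=
      (isReduced_fiber_iff ρ ρ' π h (π x')).mpr (hred _ hx)
    have hmin := (isAssPoint_structureModule_iff_forall_specializes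
      (noEmbedded_fiber ρ ρ' π h (π x')) t).mp htA
    have hfield := Groth.Agent.Lib.Helper54.isField_stalk_of_forall_specializes_eq
      (π.fiber (π x')) t hmin
    have hl := length_stalk_pullback_fiberι π F (π x') t
    rw [length_self_eq_one_of_isField hfield, mul_one] at hl
    have h2 : Module.length (Z.presheaf.stalk (π (π.fiberι (π x') t)))
        (F.presheaf.stalk (π (π.fiberι (π x') t))) = 1 := by
      rw [length_stalk_of_eq F (congrArg (fun w => π w) ht)]
      exact hlen _ hx
    rw [length_stalk_of_eq _ ht.symm, hl, h2]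

/-- Conversely, for a finite extension `K` of `k`: if the pull-back of `F` is reduced, then `F`
is reduced and the fibre rings at its associated points are reduced. -/
theorem fibRed_of_isReducedMod_pullback [Module.Finite k K] (F : Z.Modules) [F.IsQuasicoherent]
    (hred : AssSch.IsReducedMod ((Scheme.Modules.pullback π).obj F)) :
    AssSch.NoEmbedded F ∧ ∀ x ∈ AssSch.Ass F,
      Module.length (Z.presheaf.stalk x) (F.presheaf.stalk x) = 1 ∧ FibRed ρ K x := by
  haveI : Flat π := flat_of_isPullback_field ρ ρ' π h
  haveI : Surjective π := surjective_of_isPullback_field ρ ρ' π h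
  haveI := isQuasicoherent_pullback π F
  have key : ∀ x' : Z', Curv2.IsAssPoint F (π x') →
      Curv2.IsAssPoint ((Scheme.Modules.pullback π).obj F) x' := by
    intro x' hx
    rw [isAssPoint_pullback_iff_of_flat π F x']
    refine ⟨hx, ?_⟩
    obtain ⟨t, ht⟩ := exists_fiberι_eq π (π x') x' rfl
    rw [← ht, ← isAssPoint_structureModule_fiber_iff π (π x') t]
    exact isAssPoint_structureModule_fiber_of_finite ρ ρ' π h (π x') t
  refine ⟨?_, ?_⟩
  · intro x hx y hy hspec
    obtain ⟨x', rfl⟩ := π.surjective x
    obtain ⟨y', hy'x', rfl⟩ := (Flat.generalizingMap (f := π)) hspec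
    have := hred.1 x' (key x' hx) y' (key y' hy) hy'x'
    rw [this]
  · intro x hx
    obtain ⟨x', rfl⟩ := π.surjective x
    have hall : ∀ t : ↥(π.fiber (π x')),
        Module.length (Z.presheaf.stalk (π (π.fiberι (π x') t)))
          (F.presheaf.stalk (π (π.fiberι (π x') t))) = 1 ∧
        Module.length ((π.fiber (π x')).presheaf.stalk t)
          ((π.fiber (π x')).presheaf.stalk t) = 1 := by
      intro t
      have hιt : π (π.fiberι (π x') t) = π x' := apply_fiberι' π (π x') t
      have hA : Curv2.IsAssPoint ((Scheme.Modules.pullback π).obj F) (π.fiberι (π x') t) :=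
        key _ (by rw [hιt]; exact hx)
      have h1 := hred.2 _ hA
      rw [length_stalk_pullback_fiberι π F (π x') t] at h1
      exact enat_mul_eq_one h1
    constructor
    · obtain ⟨t, ht⟩ := exists_fiberι_eq π (π x') x' rfl
      have := (hall t).1
      rwa [length_stalk_of_eq F (apply_fiberι' π (π x') t)] at this
    · rw [← isReduced_fiber_iff ρ ρ' π h (π x')]
      haveI : ∀ t : ↥(π.fiber (π x')),
          _root_.IsReduced ((π.fiber (π x')).presheaf.stalk t) :=
        fun t => isReduced_of_length_self_eq_one (hall t).2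
      exact isReduced_of_isReduced_stalk _

end Square

section FBaseSec

variable {k : Type u} [Field k] {X : Scheme.{u}} (f : X ⟶ Spec (CommRingCat.of k))

theorem isPullback_bc (K : Type u) [Field K] [Algebra k K] :
    IsPullback (FBase.bcπ f K) (FBase.bcStr f K) f
      (Spec.map (CommRingCat.ofHom (algebraMap k K))) :=
  IsPullback.of_hasPullback _ _

theorem isLocallyNoetherian_bc_of_finite [IsLocallyNoetherian X] (K : Type u) [Field K]
    [Algebra k K] [Module.Finite k K] : IsLocallyNoetherian (FBase.bc f K) := by
  haveI : LocallyOfFiniteType (Spec.map (CommRingCat.ofHom (algebraMap k K))) := by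
    rw [HasRingHomProperty.Spec_iff (P := @LocallyOfFiniteType)]
    change (algebraMap k K).FiniteType
    rw [RingHom.finiteType_algebraMap]
    infer_instance
  unfold FBase.bc
  infer_instance

/-- If `κ(x) ⊗_k k'` is reduced for all finite purely inseparable `k'`, then `κ(x) ⊗_k K` is
reduced for every extension `K`. -/
theorem fibRed_of_forall_finite_isPurelyInseparable (x : X)
    (h : ∀ (k' : Type u) [Field k'] [Algebra k k'] [FiniteDimensional k k']
      [IsPurelyInseparable k k'], FibRed f k' x)
    (K : Type u) [Field K] [Algebra k K] : FibRed f K x := by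
  letI := resAlg f x
  haveI : Algebra.IsGeometricallyReduced k (X.residueField x) := by
    apply Groth.Agent.Lib.Helper50.isGeometricallyReduced_of_forall_finite_isPurelyInseparable
    intro k' _ _ _ _
    haveI : IsReduced ((X.residueField x) ⊗[k] k') := h k'
    exact isReduced_of_injective (Algebra.TensorProduct.comm k k' (X.residueField x))
      (Algebra.TensorProduct.comm k k' (X.residueField x)).injective
  haveI : IsReduced (K ⊗[k] (X.residueField x)) :=
    Groth.Agent.Lib.Helper50.isReduced_tensor_of_isGeometricallyReduced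
  exact isReduced_of_injective (Algebra.TensorProduct.comm k (X.residueField x) K)
    (Algebra.TensorProduct.comm k (X.residueField x) K).injective

/-- A quasi-coherent module which becomes reduced after every finite purely inseparable extension
is reduced, and the residue fields of its associated points are geometrically reduced. -/
theorem geomRed_of_forall_finite_isPurelyInseparable [IsLocallyNoetherian X] (F : X.Modules)
    [F.IsQuasicoherent]
    (H : ∀ (k' : Type u) [Field k'] [Algebra k k'] [FiniteDimensional k k']
      [IsPurelyInseparable k k'],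
      AssSch.IsReducedMod ((Scheme.Modules.pullback (FBase.bcπ f k')).obj F)) :
    AssSch.NoEmbedded F ∧ ∀ x ∈ AssSch.Ass F,
      Module.length (X.presheaf.stalk x) (F.presheaf.stalk x) = 1 ∧
        ∀ (K : Type u) [Field K] [Algebra k K], FibRed f K x := by
  have step : ∀ (k' : Type u) [Field k'] [Algebra k k'] [FiniteDimensional k k']
      [IsPurelyInseparable k k'], AssSch.NoEmbedded F ∧ ∀ x ∈ AssSch.Ass F,
        Module.length (X.presheaf.stalk x) (F.presheaf.stalk x) = 1 ∧ FibRed f k' x := by
    intro k' _ _ _ _
    haveI := isLocallyNoetherian_bc_of_finite f k'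
    exact fibRed_of_isReducedMod_pullback f (FBase.bcStr f k') (FBase.bcπ f k')
      (isPullback_bc f k') F (H k')
  refine ⟨(step k).1, fun x hx => ⟨((step k).2 x hx).1, ?_⟩⟩
  intro K _ _
  exact fibRed_of_forall_finite_isPurelyInseparable f x
    (fun k' _ _ _ _ => ((step k').2 x hx).2) K

end FBaseSec

end Groth.Agent.Lib.Helper97.AssFibre
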