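import Groth.Agent.Lib.Helper97.AssProd2
import Groth.Agent.Lib.Helper45.NowhereDense
import Groth.Agent.Lib.Helper45.RefHullStalk

/-!
# Relative associated points and base change (helper97)

For `f : X ⟶ S` locally of finite type, `g : S' ⟶ S` and `F` quasi-coherent on `X`, the relative
associated points of the pull-back of `F` to `X' = X ×_S S'` over `S'`.
-/

set_option autoImplicit false
set_option linter.style.haveILetI false
set_option linter.unusedSectionVars false
universe u

open AlgebraicGeometry CategoryTheory TensorProduct TopologicalSpace Limits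

namespace Groth.Agent.Lib.Helper97.AssFibre

open Groth.Agent.Lib.Helper97.StalkTensor Groth.Agent.Lib.Helper16.FlatPull

variable {X S S' : Scheme.{u}} (f : X ⟶ S) (g : S' ⟶ S)

/-- The fibres of a morphism locally of finite type are locally Noetherian. -/
theorem isLocallyNoetherian_fiber_of_locallyOfFiniteType [LocallyOfFiniteType f] (s : S) :
    IsLocallyNoetherian (f.fiber s) := by
  haveI : LocallyOfFiniteType (f.fiberToSpecResidueField s) :=
    MorphismProperty.pullback_snd _ _ inferInstance
  exact LocallyOfFiniteType.isLocallyNoetherian (f.fiberToSpecResidueField s)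

/-- The projection from the fibre of `X ×_S S' → S'` over `s'` to the fibre of `X → S` over
`g s'`. -/
noncomputable def fiberProjSnd (s' : S') : (pullback.snd f g).fiber s' ⟶ f.fiber (g s') :=
  pullback.map _ _ _ _ (pullback.fst f g) (Spec.map (g.residueFieldMap s')) g
    (IsPullback.of_hasPullback f g).w.symm (by simp)

theorem isPullback_fiberProjSnd (s' : S') :
    IsPullback (fiberProjSnd f g s') ((pullback.snd f g).fiberToSpecResidueField s')
      (f.fiberToSpecResidueField (g s')) (Spec.map (g.residueFieldMap s')) :=
  isPullback_fiberToSpecResidueField_of_isPullback (IsPullback.of_hasPullback f g) s'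

theorem fiberProjSnd_fiberι (s' : S') :
    fiberProjSnd f g s' ≫ f.fiberι (g s') = (pullback.snd f g).fiberι s' ≫ pullback.fst f g := by
  unfold fiberProjSnd Scheme.Hom.fiberι
  exact pullback.lift_fst _ _ _

instance flat_fiberProjSnd (s' : S') : Flat (fiberProjSnd f g s') := by
  have hφ : Flat (Spec.map (g.residueFieldMap s')) := by
    rw [Flat.SpecMap_iff]
    letI := (g.residueFieldMap s').hom.toAlgebra
    change Module.Flat (S.residueField (g s')) (S'.residueField s')
    infer_instance
  exact MorphismProperty.of_isPullback (isPullback_fiberProjSnd f g s').flip hφ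

theorem fiberProjSnd_apply (s' : S') (w : ↥((pullback.snd f g).fiber s')) :
    f.fiberι (g s') (fiberProjSnd f g s' w) =
      pullback.fst f g ((pullback.snd f g).fiberι s' w) := by
  rw [← Scheme.Hom.comp_apply, ← Scheme.Hom.comp_apply, fiberProjSnd_fiberι]

/-- On a locally Noetherian scheme whose structure sheaf has no embedded points, the associated
points of the structure sheaf are the points without proper generization. -/
theorem isAssPoint_structureModule_iff_forall_specializes {T : Scheme.{u}} [IsLocallyNoetherian T]
    (hNE : AssSch.NoEmbedded (Coh.structureModule T)) (y : T) :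
    Curv2.IsAssPoint (Coh.structureModule T) y ↔ ∀ y' : T, y' ⤳ y → y' = y := by
  have hsupp : ∀ z : T, z ∈ CohB1.support (Coh.structureModule T) := by
    intro z hz
    have hz' : Subsingleton ((Coh.structureModule T).presheaf.stalk z) := hz
    have e := Groth.Agent.Lib.Helper45.RefHullStalk.unitStalkEquiv (X := T) z
    haveI : Nontrivial (T.presheaf.stalk z) := inferInstance
    exact not_subsingleton (T.presheaf.stalk z) (e.symm.toEquiv.subsingleton)
  constructor
  · intro hy y' hy'
    obtain ⟨x, hx, -, hxy'⟩ := Groth.Agent.Lib.Helper45.NowhereDense.exists_minimal_ass_specializes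
      (Coh.structureModule T) (Groth.Agent.Lib.Helper45.RefHullStalk.isCoh_structureModule T)
      (hsupp y')
    have hxy : y = x := hNE y hy x hx (hxy'.trans hy')
    subst hxy
    exact (hxy'.antisymm hy').eq.symm
  · intro hmin
    obtain ⟨x, hx, -, hxy⟩ := Groth.Agent.Lib.Helper45.NowhereDense.exists_minimal_ass_specializes
      (Coh.structureModule T) (Groth.Agent.Lib.Helper45.RefHullStalk.isCoh_structureModule T)
      (hsupp y)
    rw [← hmin x hxy]
    exact hx

/-- Transport of associated points of the restriction to a fibre along an equality of base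
points. -/
theorem isAssPoint_fiber_transport (F : X.Modules) {s₁ s₂ : S} (h : s₁ = s₂)
    (z₁ : ↥(f.fiber s₁)) (z₂ : ↥(f.fiber s₂)) (hz : f.fiberι s₁ z₁ = f.fiberι s₂ z₂) :
    Curv2.IsAssPoint ((Scheme.Modules.pullback (f.fiberι s₁)).obj F) z₁ ↔
      Curv2.IsAssPoint ((Scheme.Modules.pullback (f.fiberι s₂)).obj F) z₂ := by
  subst h
  obtain rfl := (f.fiberι s₁).isEmbedding.injective hz
  rfl

theorem apply_fiberι' {Z W : Scheme.{u}} (h : Z ⟶ W) (s : W) (t : ↥(h.fiber s)) :
    h (h.fiberι s t) = s := by
  have : (h.fiberι s) t ∈ Set.range (h.fiberι s) := ⟨t, rfl⟩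
  rw [h.range_fiberι s] at this
  exact this

/-- Relative associated points of a quasi-coherent module after an arbitrary base change. -/
theorem isAssPoint_fiber_baseChange_iff [LocallyOfFiniteType f] (F : X.Modules)
    [F.IsQuasicoherent] (x' : ↥(pullback f g)) :
    Curv2.IsAssPoint
        ((Scheme.Modules.pullback ((pullback.snd f g).fiberι ((pullback.snd f g) x'))).obj
          ((Scheme.Modules.pullback (pullback.fst f g)).obj F))
        ((pullback.snd f g).asFiber x') ↔
      Curv2.IsAssPoint ((Scheme.Modules.pullback (f.fiberι (f ((pullback.fst f g) x')))).obj F)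
          (f.asFiber ((pullback.fst f g) x')) ∧
        ∀ x'' : ↥(pullback f g), (pullback.snd f g) x'' = (pullback.snd f g) x' →
          (pullback.fst f g) x'' = (pullback.fst f g) x' → x'' ⤳ x' → x'' = x' := by
  set s' := (pullback.snd f g) x' with hs'
  set z' := (pullback.snd f g).asFiber x' with hz'
  set π := fiberProjSnd f g s' with hπ
  haveI : LocallyOfFiniteType (pullback.snd f g) := MorphismProperty.pullback_snd _ _ inferInstance
  haveI : IsLocallyNoetherian ((pullback.snd f g).fiber s') :=
    isLocallyNoetherian_fiber_of_locallyOfFiniteType _ _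
  haveI : IsLocallyNoetherian (f.fiber (g s')) :=
    isLocallyNoetherian_fiber_of_locallyOfFiniteType _ _
  haveI := isQuasicoherent_pullback (pullback.fst f g) F
  haveI := isQuasicoherent_pullback (f.fiberι (g s')) F
  haveI := isQuasicoherent_pullback ((pullback.snd f g).fiberι s')
    ((Scheme.Modules.pullback (pullback.fst f g)).obj F)
  haveI := isQuasicoherent_pullback π ((Scheme.Modules.pullback (f.fiberι (g s'))).obj F)
  let e : (Scheme.Modules.pullback ((pullback.snd f g).fiberι s')).obj
        ((Scheme.Modules.pullback (pullback.fst f g)).obj F) ≅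
      (Scheme.Modules.pullback π).obj ((Scheme.Modules.pullback (f.fiberι (g s'))).obj F) :=
    (Scheme.Modules.pullbackComp ((pullback.snd f g).fiberι s') (pullback.fst f g)).app F ≪≫
      (Scheme.Modules.pullbackCongr (fiberProjSnd_fiberι f g s').symm).app F ≪≫
      ((Scheme.Modules.pullbackComp π (f.fiberι (g s'))).app F).symm
  rw [isAssPoint_congr e, isAssPoint_pullback_iff_of_flat π _ z']
  have hgs : g s' = f ((pullback.fst f g) x') := by
    rw [hs', ← Scheme.Hom.comp_apply, ← Scheme.Hom.comp_apply, pullback.condition]
  have hιz' : (pullback.snd f g).fiberι s' z' = x' := Scheme.Hom.fiberι_asFiber _ _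
  have h1 : Curv2.IsAssPoint ((Scheme.Modules.pullback (f.fiberι (g s'))).obj F) (π z') ↔
      Curv2.IsAssPoint ((Scheme.Modules.pullback (f.fiberι (f ((pullback.fst f g) x')))).obj F)
          (f.asFiber ((pullback.fst f g) x')) := by
    apply isAssPoint_fiber_transport f F hgs
    rw [fiberProjSnd_apply, hιz', Scheme.Hom.fiberι_asFiber]
  have h2 : FibAssRingAt π z' ↔
      ∀ x'' : ↥(pullback f g), (pullback.snd f g) x'' = s' →
          (pullback.fst f g) x'' = (pullback.fst f g) x' → x'' ⤳ x' → x'' = x' := by
    obtain ⟨t, ht⟩ := exists_fiberι_eq π (π z') z' rfl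
    have hNE := noEmbedded_structureModule_fiber_of_isPullback_field
      (g.residueFieldMap s') _ _ _ (isPullback_fiberProjSnd f g s') (π z')
    haveI : IsLocallyNoetherian (π.fiber (π z')) := inferInstance
    rw [← ht, ← isAssPoint_structureModule_fiber_iff π (π z') t,
      isAssPoint_structureModule_iff_forall_specializes hNE t]
    constructor
    · intro hmin x'' hs hx hspec
      obtain ⟨z'', hz''⟩ := exists_fiberι_eq (pullback.snd f g) s' x'' hs
      have hπz : π z'' = π z' := by
        apply (f.fiberι _).isEmbedding.injective
        rw [fiberProjSnd_apply, fiberProjSnd_apply, hz'', hιz', hx]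
      obtain ⟨t'', ht''⟩ := exists_fiberι_eq π (π z') z'' hπz
      have hzz : z'' ⤳ z' := by
        rw [← ((pullback.snd f g).fiberι s').isEmbedding.isInducing.specializes_iff, hz'', hιz']
        exact hspec
      have htt : t'' ⤳ t := by
        rw [← (π.fiberι _).isEmbedding.isInducing.specializes_iff, ht, ht'']
        exact hzz
      have := hmin t'' htt
      rw [← hz'', ← ht'', this, ht, hιz']
    · intro hmax t'' hspec
      apply (π.fiberι _).isEmbedding.injective
      apply ((pullback.snd f g).fiberι s').isEmbedding.injective
      rw [ht, hιz']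
      apply hmax
      · exact apply_fiberι' _ _ _
      · rw [← fiberProjSnd_apply, apply_fiberι' π (π z') t'', fiberProjSnd_apply, hιz']
      · have h3 := (hspec.map (π.fiberι (π z')).continuous).map
          ((pullback.snd f g).fiberι s').continuous
        rw [ht, hιz'] at h3
        exact h3
  rw [h1, h2]

end Groth.Agent.Lib.Helper97.AssFibre
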