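import Groth.Prelude.Def_WeilCoh
import Groth.Agent.Lib.Helper55.DimOpenCover
import Mathlib

/-! Helper lemmas (helper97): compactness, separatedness and finite dimensionality of the objects of
`WeilCoh.Var k`; dimensions of closures of points. -/

set_option autoImplicit false
universe u

open CategoryTheory AlgebraicGeometry CategoryTheory.Limits

namespace Groth.Agent.Lib.Helper97.VarDim

open MvPolynomial

instance isScalarTower_polyGrading (n : ℕ) (R : Type u) [CommRing R] :
    IsScalarTower R (CohB1.polyGrading n R 0) (MvPolynomial (Fin (n+1)) R) :=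
  IsScalarTower.of_algebraMap_eq (R := R) (S := CohB1.polyGrading n R 0)
    (A := MvPolynomial (Fin (n+1)) R) (fun _ => rfl)

instance finiteType_polyGrading_zero (n : ℕ) (R : Type u) [CommRing R] :
    Algebra.FiniteType (CohB1.polyGrading n R 0) (MvPolynomial (Fin (n+1)) R) := by
  have : Algebra.FiniteType R (MvPolynomial (Fin (n+1)) R) := inferInstance
  exact Algebra.FiniteType.of_restrictScalars_finiteType R _ _

instance quasiCompact_projSpace_toSpec (n : ℕ) (R : Type u) [CommRing R] :
    QuasiCompact (CohB1.ProjSpace.toSpec n R) :=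
  inferInstanceAs (QuasiCompact (Proj.toSpecZero (CohB1.polyGrading n R) ≫
    (Spec.map (CommRingCat.ofHom (algebraMap R ↥(CohB1.polyGrading n R 0))))))

instance quasiCompact_projSpaceOver_toBase (n : ℕ) (S : Scheme.{u}) :
    QuasiCompact (CohB1.ProjSpaceOver.toBase n S) :=
  inferInstanceAs (QuasiCompact (pullback.snd (CohB1.ProjSpace.toSpec n (ULift.{u} ℤ))
    (specULiftZIsTerminal.from S)))

instance isSeparated_projSpace_toSpec (n : ℕ) (R : Type u) [CommRing R] :
    IsSeparated (CohB1.ProjSpace.toSpec n R) :=
  inferInstanceAs (IsSeparated (Proj.toSpecZero (CohB1.polyGrading n R) ≫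
    (Spec.map (CommRingCat.ofHom (algebraMap R ↥(CohB1.polyGrading n R 0))))))

instance isSeparated_projSpaceOver_toBase (n : ℕ) (S : Scheme.{u}) :
    IsSeparated (CohB1.ProjSpaceOver.toBase n S) :=
  inferInstanceAs (IsSeparated (pullback.snd (CohB1.ProjSpace.toSpec n (ULift.{u} ℤ))
    (specULiftZIsTerminal.from S)))

/-- Objects of `WeilCoh.Var k` are quasi-compact. -/
theorem var_compactSpace (k : Type u) [Field k] (X : WeilCoh.Var k) : CompactSpace X.obj.left := by
  obtain ⟨_, ⟨n, i, hi, hcomp⟩, _⟩ := X.property
  have : QuasiCompact X.obj.hom := by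
    rw [← hcomp]
    infer_instance
  exact QuasiCompact.compactSpace_of_compactSpace X.obj.hom

/-- Objects of `WeilCoh.Var k` are separated over `k`. -/
theorem var_isSeparated (k : Type u) [Field k] (X : WeilCoh.Var k) : IsSeparated X.obj.hom := by
  obtain ⟨_, ⟨n, i, hi, hcomp⟩, _⟩ := X.property
  rw [← hcomp]
  infer_instance

theorem natCast_lt_top (n : ℕ) : ((n : ℕ) : WithBot ℕ∞) < ⊤ := by
  have : ((n : ℕ∞) : WithBot ℕ∞) < ((⊤ : ℕ∞) : WithBot ℕ∞) :=
    WithBot.coe_lt_coe.2 (ENat.natCast_lt_top n)
  exact this

/-- A finitely generated algebra over a field has finite Krull dimension. -/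
theorem ringKrullDim_lt_top_of_finiteType (k : Type*) [Field k] (A : Type*) [CommRing A]
    [Algebra k A] [Algebra.FiniteType k A] : ringKrullDim A < ⊤ := by
  obtain ⟨n, f, hf⟩ :=
    (Algebra.FiniteType.iff_quotient_mvPolynomial'' (R := k) (S := A)).1 inferInstance
  have h1 : ringKrullDim A ≤ ringKrullDim (MvPolynomial (Fin n) k) :=
    ringKrullDim_le_of_surjective f.toRingHom hf
  have h2 : ringKrullDim (MvPolynomial (Fin n) k) = n := by
    rw [MvPolynomial.ringKrullDim_of_isNoetherianRing, ringKrullDim_eq_zero_of_field, zero_add,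
      Nat.card_eq_fintype_card, Fintype.card_fin]
  rw [h2] at h1
  exact lt_of_le_of_lt h1 (natCast_lt_top n)

/-- A quasi-compact scheme locally of finite type over a field has finite Krull dimension. -/
theorem topologicalKrullDim_lt_top_of_locallyOfFiniteType (k : Type u) [Field k] (X : Scheme.{u})
    (f : X ⟶ Spec (CommRingCat.of k)) [LocallyOfFiniteType f] [CompactSpace X] :
    topologicalKrullDim X < ⊤ := by
  have key : ∀ U : X.Opens, IsAffineOpen U → topologicalKrullDim U < ⊤ := by
    intro U hU
    have hdU : topologicalKrullDim U = ringKrullDim Γ(X, U) := by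
      rw [← PrimeSpectrum.topologicalKrullDim_eq_ringKrullDim]
      exact IsHomeomorph.topologicalKrullDim_eq _ hU.isoSpec.hom.homeomorph.isHomeomorph
    rw [hdU]
    have hsurj : Function.Surjective (Scheme.ΓSpecIso (CommRingCat.of k)).inv.hom :=
      (ConcreteCategory.bijective_of_isIso (Scheme.ΓSpecIso (CommRingCat.of k)).inv).2
    let ψU : k →+* Γ(X, U) :=
      (f.appLE ⊤ U le_top).hom.comp (Scheme.ΓSpecIso (CommRingCat.of k)).inv.hom
    have hψU : ψU.FiniteType :=
      (f.finiteType_appLE (isAffineOpen_top _) hU le_top).comp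
        (RingHom.FiniteType.of_surjective _ hsurj)
    letI : Algebra k Γ(X, U) := ψU.toAlgebra
    have hft : Algebra.FiniteType k Γ(X, U) := hψU
    exact ringKrullDim_lt_top_of_finiteType k _
  have hex : ∀ x : X, ∃ U : X.Opens, IsAffineOpen U ∧ x ∈ U := by
    intro x
    obtain ⟨U, hU, hxU, -⟩ := exists_isAffineOpen_mem_and_subset (x := x) (U := ⊤) trivial
    exact ⟨U, hU, hxU⟩
  choose U hU hxU using hex
  obtain ⟨s, hs⟩ := CompactSpace.elim_nhds_subcover (fun x => (U x : Set X))
    (fun x => (U x).2.mem_nhds (hxU x))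
  let d : WithBot ℕ∞ := s.sup (fun x => topologicalKrullDim (U x))
  have hd : d < ⊤ := (Finset.sup_lt_iff bot_lt_top).2 (fun x _ => key (U x) (hU x))
  refine lt_of_le_of_lt
    (Groth.Agent.Lib.Helper55.topologicalKrullDim_le_of_forall_exists_open d ?_) hd
  intro x
  have hx : x ∈ ⋃ y ∈ s, (U y : Set X) := by rw [hs]; trivial
  obtain ⟨y, hy, hxy⟩ := Set.mem_iUnion₂.1 hx
  exact ⟨U y, hxy, Finset.le_sup (f := fun x => topologicalKrullDim (U x)) hy⟩

/-- Objects of `WeilCoh.Var k` have finite Krull dimension. -/
theorem var_dim_lt_top (k : Type u) [Field k] (X : WeilCoh.Var k) :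
    topologicalKrullDim X.obj.left < ⊤ := by
  haveI := var_compactSpace k X
  haveI : Smooth X.obj.hom := X.property.1
  exact topologicalKrullDim_lt_top_of_locallyOfFiniteType k X.obj.left X.obj.hom

theorem natDim_le_of_le {S T : Type*} [TopologicalSpace S] [TopologicalSpace T]
    (h : topologicalKrullDim S ≤ topologicalKrullDim T) (hT : topologicalKrullDim T < ⊤) :
    WeilCoh.natDim S ≤ WeilCoh.natDim T := by
  unfold WeilCoh.natDim
  generalize topologicalKrullDim S = a at *
  generalize topologicalKrullDim T = b at *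
  induction a using WithBot.recBotCoe with
  | bot => simp
  | coe a =>
    induction b using WithBot.recBotCoe with
    | bot => simp at h
    | coe b =>
      simp only [WithBot.unbotD_coe]
      have hb : b ≠ ⊤ := by
        rintro rfl
        exact lt_irrefl _ hT
      exact ENat.toNat_le_toNat (WithBot.coe_le_coe.1 h) hb

theorem natDim_eq_of_eq {S T : Type*} [TopologicalSpace S] [TopologicalSpace T]
    (h : topologicalKrullDim S = topologicalKrullDim T) :
    WeilCoh.natDim S = WeilCoh.natDim T := by
  unfold WeilCoh.natDim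
  rw [h]

/-- On a finite dimensional scheme the closure of a point has dimension at most that of the scheme. -/
theorem pdim_le_dim (X : Scheme.{u}) (hX : topologicalKrullDim X < ⊤) (ξ : X) :
    WeilCoh.pdim X ξ ≤ WeilCoh.dim X :=
  natDim_le_of_le (topologicalKrullDim_subspace_le X _) hX

/-- A closed immersion preserves the dimension of the closure of a point. -/
theorem pdim_map_of_isClosedImmersion {X Y : Scheme.{u}} (f : X ⟶ Y) [IsClosedImmersion f] (x : X) :
    WeilCoh.pdim Y (f x) = WeilCoh.pdim X x := by
  unfold WeilCoh.pdim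
  have hce : Topology.IsClosedEmbedding f := f.isClosedEmbedding
  have h1 : closure ({f x} : Set Y) = f '' closure ({x} : Set X) := by
    rw [← hce.closure_image_eq, Set.image_singleton]
  let e : ↥(closure ({x} : Set X)) ≃ₜ ↥(closure ({f x} : Set Y)) :=
    (hce.isEmbedding.homeomorphImage (closure ({x} : Set X))).trans (Homeomorph.setCongr h1.symm)
  exact (natDim_eq_of_eq (IsHomeomorph.topologicalKrullDim_eq _ e.isHomeomorph)).symm

/-- A closed immersion does not increase dimension. -/
theorem topologicalKrullDim_le_of_isClosedImmersion {X Y : Scheme.{u}} (f : X ⟶ Y)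
    [IsClosedImmersion f] : topologicalKrullDim X ≤ topologicalKrullDim Y :=
  f.isClosedEmbedding.isInducing.topologicalKrullDim_le

/-- The residue degree of a closed immersion at any point is `1`. -/
theorem residueDegree_of_isClosedImmersion {X Y : Scheme.{u}} (f : X ⟶ Y) [IsClosedImmersion f]
    (x : X) : f.residueDegree x = 1 := by
  unfold Scheme.Hom.residueDegree
  letI := (f.residueFieldMap x).hom.toAlgebra
  have hsurj : Function.Surjective (algebraMap (Y.residueField (f x)) (X.residueField x)) := by
    intro z
    obtain ⟨w, rfl⟩ := X.residue_surjective x z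
    obtain ⟨v, rfl⟩ := f.stalkMap_surjective x w
    refine ⟨Y.residue (f x) v, ?_⟩
    exact congr($(Scheme.residue_residueFieldMap f x) v)
  have hbij : Function.Bijective (Algebra.linearMap (Y.residueField (f x)) (X.residueField x)) :=
    ⟨(algebraMap (Y.residueField (f x)) (X.residueField x)).injective, hsurj⟩
  rw [← (LinearEquiv.ofBijective _ hbij).finrank_eq]
  exact Module.finrank_self _

end Groth.Agent.Lib.Helper97.VarDim
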