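import Groth.Prelude.Def_PicF2
import Groth.Prelude.Def_SecTwist
import Groth.Prelude.Def_Pic
import Groth.Agent.Lib.Helper45.FiniteType
import Groth.Agent.Lib.Helper45.InvBasis
import Groth.Agent.Lib.Helper11.GlobalGen
import Mathlib

/-!
# Zero schemes of sections of invertible modules (helper97)

* `map_zIdeal`: pure algebra, the ideal `{a | a • M ⊆ R • s₀}` commutes with localization away from `f`
  for finite `M`.
* `ideal_zeroScheme`: for `L` invertible, `(PicF2.zeroScheme L s).ideal U = PicF2.zeroIdealOn L s U`.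
* `zI_of_basis`: on an open with a basis `t` and `s = c • t`, the zero ideal is `(c)`.
* on integral schemes: `eq_zero_of_smul_sv` (sections of `O` act torsion-freely on a nonzero section),
  `exists_global_unit`.
-/

set_option autoImplicit false
set_option linter.style.haveILetI false
set_option linter.unusedSectionVars false
universe u
open CategoryTheory AlgebraicGeometry Opposite TopologicalSpace
open Groth.Agent.Lib.Helper45 Groth.Agent.Lib.Helper49

namespace Groth.Agent.Lib.Helper97.ZeroScheme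

section Alg
variable {R R' M M' : Type*} [CommRing R] [CommRing R'] [Algebra R R'] [AddCommGroup M]
  [Module R M] [AddCommGroup M'] [Module R M'] [Module R' M'] [IsScalarTower R R' M']

/-- the functions `a` with `a • M ⊆ R • s₀` -/
def zIdeal (R : Type*) {M : Type*} [CommRing R] [AddCommGroup M] [Module R M] (s₀ : M) : Ideal R where
  carrier := {a | ∀ m : M, ∃ b : R, a • m = b • s₀}
  add_mem' {a a'} ha ha' m := by
    obtain ⟨b, hb⟩ := ha m; obtain ⟨b', hb'⟩ := ha' m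
    exact ⟨b + b', by rw [add_smul, add_smul, hb, hb']⟩
  zero_mem' m := ⟨0, by simp⟩
  smul_mem' c {a} ha m := by
    obtain ⟨b, hb⟩ := ha m
    exact ⟨c * b, by rw [smul_eq_mul, mul_smul, hb, mul_smul]⟩

lemma mem_zIdeal {s₀ : M} {a : R} : a ∈ zIdeal R s₀ ↔ ∀ m : M, ∃ b : R, a • m = b • s₀ := Iff.rfl

lemma mem_zIdeal_of_span {s₀ : M} {a : R} {S : Set M} (hS : Submodule.span R S = ⊤)
    (h : ∀ m ∈ S, ∃ b : R, a • m = b • s₀) : a ∈ zIdeal R s₀ := by
  intro m
  have hm : m ∈ Submodule.span R S := by rw [hS]; trivial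
  induction hm using Submodule.span_induction with
  | mem x hx => exact h x hx
  | zero => exact ⟨0, by simp⟩
  | add x y _ _ hx hy =>
    obtain ⟨b, hb⟩ := hx; obtain ⟨b', hb'⟩ := hy
    exact ⟨b + b', by rw [smul_add, hb, hb', add_smul]⟩
  | smul c x _ hx =>
    obtain ⟨b, hb⟩ := hx
    exact ⟨c * b, by rw [smul_comm, hb, mul_smul]⟩

theorem map_zIdeal (f : R) [IsLocalization.Away f R'] (φ : M →ₗ[R] M')
    [IsLocalizedModule.Away f φ] [Module.Finite R M] (s₀ : M) :
    (zIdeal R s₀).map (algebraMap R R') = zIdeal R' (φ s₀) := by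
  have hfu : ∀ n : ℕ, IsUnit (algebraMap R R' (f ^ n)) := fun n => by
    rw [map_pow]; exact (IsLocalization.Away.algebraMap_isUnit f).pow n
  apply le_antisymm
  · rw [Ideal.map_le_iff_le_comap]
    intro a ha m'
    obtain ⟨n, m, hm⟩ := IsLocalizedModule.Away.surj (r := f) (f := φ) m'
    obtain ⟨b, hb⟩ := ha m
    obtain ⟨u, hu⟩ := hfu n
    refine ⟨(↑u⁻¹ : R') * algebraMap R R' b, ?_⟩
    have h1 : algebraMap R R' (f ^ n) • m' = φ m := by
      rw [algebraMap_smul]; exact hm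
    have h2 : m' = (↑u⁻¹ : R') • φ m := by
      rw [← h1, ← hu, smul_smul, Units.inv_mul, one_smul]
    rw [h2, smul_comm, algebraMap_smul, ← map_smul, hb, map_smul, mul_smul, algebraMap_smul]
  · intro a' ha'
    obtain ⟨S, hS⟩ := (Module.Finite.fg_top : (⊤ : Submodule R M).FG)
    obtain ⟨n, a₀, ha₀⟩ := IsLocalization.Away.surj f a'
    -- for each generator get exponent
    have key : ∀ m ∈ S, ∃ N : ℕ, ∀ N' ≥ N, ∃ b : R, (f ^ N' * a₀) • m = b • s₀ := by
      intro m _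
      obtain ⟨b', hb'⟩ := ha' (φ m)
      obtain ⟨n₁, b₁, hb₁⟩ := IsLocalization.Away.surj f b'
      -- φ (f^n₁ a₀ m) = φ (f^n b₁ s₀)
      have h1 : φ ((f ^ n₁ * a₀) • m) = φ ((f ^ n * b₁) • s₀) := by
        rw [map_smul, map_smul, ← algebraMap_smul R' (f ^ n₁ * a₀), ← algebraMap_smul R' (f ^ n * b₁),
          map_mul, map_mul, ← ha₀, ← hb₁, map_pow, map_pow]
        rw [show algebraMap R R' f ^ n₁ * (a' * algebraMap R R' f ^ n) =
          (algebraMap R R' f ^ n₁ * algebraMap R R' f ^ n) * a' by ring, mul_smul, hb', smul_smul]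
        congr 1; ring
      obtain ⟨k, hk⟩ := IsLocalizedModule.Away.exists_of_eq f h1
      refine ⟨k + n₁, fun N' hN' => ?_⟩
      obtain ⟨j, rfl⟩ := Nat.exists_eq_add_of_le hN'
      refine ⟨f ^ j * (f ^ k * (f ^ n * b₁)), ?_⟩
      rw [show f ^ (k + n₁ + j) * a₀ = f ^ j * (f ^ k * (f ^ n₁ * a₀)) by ring, mul_smul, mul_smul,
        hk, ← mul_smul, ← mul_smul, mul_assoc]
    choose! N hN using key
    let N₀ := S.sup N
    have hc : f ^ N₀ * a₀ ∈ zIdeal R s₀ := by
      refine mem_zIdeal_of_span hS (fun m hm => ?_)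
      exact hN m hm N₀ (Finset.le_sup (f := N) hm)
    obtain ⟨u, hu⟩ := hfu (N₀ + n)
    have h3 : (u : R') * a' = algebraMap R R' (f ^ N₀ * a₀) := by
      rw [hu, pow_add, map_mul, map_mul, ← ha₀, map_pow, map_pow]; ring
    have : a' = (↑u⁻¹ : R') * algebraMap R R' (f ^ N₀ * a₀) := by
      rw [← h3, ← mul_assoc, Units.inv_mul, one_mul]
    rw [this]
    exact Ideal.mul_mem_left _ _ (Ideal.mem_map_of_mem _ hc)

end Alg

variable {X : Scheme.{u}} (L : X.Modules) (s : Coh.structureModule X ⟶ L)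

theorem zeroIdealOn_eq (U : X.Opens) :
    PicF2.zeroIdealOn L s U = zIdeal Γ(X, U) (M := Γ(L, U)) (PicF2.secVal L s U) := rfl

attribute [local instance] sectionsBasicOpenModule

theorem map_zeroIdealOn (hL : PicF.IsInvertible L) (U : X.affineOpens) (f : Γ(X, U)) :
    (PicF2.zeroIdealOn L s U.1).map (X.presheaf.map (homOfLE <| X.basicOpen_le f).op).hom =
      PicF2.zeroIdealOn L s (X.basicOpen f) := by
  have : L.IsQuasicoherent := isQuasicoherent_of_isInvertible hL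
  have : SheafOfModules.IsFiniteType (R := X.ringCatSheaf) L :=
    Groth.Agent.Lib.Helper11.GenLocus.isFiniteType_of_isInvertible hL
  have : Module.Finite Γ(X, U.1) Γ(L, U.1) := finite_sections_of_isFiniteType U.2 L
  have : IsLocalization.Away f Γ(X, X.basicOpen f) := U.2.isLocalization_basicOpen f
  have : IsLocalizedModule.Away f (restrictBasicOpenₗ L f) :=
    isLocalizedModule_restrictBasicOpenₗ U.2 L f
  have h := map_zIdeal (R := Γ(X, U.1)) (R' := Γ(X, X.basicOpen f)) f (restrictBasicOpenₗ L f)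
    (PicF2.secVal L s U.1)
  rw [zeroIdealOn_eq, zeroIdealOn_eq]
  have h2 : restrictBasicOpenₗ L f (PicF2.secVal L s U.1) = PicF2.secVal L s (X.basicOpen f) :=
    SecTwist.map_val s (homOfLE (X.basicOpen_le f))
  rw [h2] at h
  exact h


/-- the zero ideals form an ideal sheaf -/
noncomputable def zeroSheaf (hL : PicF.IsInvertible L) : X.IdealSheafData where
  ideal U := PicF2.zeroIdealOn L s U.1
  map_ideal_basicOpen U f := map_zeroIdealOn L s hL U f

theorem ideal_zeroScheme (hL : PicF.IsInvertible L) (U : X.affineOpens) :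
    (PicF2.zeroScheme L s).ideal U = PicF2.zeroIdealOn L s U.1 := by
  have : PicF2.zeroScheme L s = zeroSheaf L s hL :=
    Scheme.IdealSheafData.ofIdeals_ideal (zeroSheaf L s hL)
  rw [this]; rfl

/-- the value of `s` over `V`, typed in `Γ(L, V)` -/
noncomputable def sv (V : X.Opens) : Γ(L, V) := PicF2.secVal L s V

/-- the zero ideal, typed as an ideal of `Γ(X, V)` -/
noncomputable def zI (V : X.Opens) : Ideal Γ(X, V) := PicF2.zeroIdealOn L s V

theorem mres_sv {V W : X.Opens} (h : V ≤ W) :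
    mres L h (sv L s W) = sv L s V :=
  SecTwist.map_val s (homOfLE h)

theorem mem_zI {V : X.Opens} {a : Γ(X, V)} :
    a ∈ zI L s V ↔ ∀ m : Γ(L, V), ∃ b : Γ(X, V), a • m = b • sv L s V :=
  Iff.rfl

variable {L s}

theorem zI_of_basis {V : X.Opens} {t : Γ(L, V)} (ht : IsBasisOn L V t) {c : Γ(X, V)}
    (hc : sv L s V = c • t) : zI L s V = Ideal.span {c} := by
  ext a
  rw [mem_zI, Ideal.mem_span_singleton']
  constructor
  · intro h
    obtain ⟨b, hb⟩ := h t
    refine ⟨b, ?_⟩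
    apply ht.eq_of_smul_eq
    rw [hb, hc, mul_smul]
  · rintro ⟨b, rfl⟩ m
    obtain ⟨r, rfl⟩ := ht.exists_eq_smul m
    refine ⟨b * r, ?_⟩
    rw [hc, smul_smul, smul_smul]
    congr 1; ring


theorem eq_zero_of_sv (h : ∀ W : X.Opens, sv L s W = 0) : s = 0 := by
  apply L.unitHomEquiv.injective
  apply PresheafOfModules.sections_ext
  intro W
  have h1 : (L.unitHomEquiv s).val W = sv L s W.unop := rfl
  rw [h1, h]
  rfl

section Integral
variable [IsIntegral X]

theorem fres_injective {V W : X.Opens} (h : V ≤ W) (hV : (V : Set X).Nonempty) :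
    Function.Injective (fres h) := by
  obtain ⟨z, hz⟩ := hV
  haveI : Nonempty V.toScheme := ⟨⟨z, hz⟩⟩
  exact map_injective_of_isIntegral X (homOfLE h)

theorem isDomain_sections {V : X.Opens} (hV : (V : Set X).Nonempty) : IsDomain Γ(X, V) := by
  obtain ⟨z, hz⟩ := hV
  haveI : Nonempty V.toScheme := ⟨⟨z, hz⟩⟩
  infer_instance

theorem inter_nonempty {V W : X.Opens} (hV : (V : Set X).Nonempty) (hW : (W : Set X).Nonempty) :
    ((V ⊓ W : X.Opens) : Set X).Nonempty :=
  nonempty_preirreducible_inter V.isOpen W.isOpen hV hW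

theorem sv_eq_zero_of (hL : PicF.IsInvertible L) {V : X.Opens} (hV : (V : Set X).Nonempty)
    (h0 : sv L s V = 0) (W : X.Opens) : sv L s W = 0 := by
  choose Vb hxVb tb htb using fun x : X => exists_isBasisOn_of_isInvertible hL x
  apply TopCat.Sheaf.eq_of_locally_eq' ⟨L.presheaf, L.isSheaf⟩ (fun y : W => W ⊓ Vb y.1) W
    (fun y => homOfLE inf_le_left) (fun x hx => Opens.mem_iSup.mpr ⟨⟨x, hx⟩, ⟨hx, hxVb x⟩⟩)
  intro y
  change mres L inf_le_left (sv L s W) = mres L inf_le_left 0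
  rw [mres_sv, map_zero]
  have hb := (htb y.1).mono (inf_le_right : W ⊓ Vb y.1 ≤ Vb y.1)
  obtain ⟨c, hc⟩ := hb.exists_eq_smul (sv L s (W ⊓ Vb y.1))
  have hne : (((W ⊓ Vb y.1) ⊓ V : X.Opens) : Set X).Nonempty :=
    inter_nonempty ⟨y.1, y.2, hxVb y.1⟩ hV
  have hb' := hb.mono (inf_le_left : (W ⊓ Vb y.1) ⊓ V ≤ W ⊓ Vb y.1)
  have h1 : fres (inf_le_left : (W ⊓ Vb y.1) ⊓ V ≤ W ⊓ Vb y.1) c •
      mres L (inf_le_left : (W ⊓ Vb y.1) ⊓ V ≤ W ⊓ Vb y.1) (mres L inf_le_right (tb y.1)) = 0 := by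
    have := congrArg (mres L (inf_le_left : (W ⊓ Vb y.1) ⊓ V ≤ W ⊓ Vb y.1)) hc
    rw [mres_smul, mres_sv] at this
    rw [this, ← mres_sv L s (inf_le_right : (W ⊓ Vb y.1) ⊓ V ≤ V), h0, map_zero]
  have h2 : fres (inf_le_left : (W ⊓ Vb y.1) ⊓ V ≤ W ⊓ Vb y.1) c = 0 :=
    hb'.eq_of_smul_eq (by rw [h1, zero_smul])
  have h3 : c = 0 := fres_injective _ hne (by rw [h2, map_zero])
  rw [← hc, h3, zero_smul]

theorem eq_zero_of_smul_sv (hL : PicF.IsInvertible L) (hs : s ≠ 0) {W : X.Opens}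
    (hW : (W : Set X).Nonempty) (r : Γ(X, W)) (h : r • sv L s W = 0) : r = 0 := by
  obtain ⟨x, hx⟩ := hW
  obtain ⟨V, hxV, t, ht⟩ := exists_isBasisOn_of_isInvertible hL x
  have hne : ((W ⊓ V : X.Opens) : Set X).Nonempty := ⟨x, hx, hxV⟩
  have hb := ht.mono (inf_le_right : W ⊓ V ≤ V)
  obtain ⟨c, hc⟩ := hb.exists_eq_smul (sv L s (W ⊓ V))
  have h1 : (fres (inf_le_left : W ⊓ V ≤ W) r * c) • mres L (inf_le_right : W ⊓ V ≤ V) t = 0 := by
    have := congrArg (mres L (inf_le_left : W ⊓ V ≤ W)) h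
    rw [mres_smul, mres_sv, map_zero, ← hc, smul_smul] at this
    exact this
  have h2 : fres (inf_le_left : W ⊓ V ≤ W) r * c = 0 := hb.eq_of_smul_eq (by rw [h1, zero_smul])
  haveI := isDomain_sections hne
  rcases mul_eq_zero.mp h2 with h3 | h3
  · exact fres_injective _ hne (by rw [h3, map_zero])
  · exfalso
    apply hs
    apply eq_zero_of_sv
    apply sv_eq_zero_of hL hne
    rw [← hc, h3, zero_smul]

theorem exists_local_unit (hL : PicF.IsInvertible L) {s' : Coh.structureModule X ⟶ L}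
    (hI : ∀ U : X.affineOpens, zI L s' U.1 = zI L s U.1) (x : X) :
    ∃ (U : X.Opens) (_ : x ∈ U) (u : Γ(X, U)), IsUnit u ∧ sv L s' U = u • sv L s U := by
  obtain ⟨V, hxV, t, ht⟩ := exists_isBasisOn_of_isInvertible hL x
  obtain ⟨_, ⟨U0, hU0, rfl⟩, hxU, hUV⟩ :=
    (X.isBasis_affineOpens).exists_subset_of_mem_open hxV V.isOpen
  let U : X.Opens := U0
  have hUV' : U ≤ V := hUV
  have hb := ht.mono hUV'
  obtain ⟨c, hc⟩ := hb.exists_eq_smul (sv L s U)
  obtain ⟨c', hc'⟩ := hb.exists_eq_smul (sv L s' U)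
  have h1 : Ideal.span {c} = Ideal.span {c'} := by
    rw [← zI_of_basis hb hc.symm, ← zI_of_basis hb hc'.symm]
    exact (hI ⟨U, hU0⟩).symm
  haveI := isDomain_sections (V := U) ⟨x, hxU⟩
  obtain ⟨u, hu⟩ := Ideal.span_singleton_eq_span_singleton.mp h1
  refine ⟨U, hxU, (u : Γ(X, U)), u.isUnit, ?_⟩
  rw [← hc', ← hc, ← hu, smul_smul, mul_comm]

theorem exists_global_unit (hL : PicF.IsInvertible L) (hs : s ≠ 0)
    {s' : Coh.structureModule X ⟶ L}
    (hI : ∀ U : X.affineOpens, zI L s' U.1 = zI L s U.1) :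
    ∃ h : Γ(X, ⊤), IsUnit h ∧ sv L s' ⊤ = h • sv L s ⊤ := by
  choose U hxU u hu huv using exists_local_unit hL hI
  have hcov : (⊤ : X.Opens) ≤ ⨆ x, U x := fun x _ => Opens.mem_iSup.mpr ⟨x, hxU x⟩
  have hcompat : ∀ x y : X, fres (inf_le_left : U x ⊓ U y ≤ U x) (u x) =
      fres (inf_le_right : U x ⊓ U y ≤ U y) (u y) := by
    intro x y
    have hne : ((U x ⊓ U y : X.Opens) : Set X).Nonempty :=
      inter_nonempty ⟨x, hxU x⟩ ⟨y, hxU y⟩
    rw [← sub_eq_zero]
    apply eq_zero_of_smul_sv hL hs hne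
    have h1 := congrArg (mres L (inf_le_left : U x ⊓ U y ≤ U x)) (huv x)
    have h2 := congrArg (mres L (inf_le_right : U x ⊓ U y ≤ U y)) (huv y)
    rw [mres_smul, mres_sv, mres_sv] at h1 h2
    rw [sub_smul, ← h1, ← h2, sub_self]
  choose v hv using fun x => isUnit_iff_exists_inv.mp (hu x)
  have hcompat' : ∀ x y : X, fres (inf_le_left : U x ⊓ U y ≤ U x) (v x) =
      fres (inf_le_right : U x ⊓ U y ≤ U y) (v y) := by
    intro x y
    have e1 : fres (inf_le_left : U x ⊓ U y ≤ U x) (u x) *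
        fres (inf_le_left : U x ⊓ U y ≤ U x) (v x) = 1 := by rw [← map_mul, hv, map_one]
    have e2 : fres (inf_le_right : U x ⊓ U y ≤ U y) (u y) *
        fres (inf_le_right : U x ⊓ U y ≤ U y) (v y) = 1 := by rw [← map_mul, hv, map_one]
    rw [← hcompat x y] at e2
    calc fres (inf_le_left : U x ⊓ U y ≤ U x) (v x)
        = fres (inf_le_left : U x ⊓ U y ≤ U x) (v x) *
            (fres (inf_le_left : U x ⊓ U y ≤ U x) (u x) *
              fres (inf_le_right : U x ⊓ U y ≤ U y) (v y)) := by rw [e2, mul_one]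
      _ = (fres (inf_le_left : U x ⊓ U y ≤ U x) (u x) *
            fres (inf_le_left : U x ⊓ U y ≤ U x) (v x)) *
              fres (inf_le_right : U x ⊓ U y ≤ U y) (v y) := by ring
      _ = fres (inf_le_right : U x ⊓ U y ≤ U y) (v y) := by rw [e1, one_mul]
  obtain ⟨h, hh⟩ : ∃ h : Γ(X, ⊤), ∀ x, fres (le_top : U x ≤ ⊤) h = u x := by
    obtain ⟨h, hh, -⟩ := TopCat.Sheaf.existsUnique_gluing' X.sheaf U ⊤
      (fun x => homOfLE le_top) hcov u (fun x y => hcompat x y)
    exact ⟨h, hh⟩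
  obtain ⟨h', hh'⟩ : ∃ h : Γ(X, ⊤), ∀ x, fres (le_top : U x ≤ ⊤) h = v x := by
    obtain ⟨h, hh, -⟩ := TopCat.Sheaf.existsUnique_gluing' X.sheaf U ⊤
      (fun x => homOfLE le_top) hcov v (fun x y => hcompat' x y)
    exact ⟨h, hh⟩
  refine ⟨h, isUnit_iff_exists_inv.mpr ⟨h', ?_⟩, ?_⟩
  · apply TopCat.Sheaf.eq_of_locally_eq' X.sheaf U ⊤ (fun x => homOfLE le_top) hcov
    intro x
    change fres (le_top : U x ≤ ⊤) (h * h') = fres (le_top : U x ≤ ⊤) 1
    rw [map_mul, hh, hh', hv, map_one]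
  · apply TopCat.Sheaf.eq_of_locally_eq' ⟨L.presheaf, L.isSheaf⟩ U ⊤ (fun x => homOfLE le_top) hcov
    intro x
    change mres L (le_top : U x ≤ ⊤) (sv L s' ⊤) = mres L (le_top : U x ≤ ⊤) (h • sv L s ⊤)
    rw [mres_smul, mres_sv, mres_sv, hh, huv]

end Integral


section Unit
variable {X : Scheme.{u}} {L : X.Modules} {s s' : Coh.structureModule X ⟶ L}

theorem zI_eq_of_unit (h : Γ(X, ⊤)) (hu : IsUnit h) (heq : sv L s' ⊤ = h • sv L s ⊤) (V : X.Opens) :
    zI L s' V = zI L s V := by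
  have h1 : sv L s' V = fres (le_top : V ≤ ⊤) h • sv L s V := by
    rw [← mres_sv L s' (le_top : V ≤ ⊤), heq, mres_smul, mres_sv]
  obtain ⟨w', hw'⟩ := isUnit_iff_exists_inv.mp (hu.map (fres (le_top : V ≤ ⊤)))
  ext a
  rw [mem_zI, mem_zI]
  constructor
  · intro ha m
    obtain ⟨b, hb⟩ := ha m
    exact ⟨b * fres (le_top : V ≤ ⊤) h, by rw [hb, h1, smul_smul]⟩
  · intro ha m
    obtain ⟨b, hb⟩ := ha m
    refine ⟨b * w', ?_⟩
    rw [hb, h1, smul_smul, mul_assoc, mul_comm w', hw', mul_one]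

end Unit

end Groth.Agent.Lib.Helper97.ZeroScheme
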