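import Groth.Prelude.Def_Pi1
import Mathlib

/-!
# Normal Noetherian schemes: irreducible components are open; sections over integral normal
schemes are integrally closed; normality descends along a surjective "fibration" (helper97)
-/

set_option autoImplicit false
set_option linter.style.haveILetI false
universe u

namespace Groth.Agent.Lib.Helper97.NormalSch

open AlgebraicGeometry CategoryTheory TopologicalSpace Opposite

/-- If all stalks are domains, two irreducible components through a common point coincide. -/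
theorem irreducibleComponents_eq_of_mem {S : Scheme.{u}}
    (hS : ∀ s : S, IsDomain (S.presheaf.stalk s))
    {A B : Set S} (hA : A ∈ irreducibleComponents S) (hB : B ∈ irreducibleComponents S)
    {x : S} (hxA : x ∈ A) (hxB : x ∈ B) : A = B := by
  have := hS x
  let ξ : S := S.fromSpecStalk x ⟨⊥, Ideal.isPrime_bot⟩
  have key : ∀ C ∈ irreducibleComponents S, x ∈ C → C = closure {ξ} := by
    intro C hC hxC
    have hCirr : IsIrreducible C := hC.1
    have hCcl : IsClosed C := isClosed_of_mem_irreducibleComponents C hC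
    have hη : IsGenericPoint hCirr.genericPoint C := hCirr.isGenericPoint_genericPoint hCcl
    have h1 : hCirr.genericPoint ⤳ x := by
      rw [specializes_iff_mem_closure, hη.def]; exact hxC
    obtain ⟨p, hp⟩ : hCirr.genericPoint ∈ Set.range (S.fromSpecStalk x) := by
      rw [Scheme.range_fromSpecStalk]; exact h1
    have h2 : (⟨⊥, Ideal.isPrime_bot⟩ : PrimeSpectrum (S.presheaf.stalk x)) ⤳ p :=
      (PrimeSpectrum.le_iff_specializes _ _).mp bot_le
    have h3 : ξ ⤳ hCirr.genericPoint := hp ▸ h2.map (S.fromSpecStalk x).continuous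
    have h4 : C ≤ closure {ξ} := by
      rw [← hη.def]; exact specializes_iff_closure_subset.mp h3
    exact le_antisymm h4 (hC.le_of_ge (isIrreducible_singleton.closure) h4)
  rw [key A hA hxA, key B hB hxB]

/-- In a Noetherian scheme whose stalks are domains, irreducible components are open. -/
theorem isOpen_irreducibleComponent {S : Scheme.{u}} [NoetherianSpace S]
    (hS : ∀ s : S, IsDomain (S.presheaf.stalk s)) (x : S) :
    IsOpen (irreducibleComponent x) := by
  have hcl : IsClosed (⋃₀ (irreducibleComponents S \ {irreducibleComponent x})) := by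
    rw [Set.sUnion_eq_biUnion]
    exact TopologicalSpace.NoetherianSpace.finite_irreducibleComponents.sdiff.isClosed_biUnion
      fun W hW ↦ isClosed_of_mem_irreducibleComponents W hW.1
  have heq : irreducibleComponent x = (⋃₀ (irreducibleComponents S \ {irreducibleComponent x}))ᶜ := by
    ext z
    simp only [Set.mem_compl_iff, Set.mem_sUnion, Set.mem_sdiff, Set.mem_singleton_iff, not_exists,
      not_and]
    constructor
    · intro hz t ht hzt
      exact ht.2 (irreducibleComponents_eq_of_mem hS ht.1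
        (irreducibleComponent_mem_irreducibleComponents x) hzt hz)
    · intro h
      by_contra hz
      refine h (irreducibleComponent z) ⟨irreducibleComponent_mem_irreducibleComponents z, ?_⟩
        mem_irreducibleComponent
      intro he
      exact hz (he ▸ mem_irreducibleComponent)
  rw [heq]
  exact hcl.isOpen_compl

/-- A global section which is `1` on the open `Z` and `0` on the complementary open `Zc`;
its basic open is `Z`. -/
theorem exists_section_basicOpen_eq {X : Scheme.{u}} (Z Zc : X.Opens) (hdisj : Z ⊓ Zc = ⊥)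
    (hcov : (⊤ : X.Opens) ≤ Z ⊔ Zc) : ∃ e : Γ(X, ⊤), X.basicOpen e = Z := by
  let U : Bool → X.Opens := fun b => cond b Z Zc
  let sf : ∀ b : Bool, Γ(X, U b) := fun b =>
    Bool.rec (motive := fun b => Γ(X, U b)) (0 : Γ(X, Zc)) (1 : Γ(X, Z)) b
  have hsub1 : Subsingleton Γ(X, Z ⊓ Zc) := by rw [hdisj]; infer_instance
  have hsub2 : Subsingleton Γ(X, Zc ⊓ Z) := by rw [inf_comm, hdisj]; infer_instance
  have compat : TopCat.Presheaf.IsCompatible X.sheaf.1 U sf := by
    rintro (_ | _) (_ | _)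
    · change X.presheaf.map _ (0 : Γ(X, Zc)) = X.presheaf.map _ (0 : Γ(X, Zc))
      rw [map_zero, map_zero]
    · exact @Subsingleton.elim Γ(X, Zc ⊓ Z) hsub2 _ _
    · exact @Subsingleton.elim Γ(X, Z ⊓ Zc) hsub1 _ _
    · change X.presheaf.map _ (1 : Γ(X, Z)) = X.presheaf.map _ (1 : Γ(X, Z))
      rw [map_one, map_one]
  have hcover : (⊤ : X.Opens) ≤ iSup U :=
    hcov.trans (sup_le (le_iSup U true) (le_iSup U false))
  obtain ⟨e, he1, he0⟩ : ∃ e : Γ(X, ⊤), X.presheaf.map (homOfLE (le_top : Z ≤ ⊤)).op e = 1 ∧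
      X.presheaf.map (homOfLE (le_top : Zc ≤ ⊤)).op e = 0 := by
    obtain ⟨e, he, -⟩ :=
      X.sheaf.existsUnique_gluing' U ⊤ (fun b => homOfLE le_top) hcover sf compat
    exact ⟨e, he true, he false⟩
  refine ⟨e, ?_⟩
  ext x
  rw [SetLike.mem_coe, SetLike.mem_coe, Scheme.mem_basicOpen_top]
  constructor
  · intro hu
    by_contra hxZ
    have hxZc : x ∈ Zc := by
      rcases hcov (show x ∈ (⊤ : X.Opens) from trivial) with h | h
      · exact absurd h hxZ
      · exact h
    have h1 := X.presheaf.germ_res_apply (homOfLE (le_top : Zc ≤ ⊤)) x hxZc e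
    rw [he0, map_zero] at h1
    have h2 : X.presheaf.germ ⊤ x trivial e = 0 := h1.symm
    rw [h2] at hu
    exact not_isUnit_zero hu
  · intro hxZ
    have h1 := X.presheaf.germ_res_apply (homOfLE (le_top : Z ≤ ⊤)) x hxZ e
    rw [he1, map_one] at h1
    have h2 : X.presheaf.germ ⊤ x trivial e = 1 := h1.symm
    rw [h2]
    exact isUnit_one

/-- Sections of a normal integral scheme over a nonempty open form an integrally closed domain. -/
theorem isIntegrallyClosed_sections {Z : Scheme.{u}} [IsIntegral Z]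
    (hN : ∀ z : Z, IsIntegrallyClosed (Z.presheaf.stalk z)) (U : Z.Opens) [Nonempty U] :
    IsIntegrallyClosed Γ(Z, U) := by
  have hinj : Function.Injective (algebraMap Γ(Z, U) Z.functionField) :=
    Z.germToFunctionField_injective U
  have : FaithfulSMul Γ(Z, U) Z.functionField :=
    (faithfulSMul_iff_algebraMap_injective _ _).mpr hinj
  have : IsIntegrallyClosedIn Γ(Z, U) Z.functionField := by
    rw [isIntegrallyClosedIn_iff]
    refine ⟨hinj, fun {x} hx => ?_⟩
    have hη : ∀ V : Z.Opens, (V : Set Z).Nonempty → genericPoint Z ∈ V := fun V hV =>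
      ((genericPoint_spec Z).mem_open_set_iff V.isOpen).mpr (by simpa [Set.univ_inter] using hV)
    have hloc : ∀ z : U, ∃ (V : Z.Opens) (hV : genericPoint Z ∈ V), z.1 ∈ V ∧ V ≤ U ∧
        ∃ s : Γ(Z, V), Z.presheaf.germ V (genericPoint Z) hV s = x := by
      intro z
      have hx' : IsIntegral (Z.presheaf.stalk z.1) x := hx.tower_top
      have := hN z.1
      obtain ⟨g, hg⟩ := IsIntegrallyClosed.algebraMap_eq_of_integral hx'
      obtain ⟨V, hzV, s, hs⟩ := Z.presheaf.exists_germ_eq g
      have hzVU : z.1 ∈ V ⊓ U := ⟨hzV, z.2⟩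
      haveI : Nonempty (V ⊓ U : Z.Opens).toScheme := ⟨⟨z.1, hzVU⟩⟩
      refine ⟨V ⊓ U, hη _ ⟨z.1, hzVU⟩, hzVU, inf_le_right,
        Z.presheaf.map (homOfLE inf_le_left).op s, ?_⟩
      have h1 := Z.algebraMap_germ_eq_germToFunctionField (U := V ⊓ U) (x := z.1) hzVU
        (Z.presheaf.map (homOfLE inf_le_left).op s)
      rw [TopCat.Presheaf.germ_res_apply, hs, hg] at h1
      exact h1.symm
    choose V hVη hzV hVU s hs using hloc
    have compat : TopCat.Presheaf.IsCompatible Z.sheaf.1 V s := by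
      intro z z'
      apply germ_injective_of_isIntegral Z (genericPoint Z) (⟨hVη z, hVη z'⟩ : _ ∈ V z ⊓ V z')
      have e1 := Z.presheaf.germ_res_apply (Opens.infLELeft (V z) (V z')) (genericPoint Z)
        ⟨hVη z, hVη z'⟩ (s z)
      have e2 := Z.presheaf.germ_res_apply (Opens.infLERight (V z) (V z')) (genericPoint Z)
        ⟨hVη z, hVη z'⟩ (s z')
      exact (e1.trans ((hs z).trans (hs z').symm)).trans e2.symm
    obtain ⟨t, ht, -⟩ := Z.sheaf.existsUnique_gluing' V U (fun z => homOfLE (hVU z))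
      (fun y hy => Opens.mem_iSup.mpr ⟨⟨y, hy⟩, hzV ⟨y, hy⟩⟩) s compat
    refine ⟨t, ?_⟩
    obtain ⟨⟨z0, hz0⟩⟩ := ‹Nonempty U›
    let z : U := ⟨z0, hz0⟩
    have h1 : Z.presheaf.map (homOfLE (hVU z)).op t = s z := ht z
    have h2 := Z.presheaf.germ_res_apply (homOfLE (hVU z)) (genericPoint Z) (hVη z) t
    rw [h1, hs] at h2
    rw [h2]
    rfl
  exact IsIntegrallyClosed.of_isIntegrallyClosedIn Γ(Z, U) Z.functionField

/-- Normality passes to open subschemes. -/
theorem isNormalScheme_opens {X : Scheme.{u}} (hX : Pi1.IsNormalScheme X) (W : X.Opens) :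
    Pi1.IsNormalScheme W.toScheme := by
  intro z
  let φ := (W.stalkIso z).commRingCatIsoToRingEquiv
  have h := hX z.1
  have h1 := h.1
  have h2 := h.2
  exact ⟨φ.toMulEquiv.isDomain (X.presheaf.stalk z.1), IsIntegrallyClosed.of_equiv φ.symm⟩

/-- Let `f : X ⟶ Y` be surjective with `𝒪_Y → f_* 𝒪_X` an isomorphism, `X` Noetherian and normal.
Then `Y` is normal. -/
theorem isNormalScheme_of_fibration {X Y : Scheme.{u}} [IsNoetherian X] (f : X ⟶ Y)
    (hsurj : Function.Surjective f) (hfib : ∀ V : Y.Opens, IsIso (f.app V))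
    (hX : Pi1.IsNormalScheme X) : Pi1.IsNormalScheme Y := by
  intro y
  obtain ⟨x, rfl⟩ := hsurj y
  have hdom : ∀ s : X, IsDomain (X.presheaf.stalk s) := fun s => (hX s).1
  have hZo : IsOpen (irreducibleComponent x) := isOpen_irreducibleComponent hdom x
  have hZc : IsClosed (irreducibleComponent x) := isClosed_irreducibleComponent
  let Z : X.Opens := ⟨irreducibleComponent x, hZo⟩
  let Zc : X.Opens := ⟨(irreducibleComponent x)ᶜ, hZc.isOpen_compl⟩
  have hdisj : Z ⊓ Zc = ⊥ := by
    ext z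
    simp [Z, Zc]
  have hcov : (⊤ : X.Opens) ≤ Z ⊔ Zc := by
    intro z _
    by_cases hz : z ∈ irreducibleComponent x
    · exact Or.inl hz
    · exact Or.inr hz
  obtain ⟨e, he⟩ := exists_section_basicOpen_eq Z Zc hdisj hcov
  have hiso : IsIso f.appTop := hfib ⊤
  let φ : Γ(Y, ⊤) ≃+* Γ(X, ⊤) := (asIso f.appTop).commRingCatIsoToRingEquiv
  obtain ⟨e', he'⟩ : ∃ e' : Γ(Y, ⊤), f.appTop e' = e := ⟨φ.symm e, φ.apply_symm_apply e⟩
  have hpre : f ⁻¹ᵁ Y.basicOpen e' = Z := by
    rw [Scheme.preimage_basicOpen_top, he']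
    exact he
  have hy : f x ∈ Y.basicOpen e' := by
    have h1 : x ∈ f ⁻¹ᵁ Y.basicOpen e' := by
      rw [hpre]
      exact mem_irreducibleComponent
    exact h1
  obtain ⟨_, ⟨V, hV, rfl⟩, hyV, hVle⟩ :=
    Y.isBasis_affineOpens.exists_subset_of_mem_open hy (Y.basicOpen e').isOpen
  have hxW : x ∈ f ⁻¹ᵁ V := hyV
  have hWZ : ((f ⁻¹ᵁ V : X.Opens) : Set X) ⊆ irreducibleComponent x := by
    intro w hw
    have h1 : w ∈ f ⁻¹ᵁ Y.basicOpen e' := hVle hw
    rw [hpre] at h1
    exact h1
  have hWirr : IsIrreducible ((f ⁻¹ᵁ V : X.Opens) : Set X) :=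
    ⟨⟨x, hxW⟩, (isIrreducible_irreducibleComponent.isPreirreducible).open_subset
      (f ⁻¹ᵁ V).isOpen hWZ⟩
  haveI : IrreducibleSpace (f ⁻¹ᵁ V).toScheme := Subtype.irreducibleSpace hWirr
  have hN := isNormalScheme_opens hX (f ⁻¹ᵁ V)
  haveI : ∀ z : (f ⁻¹ᵁ V).toScheme, _root_.IsReduced ((f ⁻¹ᵁ V).toScheme.presheaf.stalk z) :=
    fun z => by
      have := (hN z).1
      infer_instance
  haveI : IsReduced (f ⁻¹ᵁ V).toScheme := isReduced_of_isReduced_stalk _
  haveI : IsIntegral (f ⁻¹ᵁ V).toScheme := isIntegral_of_irreducibleSpace_of_isReduced _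
  haveI : Nonempty (⊤ : (f ⁻¹ᵁ V).toScheme.Opens).toScheme := ⟨⟨⟨x, hxW⟩, trivial⟩⟩
  have h1 : IsIntegrallyClosed Γ((f ⁻¹ᵁ V).toScheme, ⊤) :=
    isIntegrallyClosed_sections (fun z => (hN z).2) ⊤
  have h1' : IsDomain Γ((f ⁻¹ᵁ V).toScheme, ⊤) := inferInstance
  have hisoV := hfib V
  let ψ : Γ(Y, V) ≃+* Γ((f ⁻¹ᵁ V).toScheme, ⊤) :=
    ((asIso (f.app V)) ≪≫ (f ⁻¹ᵁ V).topIso.symm).commRingCatIsoToRingEquiv
  have h2 : IsDomain Γ(Y, V) := ψ.toMulEquiv.isDomain _
  have h3 : IsIntegrallyClosed Γ(Y, V) := IsIntegrallyClosed.of_equiv ψ.symm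
  letI := TopCat.Presheaf.algebra_section_stalk Y.presheaf ⟨f x, hyV⟩
  have hloc := hV.isLocalization_stalk ⟨f x, hyV⟩
  exact ⟨IsLocalization.isDomain_of_atPrime (Y.presheaf.stalk (f x))
      (hV.primeIdealOf ⟨f x, hyV⟩).asIdeal,
    isIntegrallyClosed_of_isLocalization (Y.presheaf.stalk (f x))
      (hV.primeIdealOf ⟨f x, hyV⟩).asIdeal.primeCompl
      (Ideal.primeCompl_le_nonZeroDivisors _)⟩

end Groth.Agent.Lib.Helper97.NormalSch
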