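import Mathlib

/-!
# Localization and tensor products; flatness of tensor products over a base (helper97)
-/

set_option autoImplicit false
set_option linter.style.haveILetI false

open TensorProduct

namespace Groth.Agent.Lib.Helper97.LocTensor

section Loc

variable {R L : Type*} [CommRing R] [CommRing L] [Algebra R L] (S : Submonoid R)
  [IsLocalization S L]
  {NA NB NAB MA MB MAB : Type*} [AddCommGroup NA] [AddCommGroup NB] [AddCommGroup NAB]
  [AddCommGroup MA] [AddCommGroup MB] [AddCommGroup MAB]
  [Module R NA] [Module R NB] [Module R NAB]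
  [Module R MA] [Module L MA] [IsScalarTower R L MA]
  [Module R MB] [Module L MB] [IsScalarTower R L MB]
  [Module R MAB] [Module L MAB] [IsScalarTower R L MAB]

/-- If `NAB ≃ NA ⊗[R] NB` and `MA`, `MB`, `MAB` are the localizations of `NA`, `NB`, `NAB` at `S`, then
`MAB ≃ MA ⊗[S⁻¹R] MB`. -/
theorem nonempty_equiv_tensor_of_isLocalizedModule
    (ℓA : NA →ₗ[R] MA) (ℓB : NB →ₗ[R] MB) (ℓAB : NAB →ₗ[R] MAB)
    [IsLocalizedModule S ℓA] [IsLocalizedModule S ℓB] [IsLocalizedModule S ℓAB]
    (e : NAB ≃ₗ[R] NA ⊗[R] NB) : Nonempty (MAB ≃ₗ[L] MA ⊗[L] MB) := by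
  haveI : IsLocalizedModule S ((TensorProduct.map ℓA ℓB) ∘ₗ e.toLinearMap) :=
    IsLocalizedModule.of_linearEquiv_right S _ e
  let e1 : MAB ≃ₗ[R] MA ⊗[R] MB :=
    IsLocalizedModule.linearEquiv S ℓAB ((TensorProduct.map ℓA ℓB) ∘ₗ e.toLinearMap)
  let e2 : MA ⊗[L] MB ≃ₗ[L] MA ⊗[R] MB := IsLocalization.moduleTensorEquiv S L MA MB
  exact ⟨(e1 ≪≫ₗ (e2.symm.restrictScalars R)).extendScalarsOfIsLocalization S L⟩

end Loc

section Flat

variable {R A : Type*} [CommRing R] [CommRing A] [Algebra R A]
  {M P : Type*} [AddCommGroup M] [Module A M] [Module R M] [IsScalarTower R A M]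
  [AddCommGroup P] [Module A P] [Module R P] [IsScalarTower R A P]

/-- the comparison square for `assoc` -/
theorem assoc_lTensor {N Q : Type*} [AddCommMonoid N] [Module R N] [AddCommMonoid Q] [Module R Q]
    (ι : N →ₗ[R] Q) (z : (M ⊗[A] P) ⊗[R] N) :
    AlgebraTensorModule.assoc R A A M P Q (ι.lTensor (M ⊗[A] P) z) =
      (AlgebraTensorModule.lTensor A P ι).lTensor M (AlgebraTensorModule.assoc R A A M P N z) := by
  induction z using TensorProduct.induction_on with
  | zero => simp
  | add x y hx hy => simp only [map_add, hx, hy]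
  | tmul w n =>
    induction w using TensorProduct.induction_on with
    | zero => simp
    | add x y hx hy => simp only [add_tmul, map_add, hx, hy]
    | tmul b p => simp

variable (M P) in
/-- `M` flat over `A`, `P` an `A`-module flat over `R`: then `M ⊗[A] P` is flat over `R`
(for the `R`-module structure through `P`). -/
theorem flat_tensor_of_flat [Module.Flat A M] [hP : Module.Flat R P] :
    Module.Flat R (M ⊗[A] P) := by
  rw [Module.Flat.iff_lTensor_injectiveₛ] at hP ⊢
  intro Q _ _ N
  have h1 : Function.Injective (AlgebraTensorModule.lTensor A P N.subtype) := hP N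
  have h2 : Function.Injective ((AlgebraTensorModule.lTensor A P N.subtype).lTensor M) :=
    Module.Flat.lTensor_preserves_injective_linearMap _ h1
  intro z₁ z₂ hz
  apply (AlgebraTensorModule.assoc R A A M P N).injective
  apply h2
  rw [← assoc_lTensor, ← assoc_lTensor, hz]

variable (M P) in
/-- `M` faithfully flat over `A` and `M ⊗[A] P` flat over `R`: then `P` is flat over `R`. -/
theorem flat_of_flat_tensor [Module.FaithfullyFlat A M] [hO : Module.Flat R (M ⊗[A] P)] :
    Module.Flat R P := by
  rw [Module.Flat.iff_lTensor_injectiveₛ] at hO ⊢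
  intro Q _ _ N
  have h1 : Function.Injective (N.subtype.lTensor (M ⊗[A] P)) := hO N
  have h2 : Function.Injective ((AlgebraTensorModule.lTensor A P N.subtype).lTensor M) := by
    intro z₁ z₂ hz
    obtain ⟨w₁, rfl⟩ := (AlgebraTensorModule.assoc R A A M P N).surjective z₁
    obtain ⟨w₂, rfl⟩ := (AlgebraTensorModule.assoc R A A M P N).surjective z₂
    rw [← assoc_lTensor, ← assoc_lTensor] at hz
    rw [h1 ((AlgebraTensorModule.assoc R A A M P Q).injective hz)]
  exact (Module.FaithfullyFlat.lTensor_injective_iff_injective A M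
    (AlgebraTensorModule.lTensor A P N.subtype)).mp h2

end Flat

section Fibre

variable {R A : Type*} [CommRing R] [CommRing A] [Algebra R A]
  {M P : Type*} [AddCommGroup M] [Module A M] [Module R M] [IsScalarTower R A M]
  [AddCommGroup P] [Module A P] [Module R P] [IsScalarTower R A P]

/-- `I • X = X` transports along linear equivalences. -/
theorem smul_top_eq_top_of_linearEquiv {X Y : Type*} [AddCommGroup X] [Module R X]
    [AddCommGroup Y] [Module R Y] (e : X ≃ₗ[R] Y) (I : Ideal R)
    (h : I • (⊤ : Submodule R X) = ⊤) : I • (⊤ : Submodule R Y) = ⊤ := by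
  have := congrArg (Submodule.map e.toLinearMap) h
  rwa [Submodule.map_smul'', Submodule.map_top, LinearMap.range_eq_top.mpr e.surjective] at this

theorem tmul_smul_eq (r : R) (m : M) (n : P) : m ⊗ₜ[A] (r • n) = r • (m ⊗ₜ[A] n) := by
  rw [← algebraMap_smul A r n, ← TensorProduct.smul_tmul, algebraMap_smul, TensorProduct.smul_tmul']

variable (M) in
/-- If `I P = P` then `I (M ⊗ P) = M ⊗ P`. -/
theorem smul_top_tensor_eq_top (I : Ideal R) (h : I • (⊤ : Submodule R P) = ⊤) :
    I • (⊤ : Submodule R (M ⊗[A] P)) = ⊤ := by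
  rw [eq_top_iff]
  rintro z -
  induction z using TensorProduct.induction_on with
  | zero => exact zero_mem _
  | add x y hx hy => exact add_mem hx hy
  | tmul m p =>
    have hp : p ∈ I • (⊤ : Submodule R P) := by rw [h]; trivial
    refine Submodule.smul_induction_on hp (fun r hr n _ => ?_) (fun x y hx hy => ?_)
    · rw [tmul_smul_eq]
      exact Submodule.smul_mem_smul hr trivial
    · rw [TensorProduct.tmul_add]; exact add_mem hx hy

variable (M) in
/-- If `M` is faithfully flat over `A` and `I P ≠ P` then `I (M ⊗ P) ≠ M ⊗ P`. -/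
theorem smul_top_tensor_ne_top [Module.FaithfullyFlat A M] (I : Ideal R)
    (h : I • (⊤ : Submodule R P) ≠ ⊤) : I • (⊤ : Submodule R (M ⊗[A] P)) ≠ ⊤ := by
  have hJ : ((I.map (algebraMap R A)) • (⊤ : Submodule A P)) ≠ ⊤ := by
    intro hJ
    apply h
    have := Ideal.smul_restrictScalars I (⊤ : Submodule A P)
    rw [hJ] at this
    simpa using this.symm
  haveI : Nontrivial (P ⧸ (I.map (algebraMap R A)) • (⊤ : Submodule A P)) :=
    Submodule.Quotient.nontrivial_iff.mpr hJ
  haveI : Nontrivial (M ⊗[A] (P ⧸ (I.map (algebraMap R A)) • (⊤ : Submodule A P))) := inferInstance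
  intro htop
  have hφ : Function.Surjective
      (LinearMap.lTensor M ((I.map (algebraMap R A)) • (⊤ : Submodule A P)).mkQ) :=
    LinearMap.lTensor_surjective M (Submodule.mkQ_surjective _)
  have hkill : ∀ b ∈ I.map (algebraMap R A),
      ∀ w : M ⊗[A] (P ⧸ (I.map (algebraMap R A)) • (⊤ : Submodule A P)), b • w = 0 := by
    intro b hb w
    induction w using TensorProduct.induction_on with
    | zero => simp
    | add x y hx hy => rw [smul_add, hx, hy, add_zero]
    | tmul m p =>
      obtain ⟨p, rfl⟩ := Submodule.mkQ_surjective _ p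
      rw [TensorProduct.smul_tmul', TensorProduct.smul_tmul, ← map_smul]
      have : ((I.map (algebraMap R A)) • (⊤ : Submodule A P)).mkQ (b • p) = 0 := by
        rw [Submodule.mkQ_apply, Submodule.Quotient.mk_eq_zero]
        exact Submodule.smul_mem_smul hb trivial
      rw [this, TensorProduct.tmul_zero]
  have hzero : ∀ z ∈ I • (⊤ : Submodule R (M ⊗[A] P)),
      LinearMap.lTensor M ((I.map (algebraMap R A)) • (⊤ : Submodule A P)).mkQ z = 0 := by
    intro z hz
    refine Submodule.smul_induction_on hz (fun r hr y _ => ?_) (fun x y hx hy => ?_)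
    · rw [← algebraMap_smul A r y, map_smul]
      exact hkill _ (Ideal.mem_map_of_mem _ hr) _
    · rw [map_add, hx, hy, add_zero]
  obtain ⟨w, hw⟩ := exists_ne
    (0 : M ⊗[A] (P ⧸ (I.map (algebraMap R A)) • (⊤ : Submodule A P)))
  obtain ⟨z, rfl⟩ := hφ w
  exact hw (hzero z (by rw [htop]; trivial))

end Fibre

end Groth.Agent.Lib.Helper97.LocTensor
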