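import Groth.Agent.Lib.Helper11.TensorQCoh
import Groth.Agent.Lib.Helper11.PullbackChart
import Groth.Agent.Lib.Helper45.QCohStalk
import Groth.Agent.Lib.Helper97.LocTensor
import Groth.Prelude.Def_FlatMod2
import Groth.Agent.Lib.Helper16.FlatPull.Stalk

/-!
# The stalk of a tensor product of quasi-coherent modules (helper97)

* `nonempty_sections_tensor_equiv`: `Γ(W, A ⊗ B) ≃ Γ(W, A) ⊗ Γ(W, B)` over an affine open `W`.
* `nonempty_stalk_tensor_equiv`: `(A ⊗ B)_t ≃ A_t ⊗ B_t` over `O_{T,t}`.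
-/

set_option autoImplicit false
set_option linter.style.haveILetI false
universe u

open AlgebraicGeometry CategoryTheory TensorProduct Opposite TopologicalSpace

namespace Groth.Agent.Lib.Helper97.StalkTensor

open Groth.Agent.Lib.Helper11.GenLocus Groth.Agent.Lib.Helper11.TildeTensor Groth.Agent.Lib.Helper49
  Groth.Agent.Lib.Helper11.PullbackChart Groth.Agent.Lib.Helper45

variable {T : Scheme.{u}} (A B : T.Modules) [A.IsQuasicoherent] [B.IsQuasicoherent]

instance : (CohB1.tensorMod A B).IsQuasicoherent := (isQuasicoherent_tensorMod A B).1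

/-- Sections of a tensor product of quasi-coherent modules over an affine open. -/
theorem nonempty_sections_tensor_equiv {W : T.Opens} (hW : IsAffineOpen W) :
    Nonempty (Γ(CohB1.tensorMod A B, W) ≃ₗ[Γ(T, W)] Γ(A, W) ⊗[Γ(T, W)] Γ(B, W)) := by
  haveI : (A.restrict hW.fromSpec).IsQuasicoherent :=
    Scheme.Modules.isQuasicoherent_restrictFunctor _ _
  haveI : (B.restrict hW.fromSpec).IsQuasicoherent :=
    Scheme.Modules.isQuasicoherent_restrictFunctor _ _
  have hA' : IsIso (A.restrict hW.fromSpec).fromTildeΓ :=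
    (isQuasicoherent_iff_isIso_fromTildeΓ _).mp inferInstance
  have hB' : IsIso (B.restrict hW.fromSpec).fromTildeΓ :=
    (isQuasicoherent_iff_isIso_fromTildeΓ _).mp inferInstance
  let eA := asIso (A.restrict hW.fromSpec).fromTildeΓ
  let eB := asIso (B.restrict hW.fromSpec).fromTildeΓ
  obtain ⟨e⟩ := nonempty_tilde_tensor_iso' Γ(T, W)
    ((modulesSpecToSheaf.obj (A.restrict hW.fromSpec)).presheaf.obj (.op ⊤))
    ((modulesSpecToSheaf.obj (B.restrict hW.fromSpec)).presheaf.obj (.op ⊤))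
  let e' := e ≪≫ tensorModCongr eA eB ≪≫ restrictTensorIso hW.fromSpec A B
  let e'' := (tilde.toTildeΓNatIso.app _) ≪≫ moduleSpecΓFunctor.mapIso e'
  let sA := sectionsFromSpecTopEquiv hW A
  let sB := sectionsFromSpecTopEquiv hW B
  let sAB := sectionsFromSpecTopEquiv hW (CohB1.tensorMod A B)
  exact ⟨sAB.symm ≪≫ₗ e''.toLinearEquiv.symm ≪≫ₗ TensorProduct.congr sA sB⟩

/-- The stalk of a tensor product of quasi-coherent modules is the tensor product of the stalks. -/
theorem nonempty_stalk_tensor_equiv (t : T) :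
    Nonempty ((CohB1.tensorMod A B).presheaf.stalk t ≃ₗ[T.presheaf.stalk t]
      (A.presheaf.stalk t) ⊗[T.presheaf.stalk t] (B.presheaf.stalk t)) := by
  obtain ⟨W, hW, htW, -⟩ := Opens.isBasis_iff_nbhd.mp T.isBasis_affineOpens (Opens.mem_top t)
  obtain ⟨e⟩ := nonempty_sections_tensor_equiv A B hW
  letI algSB : Algebra Γ(T, W) (T.presheaf.stalk t) :=
    TopCat.Presheaf.algebra_section_stalk T.presheaf (⟨t, htW⟩ : W)
  haveI hloc : IsLocalization.AtPrime (T.presheaf.stalk t)
      (hW.primeIdealOf (⟨t, htW⟩ : W)).asIdeal := hW.isLocalization_stalk (⟨t, htW⟩ : W)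
  letI mA : Module Γ(T, W) (A.presheaf.stalk t) := stalkModuleSections A (⟨t, htW⟩ : W)
  letI mB : Module Γ(T, W) (B.presheaf.stalk t) := stalkModuleSections B (⟨t, htW⟩ : W)
  letI mAB : Module Γ(T, W) ((CohB1.tensorMod A B).presheaf.stalk t) :=
    stalkModuleSections (CohB1.tensorMod A B) (⟨t, htW⟩ : W)
  haveI tA : IsScalarTower Γ(T, W) (T.presheaf.stalk t) (A.presheaf.stalk t) :=
    IsScalarTower.of_compHom _ _ _
  haveI tB : IsScalarTower Γ(T, W) (T.presheaf.stalk t) (B.presheaf.stalk t) :=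
    IsScalarTower.of_compHom _ _ _
  haveI tAB : IsScalarTower Γ(T, W) (T.presheaf.stalk t)
      ((CohB1.tensorMod A B).presheaf.stalk t) := IsScalarTower.of_compHom _ _ _
  haveI lA := isLocalizedModule_germₗ hW A (⟨t, htW⟩ : W)
  haveI lB := isLocalizedModule_germₗ hW B (⟨t, htW⟩ : W)
  haveI lAB := isLocalizedModule_germₗ hW (CohB1.tensorMod A B) (⟨t, htW⟩ : W)
  exact LocTensor.nonempty_equiv_tensor_of_isLocalizedModule
    (hW.primeIdealOf (⟨t, htW⟩ : W)).asIdeal.primeCompl
    (germₗ A (⟨t, htW⟩ : W)) (germₗ B (⟨t, htW⟩ : W))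
    (germₗ (CohB1.tensorMod A B) (⟨t, htW⟩ : W)) e

/-- `(A ⊗ q^* G')_t = A_t ⊗_{O_{Y', q t}} G'_{q t}`, as modules over `O_{T,t}`. -/
theorem nonempty_stalk_tensor_pullback_equiv {Y' : Scheme.{u}} (q : T ⟶ Y') (G' : Y'.Modules)
    [G'.IsQuasicoherent] (t : T) :
    letI := (q.stalkMap t).hom.toAlgebra
    letI : Module (Y'.presheaf.stalk (q.base t)) (A.presheaf.stalk t) :=
      FlatMod.moduleStalkOver q A t
    haveI : IsScalarTower (Y'.presheaf.stalk (q.base t)) (T.presheaf.stalk t)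
      (A.presheaf.stalk t) := IsScalarTower.of_compHom _ _ _
    Nonempty ((CohB1.tensorMod A ((Scheme.Modules.pullback q).obj G')).presheaf.stalk t
      ≃ₗ[T.presheaf.stalk t]
      (A.presheaf.stalk t) ⊗[Y'.presheaf.stalk (q.base t)] (G'.presheaf.stalk (q.base t))) := by
  letI := (q.stalkMap t).hom.toAlgebra
  letI : Module (Y'.presheaf.stalk (q.base t)) (A.presheaf.stalk t) :=
    FlatMod.moduleStalkOver q A t
  haveI : IsScalarTower (Y'.presheaf.stalk (q.base t)) (T.presheaf.stalk t)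
    (A.presheaf.stalk t) := IsScalarTower.of_compHom _ _ _
  haveI : ((Scheme.Modules.pullback q).obj G').IsQuasicoherent :=
    Groth.Agent.Lib.Helper16.FlatPull.isQuasicoherent_pullback q G'
  obtain ⟨e₁⟩ := nonempty_stalk_tensor_equiv A ((Scheme.Modules.pullback q).obj G') t
  letI : Module (Y'.presheaf.stalk (q.base t))
      (((Scheme.Modules.pullback q).obj G').presheaf.stalk t) :=
    FlatMod.moduleStalkOver q ((Scheme.Modules.pullback q).obj G') t
  haveI : IsScalarTower (Y'.presheaf.stalk (q.base t)) (T.presheaf.stalk t)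
      (((Scheme.Modules.pullback q).obj G').presheaf.stalk t) := IsScalarTower.of_compHom _ _ _
  obtain ⟨ψ, hψ⟩ := Groth.Agent.Lib.Helper16.FlatPull.exists_isBaseChange_stalk q G' t
  exact ⟨e₁ ≪≫ₗ LinearEquiv.lTensor (A.presheaf.stalk t) hψ.equiv.symm ≪≫ₗ
    AlgebraTensorModule.cancelBaseChange (Y'.presheaf.stalk (q.base t)) (T.presheaf.stalk t)
      (T.presheaf.stalk t) (A.presheaf.stalk t) (G'.presheaf.stalk (q.base t))⟩

end Groth.Agent.Lib.Helper97.StalkTensor
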