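import Groth.Agent.Lib.Helper97.AssTensorLocal
import Groth.Agent.Lib.Helper97.StalkTensor
import Groth.Agent.Lib.Helper49.FiberStalk
import Groth.Agent.Lib.Helper49.PullbackSupport
import Groth.Agent.Lib.Helper50.FibreNoeth
import Groth.Prelude.Def_CurvBase
import Groth.Prelude.Def_FDesc

/-!
# Associated points of `f^* E ⊗ F` for `F` flat over the base (helper97)

* `FibAssAt f F x`: `m_x` is associated to `F_x / m_{f x} F_x`.
* `isAssPoint_pullback_tensor_iff`: `x ∈ Ass(f^*E ⊗ F) ↔ f x ∈ Ass E ∧ FibAssAt f F x`.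
* `isAssPoint_fiber_iff`: `z ∈ Ass(F|_{X_s}) ↔ FibAssAt f F (ι z)`.
* the fibres of a morphism from a locally Noetherian scheme are locally Noetherian.
-/

set_option autoImplicit false
set_option linter.style.haveILetI false
universe u

open AlgebraicGeometry CategoryTheory TensorProduct TopologicalSpace Limits

namespace Groth.Agent.Lib.Helper97.AssFibre

open Groth.Agent.Lib.Helper97.StalkTensor Groth.Agent.Lib.Helper16.FlatPull

variable {X Y : Scheme.{u}} (f : X ⟶ Y)

/-- `x` is an associated point of `F` relative to the fibre of `f` through `x`: the maximal ideal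
of `O_{X,x}` is an associated prime of `F_x / m_{f x} F_x`. -/
def FibAssAt (F : X.Modules) (x : X) : Prop :=
  IsLocalRing.maximalIdeal (X.presheaf.stalk x) ∈ associatedPrimes (X.presheaf.stalk x)
    (F.presheaf.stalk x ⧸
      ((IsLocalRing.maximalIdeal (Y.presheaf.stalk (f x))).map (f.stalkMap x).hom) •
        (⊤ : Submodule (X.presheaf.stalk x) (F.presheaf.stalk x)))

/-- `(f^*E ⊗ F)_x = F_x ⊗_{O_{Y, f x}} E_{f x}` as modules over `O_{X,x}`. -/
theorem nonempty_stalk_pullback_tensor_equiv (E : Y.Modules) [E.IsQuasicoherent]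
    (F : X.Modules) [F.IsQuasicoherent] (x : X) :
    letI := (f.stalkMap x).hom.toAlgebra
    letI : Module (Y.presheaf.stalk (f.base x)) (F.presheaf.stalk x) :=
      FlatMod.moduleStalkOver f F x
    haveI : IsScalarTower (Y.presheaf.stalk (f.base x)) (X.presheaf.stalk x)
      (F.presheaf.stalk x) := IsScalarTower.of_compHom _ _ _
    haveI : ((Scheme.Modules.pullback f).obj E).IsQuasicoherent := isQuasicoherent_pullback f E
    Nonempty ((CohB1.tensorMod ((Scheme.Modules.pullback f).obj E) F).presheaf.stalk x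
      ≃ₗ[X.presheaf.stalk x]
      (F.presheaf.stalk x) ⊗[Y.presheaf.stalk (f.base x)] (E.presheaf.stalk (f.base x))) := by
  letI := (f.stalkMap x).hom.toAlgebra
  letI : Module (Y.presheaf.stalk (f.base x)) (F.presheaf.stalk x) :=
    FlatMod.moduleStalkOver f F x
  haveI : IsScalarTower (Y.presheaf.stalk (f.base x)) (X.presheaf.stalk x)
    (F.presheaf.stalk x) := IsScalarTower.of_compHom _ _ _
  haveI : ((Scheme.Modules.pullback f).obj E).IsQuasicoherent := isQuasicoherent_pullback f E
  obtain ⟨e₁⟩ := nonempty_stalk_tensor_equiv ((Scheme.Modules.pullback f).obj E) F x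
  letI : Module (Y.presheaf.stalk (f.base x))
      (((Scheme.Modules.pullback f).obj E).presheaf.stalk x) :=
    FlatMod.moduleStalkOver f ((Scheme.Modules.pullback f).obj E) x
  haveI : IsScalarTower (Y.presheaf.stalk (f.base x)) (X.presheaf.stalk x)
      (((Scheme.Modules.pullback f).obj E).presheaf.stalk x) := IsScalarTower.of_compHom _ _ _
  obtain ⟨ψ, hψ⟩ := exists_isBaseChange_stalk f E x
  exact ⟨e₁ ≪≫ₗ TensorProduct.comm _ _ _ ≪≫ₗ
    LinearEquiv.lTensor (F.presheaf.stalk x) hψ.equiv.symm ≪≫ₗ
    AlgebraTensorModule.cancelBaseChange (Y.presheaf.stalk (f.base x)) (X.presheaf.stalk x)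
      (X.presheaf.stalk x) (F.presheaf.stalk x) (E.presheaf.stalk (f.base x))⟩

/-- Associated points of `f^*E ⊗ F`, `F` flat over the base at `x`. -/
theorem isAssPoint_pullback_tensor_iff [IsLocallyNoetherian X] [IsLocallyNoetherian Y]
    (E : Y.Modules) (hE : Coh.IsCoh E) (F : X.Modules) [F.IsQuasicoherent] (x : X)
    (hfl : FlatMod.IsFlatOverAt f F x) :
    Curv2.IsAssPoint (CohB1.tensorMod ((Scheme.Modules.pullback f).obj E) F) x ↔
      Curv2.IsAssPoint E (f x) ∧ FibAssAt f F x := by
  haveI : E.IsQuasicoherent := hE.1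
  letI algAB := (f.stalkMap x).hom.toAlgebra
  letI modAN : Module (Y.presheaf.stalk (f.base x)) (F.presheaf.stalk x) :=
    FlatMod.moduleStalkOver f F x
  haveI : IsScalarTower (Y.presheaf.stalk (f.base x)) (X.presheaf.stalk x)
    (F.presheaf.stalk x) := IsScalarTower.of_compHom _ _ _
  haveI : Module.Flat (Y.presheaf.stalk (f.base x)) (F.presheaf.stalk x) := hfl
  haveI : Module.Finite (Y.presheaf.stalk (f.base x)) (E.presheaf.stalk (f.base x)) :=
    Groth.Agent.Lib.Helper49.finite_stalk_of_isFiniteType E hE.2 (f.base x)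
  haveI : IsLocalHom (algebraMap (Y.presheaf.stalk (f.base x)) (X.presheaf.stalk x)) := by
    change IsLocalHom (f.stalkMap x).hom
    infer_instance
  haveI : IsNoetherianRing (Y.presheaf.stalk (f.base x)) := inferInstance
  haveI : IsNoetherianRing (X.presheaf.stalk x) := inferInstance
  obtain ⟨e⟩ := nonempty_stalk_pullback_tensor_equiv f E F x
  unfold Curv2.IsAssPoint FibAssAt
  rw [← AssociatedPrimes.mem_iff, LinearEquiv.AssociatedPrimes.eq e,
    AssTensorLocal.maximalIdeal_mem_ass_tensor_iff]
  rfl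

/-- Associated points of the restriction of `F` to a fibre. -/
theorem isAssPoint_fiber_iff [IsLocallyNoetherian X] (F : X.Modules) [F.IsQuasicoherent] (s : Y)
    (z : ↥(f.fiber s)) :
    Curv2.IsAssPoint ((Scheme.Modules.pullback (f.fiberι s)).obj F) z ↔
      FibAssAt f F (f.fiberι s z) := by
  letI algBB' := ((f.fiberι s).stalkMap z).hom.toAlgebra
  have hsurj : Function.Surjective (algebraMap (X.presheaf.stalk (f.fiberι s z))
      ((f.fiber s).presheaf.stalk z)) := (f.fiberι s).stalkMap_surjective z
  letI : Module (X.presheaf.stalk ((f.fiberι s).base z))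
      (((Scheme.Modules.pullback (f.fiberι s)).obj F).presheaf.stalk z) :=
    FlatMod.moduleStalkOver (f.fiberι s) ((Scheme.Modules.pullback (f.fiberι s)).obj F) z
  haveI : IsScalarTower (X.presheaf.stalk ((f.fiberι s).base z)) ((f.fiber s).presheaf.stalk z)
      (((Scheme.Modules.pullback (f.fiberι s)).obj F).presheaf.stalk z) :=
    IsScalarTower.of_compHom _ _ _
  obtain ⟨ψ, hψ⟩ := exists_isBaseChange_stalk (f.fiberι s) F z
  haveI : IsNoetherianRing (X.presheaf.stalk ((f.fiberι s).base z)) := inferInstance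
  have hker : RingHom.ker (algebraMap (X.presheaf.stalk ((f.fiberι s).base z))
      ((f.fiber s).presheaf.stalk z)) =
      (IsLocalRing.maximalIdeal ↑(Y.presheaf.stalk (f (f.fiberι s z)))).map
        (f.stalkMap (f.fiberι s z)).hom :=
    le_antisymm (Groth.Agent.Lib.Helper49.ker_le_map f s z)
      (Groth.Agent.Lib.Helper49.map_le_ker f s z)
  have hcomap : (IsLocalRing.maximalIdeal ((f.fiber s).presheaf.stalk z)).comap
      (algebraMap (X.presheaf.stalk ((f.fiberι s).base z)) ((f.fiber s).presheaf.stalk z)) =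
      IsLocalRing.maximalIdeal (X.presheaf.stalk ((f.fiberι s).base z)) := by
    haveI : IsLocalHom (algebraMap (X.presheaf.stalk ((f.fiberι s).base z))
        ((f.fiber s).presheaf.stalk z)) := by
      change IsLocalHom ((f.fiberι s).stalkMap z).hom
      infer_instance
    exact AssTensorLocal.comap_maximalIdeal
  unfold Curv2.IsAssPoint FibAssAt
  rw [← AssociatedPrimes.mem_iff, AssTensorLocal.mem_ass_baseChange_iff hsurj ψ hψ, hcomap, hker]

/-- The key description of the associated points of `f^*E ⊗ F` through the fibres. -/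
theorem isAssPoint_fiberι_iff [IsLocallyNoetherian X] [IsLocallyNoetherian Y]
    (E : Y.Modules) (hE : Coh.IsCoh E) (F : X.Modules) [F.IsQuasicoherent]
    (hfl : FlatMod.IsFlatOver f F) (s : Y) (z : ↥(f.fiber s)) :
    Curv2.IsAssPoint (CohB1.tensorMod ((Scheme.Modules.pullback f).obj E) F) (f.fiberι s z) ↔
      Curv2.IsAssPoint E s ∧
        Curv2.IsAssPoint ((Scheme.Modules.pullback (f.fiberι s)).obj F) z := by
  have hs : f (f.fiberι s z) = s := by
    have : (f.fiberι s) z ∈ Set.range (f.fiberι s) := ⟨z, rfl⟩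
    rw [f.range_fiberι s] at this
    exact this
  rw [isAssPoint_pullback_tensor_iff f E hE F _ (hfl _), isAssPoint_fiber_iff f F s z, hs]

/-- The fibres of a morphism with locally Noetherian source are locally Noetherian. -/
instance isLocallyNoetherian_fiber [IsLocallyNoetherian X] (s : Y) :
    IsLocallyNoetherian (f.fiber s) := by
  obtain ⟨V, hV, hsV, -⟩ := Opens.isBasis_iff_nbhd.mp Y.isBasis_affineOpens (Opens.mem_top s)
  let φ : Γ(Y, V) ⟶ Y.residueField s := Y.presheaf.germ V s hsV ≫ Y.residue s
  have hφ : Y.fromSpecResidueField s = Spec.map φ ≫ hV.fromSpec := by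
    rw [Scheme.fromSpecResidueField, ← hV.fromSpecStalk_eq_fromSpecStalk hsV,
      IsAffineOpen.fromSpecStalk, Spec.map_comp, Category.assoc]
  have hess : φ.hom.EssFiniteType := by
    have h1 : (Y.presheaf.germ V s hsV).hom.EssFiniteType := by
      letI := (Y.presheaf.germ V s hsV).hom.toAlgebra
      haveI : IsLocalization.AtPrime (Y.presheaf.stalk s) (hV.primeIdealOf ⟨s, hsV⟩).asIdeal :=
        hV.isLocalization_stalk ⟨s, hsV⟩
      exact Algebra.EssFiniteType.of_isLocalization _
        (hV.primeIdealOf ⟨s, hsV⟩).asIdeal.primeCompl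
    have h2 : (Y.residue s).hom.EssFiniteType :=
      (RingHom.FiniteType.of_surjective _ (Y.residue_surjective s)).essFiniteType
    exact h1.comp h2
  haveI : IsLocallyNoetherian (pullback f hV.fromSpec) :=
    isLocallyNoetherian_of_isOpenImmersion (pullback.fst f hV.fromSpec)
  have h3 := Groth.Agent.Lib.Helper50.FibreNoeth.isLocallyNoetherian_pullback_of_essFiniteType
    (pullback.snd f hV.fromSpec) φ hess
  have e : pullback (pullback.snd f hV.fromSpec) (Spec.map φ) ≅ f.fiber s :=
    pullbackLeftPullbackSndIso f hV.fromSpec (Spec.map φ) ≪≫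
      pullback.congrHom rfl hφ.symm
  exact @isLocallyNoetherian_of_isOpenImmersion _ _ e.inv _ h3

end Groth.Agent.Lib.Helper97.AssFibre
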