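import Mathlib
import Groth.Agent.Lib.Helper81.FrobDegree

/-! Helper lemmas (helper97): the degree `[K : K^(p^f)] = (p^f)^n` for a finitely generated
extension `K` of transcendence degree `n` of a perfect field of characteristic `p`
(built on helper81's `[K : K^p] = p ^ dim Ω[K/ℤ]`). -/

set_option autoImplicit false
universe u

namespace Groth.Agent.Lib.Helper97.FrobField

open Module KaehlerDifferential

/-- `Ω[k/ℤ] = 0` for a perfect field of characteristic `p`. -/
theorem kaehler_int_subsingleton_of_perfect (p : ℕ) [Fact p.Prime] (k : Type u) [Field k]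
    [CharP k p] [PerfectRing k p] : Subsingleton Ω[k⁄ℤ] := by
  have hspan := KaehlerDifferential.span_range_derivation ℤ k
  have h0 : ∀ x : k, KaehlerDifferential.D ℤ k x = 0 := by
    intro x
    obtain ⟨y, rfl⟩ := (bijective_frobenius k p).2 x
    rw [frobenius_def]
    exact Groth.Agent.Lib.Helper81.FrobDegree.D_pow_eq_zero p k (KaehlerDifferential.D ℤ k) y
  have hbot : Submodule.span k (Set.range (KaehlerDifferential.D ℤ k)) = ⊥ := by
    rw [Submodule.span_eq_bot]
    rintro _ ⟨x, rfl⟩
    exact h0 x
  rw [hbot] at hspan
  exact (Submodule.subsingleton_iff k).mp (subsingleton_of_bot_eq_top hspan)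

/-- iterating the degree of Frobenius -/
theorem finrank_iterateFrobenius (p : ℕ) [Fact p.Prime] (K : Type u) [Field K] [CharP K p]
    (d : ℕ) (h1 : Module.finrank (frobenius K p).fieldRange K = p ^ d) (f : ℕ) :
    Module.finrank (iterateFrobenius K p f).fieldRange K = (p ^ f) ^ d := by
  have key : ∀ j : ℕ, Subfield.relfinrank (iterateFrobenius K p j).fieldRange ⊤ = (p ^ d) ^ j := by
    intro j
    induction j with
    | zero =>
      have : (iterateFrobenius K p 0).fieldRange = ⊤ := by
        rw [RingHom.fieldRange_eq_top_iff]
        intro x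
        exact ⟨x, by simp [iterateFrobenius_def]⟩
      rw [this, Subfield.relfinrank_self, pow_zero]
    | succ j ih =>
      have hle1 : (iterateFrobenius K p (j + 1)).fieldRange ≤ (iterateFrobenius K p j).fieldRange := by
        rintro _ ⟨x, rfl⟩
        refine ⟨x ^ p, ?_⟩
        simp only [iterateFrobenius_def]
        rw [← pow_mul, pow_succ', mul_comm]
      have hstep : Subfield.relfinrank (iterateFrobenius K p (j + 1)).fieldRange
          (iterateFrobenius K p j).fieldRange = p ^ d := by
        have e1 : (iterateFrobenius K p j).fieldRange =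
            (⊤ : Subfield K).map (iterateFrobenius K p j) := RingHom.fieldRange_eq_map _
        have e2 : (iterateFrobenius K p (j + 1)).fieldRange =
            ((frobenius K p).fieldRange).map (iterateFrobenius K p j) := by
          ext z
          constructor
          · rintro ⟨x, rfl⟩
            refine ⟨x ^ p, ⟨x, rfl⟩, ?_⟩
            simp only [iterateFrobenius_def]
            rw [← pow_mul, pow_succ', mul_comm]
          · rintro ⟨_, ⟨x, rfl⟩, rfl⟩
            refine ⟨x, ?_⟩
            simp only [iterateFrobenius_def, frobenius_def]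
            rw [← pow_mul, pow_succ', mul_comm]
        rw [e1, e2, Subfield.relfinrank_map_map, Subfield.relfinrank_top_right, h1]
      have := Subfield.relfinrank_mul_relfinrank hle1 (le_top : (iterateFrobenius K p j).fieldRange ≤ ⊤)
      rw [← this, hstep, ih, pow_succ, mul_comm]
  have := key f
  rw [Subfield.relfinrank_top_right] at this
  rw [this, ← pow_mul, ← pow_mul, mul_comm]

/-- `[K : K^(p^f)] = (p^f)^n` for a finitely generated extension of transcendence degree `n`
of a perfect field. -/
theorem finrank_iterateFrobenius_of_essFiniteType (p : ℕ) [Fact p.Prime] (k K : Type u)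
    [Field k] [Field K] [Algebra k K] [CharP k p] [CharP K p] [PerfectRing k p]
    [Algebra.EssFiniteType k K] (n : ℕ) (hn : Algebra.trdeg k K = n) (f : ℕ) :
    Module.finrank (iterateFrobenius K p f).fieldRange K = (p ^ f) ^ n := by
  haveI := kaehler_int_subsingleton_of_perfect p k
  haveI : Module.Finite k Ω[k⁄ℤ] := inferInstance
  obtain ⟨h3, h4⟩ := Groth.Agent.Lib.Helper81.FrobDegree.kaehler_int_of_essFiniteType k K n hn
  haveI := h3
  have h5 : Module.finrank k Ω[k⁄ℤ] = 0 := Module.finrank_zero_of_subsingleton
  rw [h5, zero_add] at h4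
  have h1 := Groth.Agent.Lib.Helper81.FrobDegree.finrank_frobenius_fieldRange p K
  rw [h4] at h1
  exact finrank_iterateFrobenius p K n h1 f

end Groth.Agent.Lib.Helper97.FrobField
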