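import Mathlib

/-! Helper lemmas (helper97): the residue field of a point of a fibre product is generated, as a
field, by the images of the residue fields of its two projections. -/

set_option autoImplicit false
universe u

open CategoryTheory AlgebraicGeometry CategoryTheory.Limits

namespace Groth.Agent.Lib.Helper97.FrobGen

/-- `Spec` of a map of fields is an epimorphism of schemes. -/
theorem epi_SpecMap_of_fields {E L : Type u} [Field E] [Field L] (ι : E →+* L) :
    Epi (Spec.map (CommRingCat.ofHom ι)) := by
  constructor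
  intro S u v huv
  apply (Scheme.SpecToEquivOfField E S).injective
  have hu : Spec.map (Scheme.SpecToEquivOfField E S u).2 ≫
      S.fromSpecResidueField (Scheme.SpecToEquivOfField E S u).1 = u :=
    (Scheme.SpecToEquivOfField E S).left_inv u
  have hv : Spec.map (Scheme.SpecToEquivOfField E S v).2 ≫
      S.fromSpecResidueField (Scheme.SpecToEquivOfField E S v).1 = v :=
    (Scheme.SpecToEquivOfField E S).left_inv v
  generalize Scheme.SpecToEquivOfField E S u = a at hu ⊢
  generalize Scheme.SpecToEquivOfField E S v = b at hv ⊢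
  have h1 : (Scheme.SpecToEquivOfField L S).symm ⟨a.1, a.2 ≫ CommRingCat.ofHom ι⟩ =
      (Scheme.SpecToEquivOfField L S).symm ⟨b.1, b.2 ≫ CommRingCat.ofHom ι⟩ := by
    show Spec.map (a.2 ≫ CommRingCat.ofHom ι) ≫ S.fromSpecResidueField a.1 =
      Spec.map (b.2 ≫ CommRingCat.ofHom ι) ≫ S.fromSpecResidueField b.1
    rw [Spec.map_comp, Spec.map_comp, Category.assoc, Category.assoc, hu, hv, huv]
  have h2 := (Scheme.SpecToEquivOfField L S).symm.injective h1
  rw [Scheme.SpecToEquivOfField_eq_iff] at h2 ⊢
  obtain ⟨e, he⟩ := h2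
  refine ⟨e, ?_⟩
  ext z
  have h3 := congr($he z)
  simp only [CommRingCat.hom_comp, CommRingCat.hom_ofHom, RingHom.comp_apply] at h3
  exact ι.injective h3

/-- The residue field of a point of a fibre product is generated by the residue fields of its
projections. -/
theorem closure_range_residueFieldMap_eq_top {P X Y S : Scheme.{u}} {fst : P ⟶ X} {snd : P ⟶ Y}
    {f : X ⟶ S} {g : Y ⟶ S} (h : IsPullback fst snd f g) (t : P) :
    Subfield.closure (Set.range (fst.residueFieldMap t).hom ∪
      Set.range (snd.residueFieldMap t).hom) = ⊤ := by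
  set E : Subfield (P.residueField t) := Subfield.closure
    (Set.range (fst.residueFieldMap t).hom ∪ Set.range (snd.residueFieldMap t).hom) with hE
  let ιE : E →+* P.residueField t := E.subtype
  let aX : X.residueField (fst t) →+* E := (fst.residueFieldMap t).hom.codRestrict E
    (fun z => Subfield.subset_closure (Or.inl ⟨z, rfl⟩))
  let aY : Y.residueField (snd t) →+* E := (snd.residueFieldMap t).hom.codRestrict E
    (fun z => Subfield.subset_closure (Or.inr ⟨z, rfl⟩))
  let c : Spec (.of (P.residueField t)) ⟶ Spec (.of E) := Spec.map (CommRingCat.ofHom ιE)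
  haveI : Epi c := epi_SpecMap_of_fields ιE
  let gX : Spec (.of E) ⟶ X := Spec.map (CommRingCat.ofHom aX) ≫ X.fromSpecResidueField (fst t)
  let gY : Spec (.of E) ⟶ Y := Spec.map (CommRingCat.ofHom aY) ≫ Y.fromSpecResidueField (snd t)
  have hcX : c ≫ gX = P.fromSpecResidueField t ≫ fst := by
    show Spec.map (CommRingCat.ofHom ιE) ≫ Spec.map (CommRingCat.ofHom aX) ≫
      X.fromSpecResidueField (fst t) = _
    rw [← Category.assoc, ← Spec.map_comp]
    have : CommRingCat.ofHom aX ≫ CommRingCat.ofHom ιE = fst.residueFieldMap t := by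
      ext z; rfl
    rw [this, Scheme.Hom.SpecMap_residueFieldMap_fromSpecResidueField]
  have hcY : c ≫ gY = P.fromSpecResidueField t ≫ snd := by
    show Spec.map (CommRingCat.ofHom ιE) ≫ Spec.map (CommRingCat.ofHom aY) ≫
      Y.fromSpecResidueField (snd t) = _
    rw [← Category.assoc, ← Spec.map_comp]
    have : CommRingCat.ofHom aY ≫ CommRingCat.ofHom ιE = snd.residueFieldMap t := by
      ext z; rfl
    rw [this, Scheme.Hom.SpecMap_residueFieldMap_fromSpecResidueField]
  have hc : c = Spec.map (CommRingCat.ofHom ιE) := rfl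
  clear_value gX gY c
  have hcompat : gX ≫ f = gY ≫ g := by
    apply (cancel_epi c).1
    rw [← Category.assoc, ← Category.assoc, hcX, hcY, Category.assoc, Category.assoc, h.w]
  let l : Spec (.of E) ⟶ P := h.lift gX gY hcompat
  have hl : c ≫ l = P.fromSpecResidueField t := by
    apply h.hom_ext
    · rw [Category.assoc, h.lift_fst, hcX]
    · rw [Category.assoc, h.lift_snd, hcY]
  have hl' : Spec.map (Scheme.SpecToEquivOfField E P l).2 ≫
      P.fromSpecResidueField (Scheme.SpecToEquivOfField E P l).1 = l :=
    (Scheme.SpecToEquivOfField E P).left_inv l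
  generalize Scheme.SpecToEquivOfField E P l = a at hl'
  have h1 : (Scheme.SpecToEquivOfField (P.residueField t) P).symm
      ⟨a.1, a.2 ≫ CommRingCat.ofHom ιE⟩ =
      (Scheme.SpecToEquivOfField (P.residueField t) P).symm ⟨t, 𝟙 _⟩ := by
    show Spec.map (a.2 ≫ CommRingCat.ofHom ιE) ≫ P.fromSpecResidueField a.1 =
      Spec.map (𝟙 _) ≫ P.fromSpecResidueField t
    rw [Spec.map_comp, Category.assoc, hl', Spec.map_id, Category.id_comp, ← hc]
    exact hl
  have h2 := (Scheme.SpecToEquivOfField (P.residueField t) P).symm.injective h1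
  rw [Scheme.SpecToEquivOfField_eq_iff] at h2
  obtain ⟨e, he⟩ := h2
  rw [eq_top_iff]
  intro z _
  have h3 := congr($he ((P.residueFieldCongr e).inv z))
  simp only [CommRingCat.hom_comp, CommRingCat.hom_ofHom, RingHom.comp_apply] at h3
  have h4 : (P.residueFieldCongr e).hom.hom ((P.residueFieldCongr e).inv.hom z) = z := by
    rw [← CommRingCat.comp_apply, Iso.inv_hom_id]
    rfl
  have h5 : ιE (a.2.hom ((P.residueFieldCongr e).inv.hom z)) = z := by
    rw [h3]
    simpa using h4
  rw [← h5]
  exact (a.2.hom ((P.residueFieldCongr e).inv.hom z)).2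

end Groth.Agent.Lib.Helper97.FrobGen
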