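import Mathlib

/-! Helper lemmas (helper97): the residue field maps of the `q`-Frobenius endomorphism of a scheme
(identity on points, `q`-th power on sections) have the `q`-th powers as range; a criterion for
a homomorphism of fields to have the same range as an iterated Frobenius. -/

set_option autoImplicit false
universe u

open CategoryTheory AlgebraicGeometry CategoryTheory.Limits

namespace Groth.Agent.Lib.Helper97.FrobRes

section Frob

variable {X : Scheme.{u}} (FX : X ⟶ X) (q : ℕ) (hFb : FX.base = 𝟙 _)
  (hle : ∀ U : X.Opens, U ≤ FX ⁻¹ᵁ U)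
  (hFapp : ∀ (U : X.Opens) (s : Γ(X, U)), (FX.appLE U U (hle U)).hom s = s ^ q)

include hFb in
theorem frob_apply (x : X) : FX x = x := by
  have : FX.base x = x := by rw [hFb]; rfl
  exact this

include hFapp in
/-- the residue field map of Frobenius on the class of a section -/
theorem residueFieldMap_frob_germ (x : X) (U : X.Opens) (hx : x ∈ U) (hFx : FX x ∈ U)
    (s : Γ(X, U)) :
    (FX.residueFieldMap x).hom ((X.residue (FX x)).hom ((X.presheaf.germ U (FX x) hFx).hom s)) =
      ((X.residue x).hom ((X.presheaf.germ U x hx).hom s)) ^ q := by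
  have h1 := congr($(Scheme.residue_residueFieldMap FX x)
    ((X.presheaf.germ U (FX x) hFx).hom s))
  simp only [CommRingCat.hom_comp, RingHom.comp_apply] at h1
  rw [h1]
  have h2 := Scheme.Hom.germ_stalkMap_apply FX U x hFx s
  have h2' : (FX.stalkMap x).hom ((X.presheaf.germ U (FX x) hFx).hom s) =
      (X.presheaf.germ (FX ⁻¹ᵁ U) x hFx).hom ((FX.app U).hom s) := h2
  rw [h2']
  have h3 : (X.presheaf.germ (FX ⁻¹ᵁ U) x hFx).hom ((FX.app U).hom s) =
      (X.presheaf.germ U x hx).hom ((FX.appLE U U (hle U)).hom s) := by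
    have h4 : FX.appLE U U (hle U) ≫ X.presheaf.germ U x hx =
        FX.app U ≫ X.presheaf.germ (FX ⁻¹ᵁ U) x hFx := by
      rw [Scheme.Hom.appLE, Category.assoc, X.presheaf.germ_res]
    exact (congr($h4 s)).symm
  rw [h3, hFapp, map_pow, map_pow]

include hFb hFapp in
/-- The range of the residue field map of the `q`-Frobenius is the set of `q`-th powers. -/
theorem range_residueFieldMap_frob (x : X) :
    Set.range (FX.residueFieldMap x).hom = Set.range (fun z : X.residueField x => z ^ q) := by
  have hx0 : FX x = x := frob_apply FX hFb x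
  ext w
  constructor
  · rintro ⟨w', rfl⟩
    obtain ⟨v, rfl⟩ := X.residue_surjective (FX x) w'
    obtain ⟨U, hFx, s, rfl⟩ := X.presheaf.exists_germ_eq v
    have hx : x ∈ U := hx0 ▸ hFx
    exact ⟨_, (residueFieldMap_frob_germ FX q hle hFapp x U hx hFx s).symm⟩
  · rintro ⟨z, rfl⟩
    obtain ⟨v, rfl⟩ := X.residue_surjective x z
    obtain ⟨U, hx, s, rfl⟩ := X.presheaf.exists_germ_eq v
    have hFx : FX x ∈ U := hx0.symm ▸ hx
    exact ⟨_, residueFieldMap_frob_germ FX q hle hFapp x U hx hFx s⟩

end Frob

/-- A homomorphism of fields that behaves like an iterated Frobenius on generators has the same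
range as the iterated Frobenius. -/
theorem fieldRange_eq_of_gen (p f : ℕ) [Fact p.Prime] {L' L : Type*} [Field L'] [Field L]
    [CharP L p] (φ : L' →+* L) (A' B' : Set L') (A B : Set L)
    (hgen' : Subfield.closure (A' ∪ B') = ⊤) (hgen : Subfield.closure (A ∪ B) = ⊤)
    (hA : φ '' A' = (iterateFrobenius L p f) '' A) (hB : φ '' B' = B)
    (hBq : (iterateFrobenius L p f) '' B = B) :
    φ.fieldRange = (iterateFrobenius L p f).fieldRange := by
  rw [RingHom.fieldRange_eq_map, RingHom.fieldRange_eq_map, ← hgen', ← hgen,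
    RingHom.map_field_closure, RingHom.map_field_closure, Set.image_union, Set.image_union,
    hA, hB, hBq]

/-- the degree of a field over the range of a homomorphism -/
theorem finrank_toAlgebra_eq_finrank_fieldRange {L' L : Type*} [Field L'] [Field L]
    (φ : L' →+* L) :
    @Module.finrank L' L _ _ (φ.toAlgebra.toModule) = Module.finrank φ.fieldRange L := by
  letI := φ.toAlgebra
  let i : L' ≃+* φ.fieldRange := RingEquiv.ofBijective φ.rangeRestrictField
    ⟨φ.rangeRestrictField.injective, fun ⟨y, x, hx⟩ => ⟨x, Subtype.ext hx⟩⟩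
  exact Algebra.finrank_eq_of_equiv_equiv i (RingEquiv.refl L) (by ext x; rfl)

end Groth.Agent.Lib.Helper97.FrobRes
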