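import Groth.Prelude.Def_WeilCoh
import Groth.Agent.Lib.Helper17.ProjSpace
import Groth.Agent.Lib.Helper54.Reduced
import Groth.Agent.Lib.Helper97.VarDim
import Mathlib

/-! Helper lemmas (helper97): the point `Spec k` as an object of `WeilCoh.Var k`, the structure
morphism `X ⟶ pt`, integrality of the objects of `WeilCoh.Var k`, and `cl X η = 1` for the generic
point `η`. -/

set_option autoImplicit false
universe u v w

open CategoryTheory AlgebraicGeometry CategoryTheory.Limits

namespace Groth.Agent.Lib.Helper97.VarPt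

open Groth.Agent.Lib.Helper97.VarDim

instance isIso_projSpaceOver_zero_toBase (S : Scheme.{u}) :
    IsIso (CohB1.ProjSpaceOver.toBase 0 S) := by
  have h := Groth.Agent.Lib.Helper17.isIso_projSpace_zero_toSpec (ULift.{u} ℤ)
  unfold CohB1.ProjSpaceOver.toBase
  exact pullback_snd_iso_of_left_iso _ _

variable (k : Type u) [Field k]

theorem isVar_pt : WeilCoh.IsVar k (Over.mk (𝟙 (Spec (CommRingCat.of k)))) := by
  have : IsIso (CohB1.ProjSpaceOver.toBase 0 (Spec (CommRingCat.of k))) := inferInstance
  refine ⟨?_, ⟨0, inv (CohB1.ProjSpaceOver.toBase 0 (Spec (CommRingCat.of k))), inferInstance,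
    IsIso.inv_hom_id _⟩, ?_⟩
  · show Smooth (𝟙 _); infer_instance
  · show IrreducibleSpace (Spec (CommRingCat.of k)); infer_instance

/-- `Spec k` as an object of `WeilCoh.Var k`. -/
noncomputable def pt : WeilCoh.Var k := ⟨Over.mk (𝟙 (Spec (CommRingCat.of k))), isVar_pt k⟩

theorem dim_pt : WeilCoh.dim (pt k).obj.left = 0 := by
  show WeilCoh.natDim (Spec (CommRingCat.of k)) = 0
  unfold WeilCoh.natDim
  have : topologicalKrullDim (Spec (CommRingCat.of k)) = 0 := by
    show topologicalKrullDim (PrimeSpectrum k) = 0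
    rw [PrimeSpectrum.topologicalKrullDim_eq_ringKrullDim]
    exact ringKrullDim_eq_zero_of_field k
  rw [this]; rfl

/-- The structure morphism `X ⟶ pt` in `WeilCoh.Var k`. -/
noncomputable def toPt (X : WeilCoh.Var k) : X ⟶ pt k :=
  ObjectProperty.homMk (Over.homMk X.obj.hom (by simp [pt]))

theorem sm_toPt (X : WeilCoh.Var k) : WeilCoh.sm (toPt k X) = X.obj.hom := rfl

theorem var_isReduced (X : WeilCoh.Var k) : IsReduced X.obj.left := by
  have : Smooth X.obj.hom := X.property.1
  exact Groth.Agent.Lib.Helper54.isReduced_of_smooth_scheme X.obj.hom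

theorem var_isIntegral (X : WeilCoh.Var k) : IsIntegral X.obj.left := by
  have := X.property.2.2
  have := var_isReduced k X
  exact isIntegral_of_irreducibleSpace_of_isReduced _

/-- The closure of the generic point is everything, so `pdim X η = dim X`. -/
theorem pdim_genericPoint (X : Scheme.{u}) [IrreducibleSpace X] :
    WeilCoh.pdim X (genericPoint X) = WeilCoh.dim X := by
  unfold WeilCoh.pdim WeilCoh.dim
  have h : closure ({genericPoint X} : Set X) = Set.univ := genericPoint_closure X
  rw [h]
  exact natDim_eq_of_eq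
    (IsHomeomorph.topologicalKrullDim_eq _ (Homeomorph.Set.univ X).isHomeomorph)

/-- Every point of `pt` has closure of dimension `0`. -/
theorem pdim_pt (ξ : (pt k).obj.left) : WeilCoh.pdim (pt k).obj.left ξ = 0 := by
  have h1 : topologicalKrullDim (pt k).obj.left < ⊤ := var_dim_lt_top k (pt k)
  have h2 := pdim_le_dim (pt k).obj.left h1 ξ
  rw [dim_pt] at h2
  exact Nat.le_zero.mp h2

theorem closure_pt (ξ : (pt k).obj.left) : closure ({ξ} : Set (pt k).obj.left) = Set.univ := by
  have hsub : Subsingleton (pt k).obj.left := by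
    show Subsingleton (PrimeSpectrum k)
    infer_instance
  rw [Set.eq_univ_iff_forall]
  intro y
  rw [Subsingleton.elim y ξ]
  exact subset_closure rfl

/-- Component points of the whole space: only the generic point. -/
theorem isCompPt_univ_iff (X : Scheme.{u}) [IrreducibleSpace X] (w : X) :
    WeilCoh.IsCompPt (Set.univ : Set X) w ↔ w = genericPoint X := by
  constructor
  · rintro ⟨-, h⟩
    exact (h (genericPoint X) trivial (genericPoint_specializes w)).symm
  · rintro rfl
    refine ⟨trivial, fun w' _ hw' => ?_⟩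
    exact (hw'.antisymm (genericPoint_specializes w')).eq

/-- The length of a field over itself, modulo an ideal contained in the maximal ideal. -/
theorem length_quot_of_isField {R : Type*} [CommRing R] [IsLocalRing R] (hR : IsField R)
    (I : Ideal R) (hI : I ≤ IsLocalRing.maximalIdeal R) : Module.length R (R ⧸ I) = 1 := by
  have hbot : IsLocalRing.maximalIdeal R = ⊥ := IsLocalRing.isField_iff_maximalIdeal_eq.mp hR
  have hI' : I = ⊥ := le_bot_iff.mp (hbot ▸ hI)
  let _ := hR.toField
  have e : (R ⧸ I) ≃ₗ[R] R := Submodule.quotEquivOfEqBot I hI'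
  rw [e.length_eq]
  rw [Module.length_eq_one_iff]
  infer_instance

/-- Multiplicity one at the generic point for the structure morphism to the point. -/
theorem preimMult_toPt (X : WeilCoh.Var k) [IrreducibleSpace X.obj.left]
    (ξ : (pt k).obj.left)
    (h : (WeilCoh.sm (toPt k X)) (genericPoint X.obj.left) ∈ closure ({ξ} : Set (pt k).obj.left)) :
    WeilCoh.preimMult (WeilCoh.sm (toPt k X)) ξ (genericPoint X.obj.left) h = 1 := by
  have := var_isIntegral k X
  unfold WeilCoh.preimMult
  have hfield : IsField (X.obj.left.presheaf.stalk (genericPoint X.obj.left)) :=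
    Field.toIsField (X.obj.left.functionField)
  rw [length_quot_of_isField hfield]
  · rfl
  · -- the ideal is contained in the maximal ideal
    set ψ := Cyc.specMap ((WeilCoh.sm (toPt k X)) (genericPoint X.obj.left)) ξ
      (specializes_iff_mem_closure.mpr h) with hψ
    have hker : RingHom.ker ψ ≤ IsLocalRing.maximalIdeal _ :=
      IsLocalRing.le_maximalIdeal (RingHom.ker_ne_top ψ)
    refine (Ideal.map_mono hker).trans ?_
    rw [Ideal.map_le_iff_le_comap]
    intro a ha
    rw [Ideal.mem_comap, IsLocalRing.mem_maximalIdeal, mem_nonunits_iff]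
    rw [IsLocalRing.mem_maximalIdeal, mem_nonunits_iff] at ha
    intro hu
    exact ha ((isUnit_map_iff _ a).mp hu)

/-- **The class of the whole variety is `1`.** -/
theorem cl_genericPoint {K : Type v} [Field K]
    (T : WeilCoh.TheoryOn.{u, v, w} k (WeilCoh.IsVar k) K) (X : WeilCoh.Var k)
    [IrreducibleSpace X.obj.left] :
    T.cl X (genericPoint X.obj.left) = 1 := by
  classical
  set f := toPt k X with hf
  set η := genericPoint X.obj.left with hη
  set ξ : (pt k).obj.left := (WeilCoh.sm f) η with hξ
  have hpre : (WeilCoh.sm f) ⁻¹' closure ({ξ} : Set (pt k).obj.left) = Set.univ := by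
    rw [closure_pt]; rfl
  have hcomp : ∀ w : X.obj.left,
      WeilCoh.IsCompPt ((WeilCoh.sm f) ⁻¹' closure ({ξ} : Set (pt k).obj.left)) w ↔ w = η := by
    intro w
    rw [hpre]
    exact isCompPt_univ_iff X.obj.left w
  have h1 : ∀ w : X.obj.left,
      WeilCoh.IsCompPt ((WeilCoh.sm f) ⁻¹' closure ({ξ} : Set (pt k).obj.left)) w →
      (WeilCoh.pdim X.obj.left w : ℤ) =
        WeilCoh.pdim (pt k).obj.left ξ + WeilCoh.dim X.obj.left - WeilCoh.dim (pt k).obj.left := by
    intro w hw
    rw [(hcomp w).mp hw, pdim_genericPoint, pdim_pt, dim_pt]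
    simp
  have h2 : ∀ (w : X.obj.left)
      (hw : WeilCoh.IsCompPt ((WeilCoh.sm f) ⁻¹' closure ({ξ} : Set (pt k).obj.left)) w),
      WeilCoh.preimMult (WeilCoh.sm f) ξ w hw.1 = 1 := by
    intro w hw
    obtain rfl := (hcomp w).mp hw
    exact preimMult_toPt k X ξ hw.1
  have hpull := T.cl_pull f ξ h1 (Or.inr h2)
  have hcl : T.cl (pt k) ξ = 1 := (T.point (pt k) (dim_pt k)).1 ξ
  rw [hcl, map_one] at hpull
  have hη' : WeilCoh.IsCompPt ((WeilCoh.sm f) ⁻¹' closure ({ξ} : Set (pt k).obj.left)) η :=
    (hcomp η).mpr rfl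
  rw [finsum_eq_single _ (⟨η, hη'⟩ : {w : X.obj.left //
      WeilCoh.IsCompPt ((WeilCoh.sm f) ⁻¹' closure ({ξ} : Set (pt k).obj.left)) w})] at hpull
  · rw [h2 η hη'] at hpull
    simpa using hpull.symm
  · intro w hw
    exfalso
    exact hw (Subtype.ext ((hcomp w.1).mp w.2))

/-- Over an algebraically closed field, the residue degree of a locally finite type scheme at a
closed point is `1`. -/
theorem residueDegree_of_isClosed {K : Type u} [Field K] [IsAlgClosed K] {X : Scheme.{u}}
    (f : X ⟶ Spec (CommRingCat.of K)) [LocallyOfFiniteType f] (x : X)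
    (hx : IsClosed ({x} : Set X)) : f.residueDegree x = 1 := by
  let ψ : CommRingCat.of K ⟶ (Spec (CommRingCat.of K)).residueField (f x) :=
    Spec.preimage ((Spec (CommRingCat.of K)).fromSpecResidueField (f x))
  have h1 : ψ ≫ f.residueFieldMap x = (residueFieldIsoBase f x hx).inv := by
    apply Spec.map_injective
    rw [Spec.map_comp, Spec.map_preimage, SpecMap_residueFieldIsoBase_inv,
      Scheme.Hom.SpecMap_residueFieldMap_fromSpecResidueField]
  have hsurj : Function.Surjective (f.residueFieldMap x).hom := by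
    intro z
    obtain ⟨y, hy⟩ : ∃ y, (residueFieldIsoBase f x hx).inv.hom y = z :=
      ⟨(residueFieldIsoBase f x hx).hom.hom z, by
        exact Iso.hom_inv_id_apply (residueFieldIsoBase f x hx) z⟩
    refine ⟨ψ.hom y, ?_⟩
    rw [← hy, ← h1]
    rfl
  unfold Scheme.Hom.residueDegree
  let _ := (f.residueFieldMap x).hom.toAlgebra
  have hbij : Function.Bijective (Algebra.linearMap ((Spec (CommRingCat.of K)).residueField (f x))
      (X.residueField x)) :=
    ⟨(f.residueFieldMap x).hom.injective, hsurj⟩
  have e := LinearEquiv.ofBijective _ hbij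
  rw [← e.finrank_eq, Module.finrank_self]

/-- The closure of a closed point has dimension `0`. -/
theorem pdim_of_isClosed (X : Scheme.{u}) (x : X) (hx : IsClosed ({x} : Set X)) :
    WeilCoh.pdim X x = 0 := by
  have hci : IsClosedImmersion (X.fromSpecResidueField x) :=
    isClosed_singleton_iff_isClosedImmersion.mp hx
  have hdim0 : topologicalKrullDim (Spec (X.residueField x)) = 0 := by
    show topologicalKrullDim (PrimeSpectrum (X.residueField x)) = 0
    rw [PrimeSpectrum.topologicalKrullDim_eq_ringKrullDim]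
    exact ringKrullDim_eq_zero_of_field _
  have h1 := pdim_map_of_isClosedImmersion (X.fromSpecResidueField x)
    (IsLocalRing.closedPoint (X.residueField x))
  have h0 : (X.fromSpecResidueField x) (IsLocalRing.closedPoint (X.residueField x)) = x :=
    Scheme.fromSpecResidueField_apply x _
  rw [h0] at h1
  rw [h1]
  have h2 := pdim_le_dim (Spec (X.residueField x)) (by rw [hdim0]; exact natCast_lt_top 0)
    (IsLocalRing.closedPoint (X.residueField x))
  have h3 : WeilCoh.dim (Spec (X.residueField x)) = 0 := by
    unfold WeilCoh.dim WeilCoh.natDim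
    rw [hdim0]; rfl
  rw [h3] at h2
  exact Nat.le_zero.mp h2

/-- **The class of a closed point has trace `1`.** -/
theorem tr_cl_of_isClosed {k : Type u} [Field k] [IsAlgClosed k] {K : Type v} [Field K]
    (T : WeilCoh.TheoryOn.{u, v, w} k (WeilCoh.IsVar k) K) (X : WeilCoh.Var k)
    (x : X.obj.left) (hx : IsClosed ({x} : Set X.obj.left)) : T.tr X (T.cl X x) = 1 := by
  have hsm : Smooth X.obj.hom := X.property.1
  have h1 : (1 : T.H (pt k)) ∈ T.gr (pt k) (2 * (WeilCoh.pdim X.obj.left x : ℤ)) := by
    rw [pdim_of_isClosed X.obj.left x hx]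
    exact (T.gradedMul (pt k)).toGradedOne.one_mem
  have h := T.cl_push (toPt k X) x 1 h1
  have hpt := T.point (pt k) (dim_pt k)
  have hdeg : (WeilCoh.sm (toPt k X)).residueDegree x = 1 :=
    residueDegree_of_isClosed X.obj.hom x hx
  rw [map_one, mul_one, hpt.1, mul_one, hpt.2, mul_one, hdeg] at h
  simpa using h

end Groth.Agent.Lib.Helper97.VarPt
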