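import Groth.Agent.Lib.Helper55.DimPoint
import Groth.Agent.Lib.Helper97.VarPt
import Mathlib

/-! Helper lemmas (helper97): the dimension of the closure of a point of a scheme locally of finite
type over a field is the transcendence degree of its residue field (from helper55's dimension
library); consequences for residue degrees and for `WeilCoh.pdim`. -/

set_option autoImplicit false
universe u v w

open CategoryTheory AlgebraicGeometry CategoryTheory.Limits

namespace Groth.Agent.Lib.Helper97.VarTrdeg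

open Groth.Agent.Lib.Helper55 Groth.Agent.Lib.Helper97.VarDim Groth.Agent.Lib.Helper97.VarPt

attribute [local instance] Curv2.resAlgebra

/-- The dimension of the closure of a point equals the transcendence degree of its residue field. -/
theorem exists_dim_closure_eq_trdeg (k : Type u) [Field k] (X : Scheme.{u})
    [X.Over (Spec (CommRingCat.of k))] [LocallyOfFiniteType (X ↘ (Spec (CommRingCat.of k)))]
    (ξ : X) :
    ∃ s : ℕ, topologicalKrullDim ↥(closure ({ξ} : Set X)) = s ∧
      Algebra.trdeg k (X.residueField ξ) = s := by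
  obtain ⟨U, hU, hξU, -⟩ := exists_isAffineOpen_mem_and_subset (x := ξ) (U := ⊤) trivial
  obtain ⟨s, hs1, hs2⟩ :=
    exists_ringKrullDim_quotient_eq_and_trdeg_residueField_eq_of_isAffineOpen k X U hU ξ hξU
  refine ⟨s, ?_, hs2⟩
  have h := topologicalKrullDim_closure_chart (X ↘ Spec (CommRingCat.of k)) hU.fromSpec
    (hU.primeIdealOf ⟨ξ, hξU⟩)
  rw [hU.fromSpec_primeIdealOf] at h
  rw [h, hs1]

/-- `pdim` as a transcendence degree. -/
theorem pdim_eq_of_trdeg_eq (k : Type u) [Field k] (X : Scheme.{u})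
    [X.Over (Spec (CommRingCat.of k))] [LocallyOfFiniteType (X ↘ (Spec (CommRingCat.of k)))]
    (ξ : X) (s : ℕ) (hs : Algebra.trdeg k (X.residueField ξ) = s) : WeilCoh.pdim X ξ = s := by
  obtain ⟨s', hs1, hs2⟩ := exists_dim_closure_eq_trdeg k X ξ
  have : s' = s := by
    rw [hs] at hs2
    exact_mod_cast hs2.symm
  subst this
  unfold WeilCoh.pdim WeilCoh.natDim
  rw [hs1]
  rfl

/-- The base field acts compatibly on residue fields along a morphism over `k`. -/
theorem residueFieldMap_comp_resMap (k : Type u) [Field k] (X Y : Scheme.{u})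
    [X.Over (Spec (CommRingCat.of k))] [Y.Over (Spec (CommRingCat.of k))] (f : X ⟶ Y)
    (hf : f ≫ (Y ↘ Spec (CommRingCat.of k)) = X ↘ Spec (CommRingCat.of k)) (x : X) :
    (f.residueFieldMap x).hom.comp (Curv2.resMap k Y (f x)) = Curv2.resMap k X x := by
  ext r
  unfold Curv2.resMap Curv2.stalkMap Coh.toGlobal
  simp only [RingHom.comp_apply]
  rw [← hf]
  have h1 : (Y.residue (f x)) ≫ f.residueFieldMap x = f.stalkMap x ≫ X.residue x :=
    Scheme.residue_residueFieldMap f x
  have h2 : Y.presheaf.germ ⊤ (f x) trivial ≫ f.stalkMap x =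
      f.appTop ≫ X.presheaf.germ ⊤ x trivial := by
    have := Scheme.Hom.germ_stalkMap f ⊤ x trivial
    exact this
  have h3 : (f ≫ (Y ↘ Spec (CommRingCat.of k))).appTop =
      (Y ↘ Spec (CommRingCat.of k)).appTop ≫ f.appTop := Scheme.Hom.comp_appTop _ _
  set a := ((Y ↘ Spec (CommRingCat.of k)).appTop).hom
    ((Scheme.ΓSpecIso (CommRingCat.of k)).inv.hom r) with ha
  have e1 := congr($h1 ((Y.presheaf.germ ⊤ (f x) trivial).hom a))
  have e2 := congr($h2 a)
  rw [h3]
  simp only [CommRingCat.hom_comp, RingHom.comp_apply] at e1 e2 ⊢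
  rw [e1, e2]

/-- A finite residue field extension along a `k`-morphism preserves transcendence degrees. -/
theorem trdeg_eq_of_residueDegree_ne_zero (k : Type u) [Field k] (X Y : Scheme.{u})
    [X.Over (Spec (CommRingCat.of k))] [Y.Over (Spec (CommRingCat.of k))] (f : X ⟶ Y)
    (hf : f ≫ (Y ↘ Spec (CommRingCat.of k)) = X ↘ Spec (CommRingCat.of k)) (x : X)
    (h : f.residueDegree x ≠ 0) :
    Algebra.trdeg k (X.residueField x) = Algebra.trdeg k (Y.residueField (f x)) := by
  let _ : Algebra (Y.residueField (f x)) (X.residueField x) := (f.residueFieldMap x).hom.toAlgebra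
  have : IsScalarTower k (Y.residueField (f x)) (X.residueField x) :=
    IsScalarTower.of_algebraMap_eq
      (fun r => (congr($(residueFieldMap_comp_resMap k X Y f hf x) r)).symm)
  have hfin : Module.Finite (Y.residueField (f x)) (X.residueField x) :=
    Module.finite_of_finrank_pos (Nat.pos_of_ne_zero h)
  have halg : Algebra.IsAlgebraic (Y.residueField (f x)) (X.residueField x) :=
    Algebra.IsAlgebraic.of_finite _ _
  have h0 : Algebra.trdeg (Y.residueField (f x)) (X.residueField x) = 0 := trdeg_eq_zero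
  have h1 := trdeg_add_eq k (Y.residueField (f x)) (A := X.residueField x)
  rw [h0, add_zero] at h1
  exact h1.symm

/-- A finite residue field extension along a `k`-morphism preserves the dimension of the closure. -/
theorem pdim_eq_of_residueDegree_ne_zero (k : Type u) [Field k] (X Y : Scheme.{u})
    [X.Over (Spec (CommRingCat.of k))] [Y.Over (Spec (CommRingCat.of k))]
    [LocallyOfFiniteType (X ↘ (Spec (CommRingCat.of k)))]
    [LocallyOfFiniteType (Y ↘ (Spec (CommRingCat.of k)))] (f : X ⟶ Y)
    (hf : f ≫ (Y ↘ Spec (CommRingCat.of k)) = X ↘ Spec (CommRingCat.of k)) (x : X)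
    (h : f.residueDegree x ≠ 0) :
    WeilCoh.pdim X x = WeilCoh.pdim Y (f x) := by
  obtain ⟨s, -, hs⟩ := exists_dim_closure_eq_trdeg k Y (f x)
  rw [pdim_eq_of_trdeg_eq k Y (f x) s hs]
  exact pdim_eq_of_trdeg_eq k X x s
    ((trdeg_eq_of_residueDegree_ne_zero k X Y f hf x h).trans hs)

/-- Version for morphisms in `WeilCoh.Var k`. -/
theorem var_pdim_eq_of_residueDegree_ne_zero (k : Type u) [Field k] {X Y : WeilCoh.Var k}
    (f : X ⟶ Y) (x : X.obj.left) (h : (WeilCoh.sm f).residueDegree x ≠ 0) :
    WeilCoh.pdim X.obj.left x = WeilCoh.pdim Y.obj.left (WeilCoh.sm f x) := by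
  let _ : X.obj.left.Over (Spec (CommRingCat.of k)) := ⟨X.obj.hom⟩
  let _ : Y.obj.left.Over (Spec (CommRingCat.of k)) := ⟨Y.obj.hom⟩
  have hX : Smooth X.obj.hom := X.property.1
  have hY : Smooth Y.obj.hom := Y.property.1
  have hXl : LocallyOfFiniteType (X.obj.left ↘ (Spec (CommRingCat.of k))) :=
    inferInstanceAs (LocallyOfFiniteType X.obj.hom)
  have hYl : LocallyOfFiniteType (Y.obj.left ↘ (Spec (CommRingCat.of k))) :=
    inferInstanceAs (LocallyOfFiniteType Y.obj.hom)
  exact pdim_eq_of_residueDegree_ne_zero k X.obj.left Y.obj.left (WeilCoh.sm f)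
    (Over.w f.hom) x h

/-- The residue field of `Spec k` at its point has transcendence degree `0` over `k`. -/
theorem trdeg_residueField_spec_field (k : Type u) [Field k]
    [(Spec (CommRingCat.of k)).Over (Spec (CommRingCat.of k))]
    [LocallyOfFiniteType ((Spec (CommRingCat.of k)) ↘ (Spec (CommRingCat.of k)))]
    (y : Spec (CommRingCat.of k)) :
    Algebra.trdeg k ((Spec (CommRingCat.of k)).residueField y) = 0 := by
  obtain ⟨s, hs1, hs2⟩ := exists_dim_closure_eq_trdeg k (Spec (CommRingCat.of k)) y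
  have h0 : topologicalKrullDim (Spec (CommRingCat.of k)) = 0 := by
    show topologicalKrullDim (PrimeSpectrum k) = 0
    rw [PrimeSpectrum.topologicalKrullDim_eq_ringKrullDim]
    exact ringKrullDim_eq_zero_of_field k
  have h1 : topologicalKrullDim ↥(closure ({y} : Set (Spec (CommRingCat.of k)))) ≤ 0 := by
    rw [← h0]
    exact topologicalKrullDim_subspace_le _ _
  rw [hs1] at h1
  have hs0 : s = 0 := by
    have : ((s : ℕ) : WithBot ℕ∞) ≤ ((0 : ℕ) : WithBot ℕ∞) := by simpa using h1
    exact Nat.le_zero.mp (by exact_mod_cast this)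
  rw [hs2, hs0]; rfl

/-- Over an algebraically closed field: a point whose residue field is algebraic over the residue
field of its image in `Spec k` has residue degree `1` and closure of dimension `0`. -/
theorem residueDegree_eq_one_and_pdim_eq_zero (k : Type u) [Field k] [IsAlgClosed k]
    (X : Scheme.{u}) [X.Over (Spec (CommRingCat.of k))]
    [LocallyOfFiniteType (X ↘ (Spec (CommRingCat.of k)))] (ξ : X)
    (h : (letI := ((X ↘ Spec (CommRingCat.of k)).residueFieldMap ξ).hom.toAlgebra
      Algebra.trdeg ((Spec (CommRingCat.of k)).residueField ((X ↘ Spec (CommRingCat.of k)) ξ))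
        (X.residueField ξ)) = 0) :
    (X ↘ Spec (CommRingCat.of k)).residueDegree ξ = 1 ∧ WeilCoh.pdim X ξ = 0 := by
  set p := X ↘ Spec (CommRingCat.of k) with hp
  let _ : (Spec (CommRingCat.of k)).Over (Spec (CommRingCat.of k)) := ⟨𝟙 _⟩
  have hl : LocallyOfFiniteType ((Spec (CommRingCat.of k)) ↘ (Spec (CommRingCat.of k))) :=
    inferInstanceAs (LocallyOfFiniteType (𝟙 (Spec (CommRingCat.of k))))
  let _ : Algebra ((Spec (CommRingCat.of k)).residueField (p ξ)) (X.residueField ξ) :=
    (p.residueFieldMap ξ).hom.toAlgebra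
  have hcomp := residueFieldMap_comp_resMap k X (Spec (CommRingCat.of k)) p
    (Category.comp_id _) ξ
  have : IsScalarTower k ((Spec (CommRingCat.of k)).residueField (p ξ)) (X.residueField ξ) :=
    IsScalarTower.of_algebraMap_eq (fun r => (congr($hcomp r)).symm)
  have h1 := trdeg_add_eq k ((Spec (CommRingCat.of k)).residueField (p ξ))
    (A := X.residueField ξ)
  rw [trdeg_residueField_spec_field, h, add_zero] at h1
  have halg : Algebra.IsAlgebraic k (X.residueField ξ) := trdeg_eq_zero_iff.mp h1.symm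
  have hbij : Function.Bijective (algebraMap k (X.residueField ξ)) :=
    IsAlgClosed.algebraMap_bijective_of_isIntegral
  refine ⟨?_, pdim_eq_of_trdeg_eq k X ξ 0 (by rw [← h1]; rfl)⟩
  have hsurj : Function.Surjective (p.residueFieldMap ξ).hom := by
    intro z
    obtain ⟨r, rfl⟩ := hbij.2 z
    exact ⟨Curv2.resMap k (Spec (CommRingCat.of k)) (p ξ) r, congr($hcomp r)⟩
  unfold Scheme.Hom.residueDegree
  have hbij' : Function.Bijective (Algebra.linearMap
      ((Spec (CommRingCat.of k)).residueField (p ξ)) (X.residueField ξ)) :=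
    ⟨(p.residueFieldMap ξ).hom.injective, hsurj⟩
  have e := LinearEquiv.ofBijective _ hbij'
  rw [← e.finrank_eq, Module.finrank_self]

/-- The class of a point with zero-dimensional closure and residue degree one has trace `1`. -/
theorem tr_cl_of_pdim_eq_zero {k : Type u} [Field k] {K : Type v} [Field K]
    (T : WeilCoh.TheoryOn.{u, v, w} k (WeilCoh.IsVar k) K) (X : WeilCoh.Var k)
    (x : X.obj.left) (hp : WeilCoh.pdim X.obj.left x = 0)
    (hd : X.obj.hom.residueDegree x = 1) : T.tr X (T.cl X x) = 1 := by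
  have h1 : (1 : T.H (pt k)) ∈ T.gr (pt k) (2 * (WeilCoh.pdim X.obj.left x : ℤ)) := by
    rw [hp]
    exact (T.gradedMul (pt k)).toGradedOne.one_mem
  have h := T.cl_push (toPt k X) x 1 h1
  have hpt := T.point (pt k) (dim_pt k)
  have hdeg : (WeilCoh.sm (toPt k X)).residueDegree x = 1 := hd
  rw [map_one, mul_one, hpt.1, mul_one, hpt.2, mul_one, hdeg] at h
  simpa using h

/-- For a dimension function induced from weight `0` on `Spec k` (`k` algebraically closed): at a
point of weight `0` the residue degree is `1`, the closure has dimension `0`. -/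
theorem var_of_delta_eq_zero (k : Type u) [Field k] [IsAlgClosed k] (X : WeilCoh.Var k)
    (δ : X.obj.left → ℤ) (hδ : Cyc.DeltaCompat X.obj.hom δ (fun _ => 0)) (ξ : X.obj.left)
    (h0 : δ ξ = 0) :
    X.obj.hom.residueDegree ξ = 1 ∧ WeilCoh.pdim X.obj.left ξ = 0 := by
  let _ : X.obj.left.Over (Spec (CommRingCat.of k)) := ⟨X.obj.hom⟩
  have hX : Smooth X.obj.hom := X.property.1
  have hXl : LocallyOfFiniteType (X.obj.left ↘ (Spec (CommRingCat.of k))) :=
    inferInstanceAs (LocallyOfFiniteType X.obj.hom)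
  obtain ⟨n, hn, hδn⟩ := hδ ξ
  have hn0 : n = 0 := by
    rw [h0] at hδn
    simp only [zero_add] at hδn
    exact_mod_cast hδn.symm
  rw [hn0, Nat.cast_zero] at hn
  exact residueDegree_eq_one_and_pdim_eq_zero k X.obj.left ξ hn

/-- A dimension function induced from weight `0` on `Spec k` is the transcendence degree of the
residue field over `k`. -/
theorem exists_trdeg_eq_delta (k : Type u) [Field k] (X : Scheme.{u})
    [X.Over (Spec (CommRingCat.of k))] (δ : X → ℤ)
    (hδ : Cyc.DeltaCompat (X ↘ Spec (CommRingCat.of k)) δ (fun _ => 0)) (x : X) :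
    ∃ n : ℕ, Algebra.trdeg k (X.residueField x) = n ∧ δ x = n := by
  set p := X ↘ Spec (CommRingCat.of k) with hp
  let _ : (Spec (CommRingCat.of k)).Over (Spec (CommRingCat.of k)) := ⟨𝟙 _⟩
  have hl : LocallyOfFiniteType ((Spec (CommRingCat.of k)) ↘ (Spec (CommRingCat.of k))) :=
    inferInstanceAs (LocallyOfFiniteType (𝟙 (Spec (CommRingCat.of k))))
  obtain ⟨n, hn, hδn⟩ := hδ x
  refine ⟨n, ?_, by simpa using hδn⟩
  let _ : Algebra ((Spec (CommRingCat.of k)).residueField (p x)) (X.residueField x) :=
    (p.residueFieldMap x).hom.toAlgebra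
  have hcomp := residueFieldMap_comp_resMap k X (Spec (CommRingCat.of k)) p
    (Category.comp_id _) x
  have : IsScalarTower k ((Spec (CommRingCat.of k)).residueField (p x)) (X.residueField x) :=
    IsScalarTower.of_algebraMap_eq (fun r => (congr($hcomp r)).symm)
  have h1 := trdeg_add_eq k ((Spec (CommRingCat.of k)).residueField (p x))
    (A := X.residueField x)
  rw [trdeg_residueField_spec_field, zero_add] at h1
  rw [← h1]
  exact hn

/-- The weight of `AlgebraicCycle.map` for dimension functions induced from `Spec k` is the residue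
degree (which vanishes when the dimension drops). -/
theorem mapCoeff_eq_residueDegree (k : Type u) [Field k] {X Y : WeilCoh.Var k} (f : X ⟶ Y)
    (δX : X.obj.left → ℤ) (hδX : Cyc.DeltaCompat X.obj.hom δX (fun _ => 0))
    (δY : Y.obj.left → ℤ) (hδY : Cyc.DeltaCompat Y.obj.hom δY (fun _ => 0)) (x : X.obj.left) :
    AlgebraicCycle.mapCoeff (WeilCoh.sm f) δX δY x = (WeilCoh.sm f).residueDegree x := by
  classical
  unfold AlgebraicCycle.mapCoeff
  split_ifs with h
  · rfl
  · by_contra hne
    apply h
    let _ : X.obj.left.Over (Spec (CommRingCat.of k)) := ⟨X.obj.hom⟩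
    let _ : Y.obj.left.Over (Spec (CommRingCat.of k)) := ⟨Y.obj.hom⟩
    obtain ⟨n, hn1, hn2⟩ := exists_trdeg_eq_delta k X.obj.left δX hδX x
    obtain ⟨n', hn1', hn2'⟩ := exists_trdeg_eq_delta k Y.obj.left δY hδY (WeilCoh.sm f x)
    have := trdeg_eq_of_residueDegree_ne_zero k X.obj.left Y.obj.left (WeilCoh.sm f)
      (Over.w f.hom) x (Ne.symm hne)
    rw [hn1, hn1'] at this
    have hnn : n = n' := by exact_mod_cast this
    show δX x = δY ((WeilCoh.sm f) x)
    rw [hn2, hn2', hnn]

/-- The push-forward identity for arbitrary (not necessarily homogeneous) classes. -/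
theorem tr_cl_mul_pull (k : Type u) [Field k] {K : Type v} [Field K]
    (T : WeilCoh.TheoryOn.{u, v, w} k (WeilCoh.IsVar k) K) {X Y : WeilCoh.Var k} (f : X ⟶ Y)
    (x : X.obj.left) (b : T.H Y) :
    T.tr X (T.cl X x * T.pull f b) =
      ((WeilCoh.sm f).residueDegree x : K) * T.tr Y (T.cl Y (WeilCoh.sm f x) * b) := by
  have hfinX : topologicalKrullDim X.obj.left < ⊤ := var_dim_lt_top k X
  have hfinY : topologicalKrullDim Y.obj.left < ⊤ := var_dim_lt_top k Y
  have hπX : WeilCoh.pdim X.obj.left x ≤ WeilCoh.dim X.obj.left := pdim_le_dim _ hfinX _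
  have hπY : WeilCoh.pdim Y.obj.left (WeilCoh.sm f x) ≤ WeilCoh.dim Y.obj.left :=
    pdim_le_dim _ hfinY _
  have hcX : (WeilCoh.codim X.obj.left x : ℤ) =
      (WeilCoh.dim X.obj.left : ℤ) - (WeilCoh.pdim X.obj.left x : ℤ) := by
    unfold WeilCoh.codim
    omega
  have hcY : (WeilCoh.codim Y.obj.left (WeilCoh.sm f x) : ℤ) =
      (WeilCoh.dim Y.obj.left : ℤ) - (WeilCoh.pdim Y.obj.left (WeilCoh.sm f x) : ℤ) := by
    unfold WeilCoh.codim
    omega
  have hb : b ∈ ⨆ i, T.gr Y i := by
    rw [(T.decomp Y).submodule_iSup_eq_top]; trivial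
  refine Submodule.iSup_induction (T.gr Y)
    (motive := fun b => T.tr X (T.cl X x * T.pull f b) =
      ((WeilCoh.sm f).residueDegree x : K) * T.tr Y (T.cl Y (WeilCoh.sm f x) * b)) hb ?_ ?_ ?_
  · intro j c hc
    by_cases hj : j = 2 * (WeilCoh.pdim X.obj.left x : ℤ)
    · subst hj
      exact T.cl_push f x c hc
    · have h1 : T.cl X x * T.pull f c ∈ T.gr X (2 * (WeilCoh.codim X.obj.left x : ℤ) + j) :=
        SetLike.mul_mem_graded (T.cl_mem X x) (T.pull_mem f j c hc)
      have h1' : T.tr X (T.cl X x * T.pull f c) = 0 := by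
        refine T.tr_vanish X _ _ h1 ?_
        rw [hcX]; omega
      rw [h1']
      by_cases hd : (WeilCoh.sm f).residueDegree x = 0
      · rw [hd, Nat.cast_zero, zero_mul]
      · have hπ := var_pdim_eq_of_residueDegree_ne_zero k f x hd
        have h2 : T.cl Y (WeilCoh.sm f x) * c ∈
            T.gr Y (2 * (WeilCoh.codim Y.obj.left (WeilCoh.sm f x) : ℤ) + j) :=
          SetLike.mul_mem_graded (T.cl_mem Y _) hc
        have h2' : T.tr Y (T.cl Y (WeilCoh.sm f x) * c) = 0 := by
          refine T.tr_vanish Y _ _ h2 ?_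
          rw [hcY, ← hπ]; omega
        rw [h2', mul_zero]
  · simp
  · intro b₁ b₂ h₁ h₂
    rw [map_add, mul_add, map_add, h₁, h₂, mul_add, map_add, mul_add]

end Groth.Agent.Lib.Helper97.VarTrdeg
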