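import Mathlib
import Groth.Agent.Lib.Helper55.DimPoint
import Groth.Agent.Lib.Helper97.VarTrdeg
import Groth.Agent.Lib.Helper97.FrobField
import Groth.Agent.Lib.Helper97.FrobGen
import Groth.Agent.Lib.Helper97.FrobRes

/-! Helper lemmas (helper97): the degree of the Frobenius endomorphism `F = Frob_q × id` of the base
change to an algebraically closed field of a scheme over a finite field with `q` elements is
`q ^ dim` at the generic point. -/

set_option autoImplicit false
universe u v

open CategoryTheory AlgebraicGeometry CategoryTheory.Limits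

namespace Groth.Agent.Lib.Helper97.FrobVar

open Groth.Agent.Lib.Helper55 Groth.Agent.Lib.Helper97.VarDim Groth.Agent.Lib.Helper97.VarPt
  Groth.Agent.Lib.Helper97.VarTrdeg Groth.Agent.Lib.Helper97.FrobField
  Groth.Agent.Lib.Helper97.FrobGen Groth.Agent.Lib.Helper97.FrobRes

attribute [local instance] Curv2.resAlgebra

/-- Residue fields of a scheme locally of finite type over a field are finitely generated field
extensions. -/
theorem essFiniteType_residueField (k : Type u) [Field k] (X : Scheme.{u})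
    [X.Over (Spec (CommRingCat.of k))] [LocallyOfFiniteType (X ↘ (Spec (CommRingCat.of k)))]
    (x : X) : Algebra.EssFiniteType k (X.residueField x) := by
  obtain ⟨U, hU, hxU, -⟩ := exists_isAffineOpen_mem_and_subset (x := x) (U := ⊤) trivial
  let _ : Algebra k Γ(X, U) := (sectionsMap k X U).toAlgebra
  have hft : Algebra.FiniteType k Γ(X, U) := sectionsMap_finiteType k X U hU
  let ev : Γ(X, U) →ₐ[k] X.residueField x :=
    { evalResidue X U x hxU with
      commutes' := fun r ↦ congr($(evalResidue_comp_sectionsMap k X U x hxU) r) }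
  have hfrac := evalResidue_fraction X U hU x hxU
  have hprime : (RingHom.ker ev).IsPrime := RingHom.ker_isPrime ev
  have hdom : IsDomain (Γ(X, U) ⧸ RingHom.ker ev) :=
    (Ideal.Quotient.isDomain_iff_prime _).mpr hprime
  have hinj : Function.Injective (Ideal.kerLiftAlg ev) := Ideal.kerLiftAlg_injective ev
  let _ : Algebra (Γ(X, U) ⧸ RingHom.ker ev) (X.residueField x) :=
    (Ideal.kerLiftAlg ev).toRingHom.toAlgebra
  have htower : IsScalarTower k (Γ(X, U) ⧸ RingHom.ker ev) (X.residueField x) :=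
    IsScalarTower.of_algebraMap_eq fun r ↦ ((Ideal.kerLiftAlg ev).commutes r).symm
  have hf2 : FaithfulSMul (Γ(X, U) ⧸ RingHom.ker ev) (X.residueField x) :=
    (faithfulSMul_iff_algebraMap_injective _ _).mpr hinj
  have hfr : IsFractionRing (Γ(X, U) ⧸ RingHom.ker ev) (X.residueField x) := by
    apply IsFractionRing.of_field
    intro z
    obtain ⟨a, s, hs, hz⟩ := hfrac z
    refine ⟨Ideal.Quotient.mk _ a, Ideal.Quotient.mk _ s, ?_⟩
    have h1 : algebraMap (Γ(X, U) ⧸ RingHom.ker ev) (X.residueField x) (Ideal.Quotient.mk _ s) =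
        ev s := Ideal.kerLiftAlg_mk ev s
    have h2 : algebraMap (Γ(X, U) ⧸ RingHom.ker ev) (X.residueField x) (Ideal.Quotient.mk _ a) =
        ev a := Ideal.kerLiftAlg_mk ev a
    rw [h1, h2, eq_div_iff]
    · exact hz
    · exact hs
  have h3 : Algebra.EssFiniteType (Γ(X, U) ⧸ RingHom.ker ev) (X.residueField x) :=
    Algebra.EssFiniteType.of_isLocalization _ (nonZeroDivisors (Γ(X, U) ⧸ RingHom.ker ev))
  exact Algebra.EssFiniteType.comp k (Γ(X, U) ⧸ RingHom.ker ev) (X.residueField x)

/-- In the residue field of a point of `Spec k`, `k` algebraically closed, every element is a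
`q`-th power. -/
theorem exists_pow_eq_residueField_spec (k : Type u) [Field k] [IsAlgClosed k] (q : ℕ) (hq : 0 < q)
    (y : Spec (CommRingCat.of k)) (z : (Spec (CommRingCat.of k)).residueField y) :
    ∃ w : (Spec (CommRingCat.of k)).residueField y, w ^ q = z := by
  let _ : (Spec (CommRingCat.of k)).Over (Spec (CommRingCat.of k)) := ⟨𝟙 _⟩
  have hl : LocallyOfFiniteType ((Spec (CommRingCat.of k)) ↘ (Spec (CommRingCat.of k))) :=
    inferInstanceAs (LocallyOfFiniteType (𝟙 (Spec (CommRingCat.of k))))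
  have h0 := trdeg_residueField_spec_field k y
  have halg : Algebra.IsAlgebraic k ((Spec (CommRingCat.of k)).residueField y) :=
    trdeg_eq_zero_iff.mp h0
  have hint : Algebra.IsIntegral k ((Spec (CommRingCat.of k)).residueField y) :=
    Algebra.IsAlgebraic.isIntegral
  obtain ⟨c, rfl⟩ := (IsAlgClosed.algebraMap_bijective_of_isIntegral (k := k)
    (K := (Spec (CommRingCat.of k)).residueField y)).2 z
  obtain ⟨d, hd⟩ := IsAlgClosed.exists_pow_nat_eq c hq
  exact ⟨algebraMap k _ d, by rw [← map_pow, hd]⟩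


theorem range_residueFieldMap_congr {X Y : Scheme.{u}} {f g : X ⟶ Y} (e : f = g) (x : X) :
    Set.range (f.residueFieldMap x).hom = Set.range (g.residueFieldMap x).hom := by
  subst e; rfl

theorem range_residueFieldMap_comp {X Y Z : Scheme.{u}} (f : X ⟶ Y) (g : Y ⟶ Z) (x : X) :
    Set.range ((f ≫ g).residueFieldMap x).hom =
      (f.residueFieldMap x).hom '' Set.range (g.residueFieldMap (f x)).hom := by
  rw [Scheme.residueFieldMap_comp, ← Set.range_comp]
  rfl

section Main

variable (k₀ : Type u) [Field k₀] [Finite k₀] (k : Type u) [Field k] [IsAlgClosed k] [Algebra k₀ k]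
  {X : Scheme.{u}} (f : X ⟶ Spec (CommRingCat.of k₀))
  (FX : X ⟶ X) (hFb : FX.base = 𝟙 _) (hle : ∀ U : X.Opens, U ≤ FX ⁻¹ᵁ U)
  (hFapp : ∀ (U : X.Opens) (s : Γ(X, U)), (FX.appLE U U (hle U)).hom s = s ^ Nat.card k₀)

include hFapp in
/-- The `q`-Frobenius is a morphism over the field with `q` elements. -/
theorem frob_comp_structure : FX ≫ f = f := by
  classical
  haveI : Fintype k₀ := Fintype.ofFinite k₀
  apply ext_of_isAffine
  rw [Scheme.Hom.comp_appTop]
  ext c'
  show (FX.appTop).hom ((f.appTop).hom c') = (f.appTop).hom c'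
  have h0 : FX.appLE ⊤ ⊤ (hle ⊤) = FX.appTop := Scheme.Hom.appLE_eq_app FX (U := ⊤)
  have h1 : (FX.appTop).hom ((f.appTop).hom c') = ((f.appTop).hom c') ^ Nat.card k₀ := by
    rw [← hFapp ⊤ ((f.appTop).hom c'), h0]
  rw [h1, ← map_pow]
  congr 1
  obtain ⟨c, rfl⟩ : ∃ c : k₀, (Scheme.ΓSpecIso (CommRingCat.of k₀)).inv.hom c = c' :=
    ⟨(Scheme.ΓSpecIso (CommRingCat.of k₀)).hom.hom c', by
      rw [← CommRingCat.comp_apply, Iso.hom_inv_id]; rfl⟩
  rw [← map_pow, Nat.card_eq_fintype_card, FiniteField.pow_card]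

variable (Xb : WeilCoh.Var k) (π : Xb.obj.left ⟶ X)
  (hπ : IsPullback π Xb.obj.hom f (Spec.map (CommRingCat.ofHom (algebraMap k₀ k))))
  (F : Xb ⟶ Xb) (hF : WeilCoh.sm F ≫ π = π ≫ FX)

include hFapp hπ hF in
theorem isPullback_frob : IsPullback (WeilCoh.sm F) π π FX := by
  have hFstr : WeilCoh.sm F ≫ Xb.obj.hom = Xb.obj.hom := Over.w F.hom
  have hA := frob_comp_structure k₀ f FX hle hFapp
  refine IsPullback.of_right ?_ hF hπ.flip
  rw [hFstr, hA]
  exact hπ.flip

include hFb hFapp hπ hF in
theorem surjective_frob : Surjective (WeilCoh.sm F) := by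
  have hsq := isPullback_frob k₀ k f FX hle hFapp Xb π hπ F hF
  have hFXs : Surjective FX := ⟨fun x => ⟨x, frob_apply FX hFb x⟩⟩
  exact MorphismProperty.of_isPullback (P := @Surjective) hsq.flip hFXs

include hFb hFapp hπ hF in
/-- `F` fixes the generic point. -/
theorem frob_genericPoint [IrreducibleSpace ↥Xb.obj.left] :
    WeilCoh.sm F (genericPoint ↥Xb.obj.left) = genericPoint ↥Xb.obj.left := by
  have hs := surjective_frob k₀ k f FX hFb hle hFapp Xb π hπ F hF
  obtain ⟨t, ht⟩ := hs.surj (genericPoint ↥Xb.obj.left)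
  have h1 : genericPoint ↥Xb.obj.left ⤳ t := genericPoint_specializes t
  have h2 : WeilCoh.sm F (genericPoint ↥Xb.obj.left) ⤳ WeilCoh.sm F t :=
    h1.map (WeilCoh.sm F).continuous
  rw [ht] at h2
  have h3 : genericPoint ↥Xb.obj.left ⤳ WeilCoh.sm F (genericPoint ↥Xb.obj.left) :=
    genericPoint_specializes _
  exact (h2.antisymm h3).eq


include hFb hFapp hπ hF in
/-- The residue degree of `F` at the generic point is `q ^ dim`. -/
theorem residueDegree_frob [IrreducibleSpace ↥Xb.obj.left] :
    (WeilCoh.sm F).residueDegree (genericPoint ↥Xb.obj.left) =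
      (Nat.card k₀) ^ WeilCoh.dim Xb.obj.left := by
  classical
  haveI : Fintype k₀ := Fintype.ofFinite k₀
  obtain ⟨p, hp⟩ := CharP.exists k₀
  haveI := hp
  obtain ⟨⟨m, hm0⟩, hpp, hcard⟩ := FiniteField.card k₀ p
  haveI : Fact p.Prime := ⟨hpp⟩
  have hq : Nat.card k₀ = p ^ m := by rw [Nat.card_eq_fintype_card]; exact hcard
  haveI : CharP k p := charP_of_injective_algebraMap (algebraMap k₀ k).injective p
  let _ : Xb.obj.left.Over (Spec (CommRingCat.of k)) := ⟨Xb.obj.hom⟩
  have hXs : Smooth Xb.obj.hom := Xb.property.1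
  have hXl : LocallyOfFiniteType (Xb.obj.left ↘ (Spec (CommRingCat.of k))) :=
    inferInstanceAs (LocallyOfFiniteType Xb.obj.hom)
  haveI : CharP (Xb.obj.left.residueField (genericPoint ↥Xb.obj.left)) p :=
    charP_of_injective_algebraMap
      (algebraMap k (Xb.obj.left.residueField (genericPoint ↥Xb.obj.left))).injective p
  haveI : ExpChar k p := ExpChar.prime hpp
  haveI : PerfectRing k p := inferInstance
  haveI := essFiniteType_residueField k Xb.obj.left (genericPoint ↥Xb.obj.left)
  obtain ⟨s, hs1, hs2⟩ := exists_dim_closure_eq_trdeg k Xb.obj.left (genericPoint ↥Xb.obj.left)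
  have hpd : WeilCoh.pdim Xb.obj.left (genericPoint ↥Xb.obj.left) = s :=
    pdim_eq_of_trdeg_eq k Xb.obj.left _ s hs2
  have hsn : s = WeilCoh.dim Xb.obj.left := by rw [← hpd, pdim_genericPoint]
  have hdeg := finrank_iterateFrobenius_of_essFiniteType p k
    (Xb.obj.left.residueField (genericPoint ↥Xb.obj.left)) s hs2 m
  have hrange : ((WeilCoh.sm F).residueFieldMap (genericPoint ↥Xb.obj.left)).hom.fieldRange =
      (iterateFrobenius (Xb.obj.left.residueField (genericPoint ↥Xb.obj.left)) p m).fieldRange := by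
    refine fieldRange_eq_of_gen p m _
      (Set.range (π.residueFieldMap (WeilCoh.sm F (genericPoint ↥Xb.obj.left))).hom)
      (Set.range (Xb.obj.hom.residueFieldMap (WeilCoh.sm F (genericPoint ↥Xb.obj.left))).hom)
      (Set.range (π.residueFieldMap (genericPoint ↥Xb.obj.left)).hom)
      (Set.range (Xb.obj.hom.residueFieldMap (genericPoint ↥Xb.obj.left)).hom)
      (closure_range_residueFieldMap_eq_top hπ _) (closure_range_residueFieldMap_eq_top hπ _)
      ?_ ?_ ?_
    · rw [← range_residueFieldMap_comp, range_residueFieldMap_congr hF,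
        range_residueFieldMap_comp, range_residueFieldMap_frob FX (Nat.card k₀) hFb hle hFapp]
      ext w
      constructor
      · rintro ⟨_, ⟨z, rfl⟩, rfl⟩
        refine ⟨(π.residueFieldMap (genericPoint ↥Xb.obj.left)).hom z, ⟨z, rfl⟩, ?_⟩
        rw [iterateFrobenius_def, map_pow, hq]
      · rintro ⟨_, ⟨z, rfl⟩, rfl⟩
        refine ⟨z ^ Nat.card k₀, ⟨z, rfl⟩, ?_⟩
        rw [iterateFrobenius_def, map_pow, hq]
    · rw [← range_residueFieldMap_comp, range_residueFieldMap_congr (Over.w F.hom)]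
    · ext w
      constructor
      · rintro ⟨_, ⟨z, rfl⟩, rfl⟩
        exact ⟨z ^ (p ^ m), by rw [iterateFrobenius_def, map_pow]⟩
      · rintro ⟨z, rfl⟩
        obtain ⟨w, rfl⟩ := exists_pow_eq_residueField_spec k (p ^ m) (pow_pos hpp.pos m) _ z
        exact ⟨_, ⟨w, rfl⟩, by rw [iterateFrobenius_def, map_pow]⟩
  unfold Scheme.Hom.residueDegree
  rw [finrank_toAlgebra_eq_finrank_fieldRange, hrange, hdeg, hq, hsn]

end Main

end Groth.Agent.Lib.Helper97.FrobVar
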