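import Groth.Agent.Lib.Helper55.ProductDim
import Groth.Agent.Lib.Helper97.VarTrdeg
import Mathlib

/-! Helper lemmas (helper97): the dimension of a product of two objects of `WeilCoh.Var k` is the sum
of the dimensions (from helper55's product dimension formula). -/

set_option autoImplicit false
universe u v w

open CategoryTheory AlgebraicGeometry CategoryTheory.Limits

namespace Groth.Agent.Lib.Helper97.VarProd

open Groth.Agent.Lib.Helper55 Groth.Agent.Lib.Helper97.VarDim Groth.Agent.Lib.Helper97.VarPt

theorem topologicalKrullDim_eq_natDim {S : Type*} [TopologicalSpace S] [Nonempty S]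
    (h : topologicalKrullDim S < ⊤) :
    topologicalKrullDim S = ((WeilCoh.natDim S : ℕ) : WithBot ℕ∞) := by
  unfold WeilCoh.natDim
  have h0 : (0 : WithBot ℕ∞) ≤ topologicalKrullDim S := by
    unfold topologicalKrullDim
    obtain ⟨x⟩ := ‹Nonempty S›
    have : Nonempty (TopologicalSpace.IrreducibleCloseds S) :=
      ⟨⟨closure {x}, isIrreducible_singleton.closure, isClosed_closure⟩⟩
    exact Order.krullDim_nonneg
  generalize topologicalKrullDim S = a at *
  induction a using WithBot.recBotCoe with
  | bot => simp at h0
  | coe a =>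
    simp only [WithBot.unbotD_coe]
    have ha : a ≠ ⊤ := by
      rintro rfl
      exact lt_irrefl _ h
    lift a to ℕ using ha
    simp

theorem topologicalKrullDim_closure_of_dense {S : Type*} [TopologicalSpace S] (x : S)
    (h : closure ({x} : Set S) = Set.univ) :
    topologicalKrullDim ↥(closure ({x} : Set S)) = topologicalKrullDim S := by
  rw [h]
  exact IsHomeomorph.topologicalKrullDim_eq _ (Homeomorph.Set.univ S).isHomeomorph

/-- The dimension of a product is the sum of the dimensions. -/
theorem var_dim_prod (k : Type u) [Field k] {X Y Q : WeilCoh.Var k} (p : Q ⟶ X) (q : Q ⟶ Y)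
    (h : WeilCoh.IsProd p q) :
    WeilCoh.dim Q.obj.left = WeilCoh.dim X.obj.left + WeilCoh.dim Y.obj.left := by
  have hXi : IrreducibleSpace X.obj.left := X.property.2.2
  have hYi : IrreducibleSpace Y.obj.left := Y.property.2.2
  have hQi : IrreducibleSpace Q.obj.left := Q.property.2.2
  have hXs : Smooth X.obj.hom := X.property.1
  have hYs : Smooth Y.obj.hom := Y.property.1
  let e : Q.obj.left ≅ pullback X.obj.hom Y.obj.hom := h.isoPullback
  have he1 : e.hom ≫ pullback.fst X.obj.hom Y.obj.hom = WeilCoh.sm p := h.isoPullback_hom_fst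
  have he2 : e.hom ≫ pullback.snd X.obj.hom Y.obj.hom = WeilCoh.sm q := h.isoPullback_hom_snd
  let E : Q.obj.left ≃ₜ ↥(pullback X.obj.hom Y.obj.hom) := Scheme.homeoOfIso e
  set ω : ↥(pullback X.obj.hom Y.obj.hom) := E (genericPoint Q.obj.left) with hω
  have hωcl : closure ({ω} : Set ↥(pullback X.obj.hom Y.obj.hom)) = Set.univ := by
    have h1 := E.image_closure ({genericPoint Q.obj.left} : Set Q.obj.left)
    rw [genericPoint_closure, Set.image_univ, E.surjective.range_eq, Set.image_singleton] at h1
    exact h1.symm
  have hdim := topologicalKrullDim_closure_of_maximal_point_product X.obj.hom Y.obj.hom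
    (genericPoint X.obj.left) (genericPoint Y.obj.left) ω
    (genericPoint_specializes _) (genericPoint_specializes _)
    (by
      intro ω' _ _ hsp
      have h2 : ω ⤳ ω' := by
        rw [specializes_iff_mem_closure, hωcl]; trivial
      exact (hsp.antisymm h2).eq)
  rw [topologicalKrullDim_closure_of_dense ω hωcl,
    topologicalKrullDim_closure_of_dense _ (genericPoint_closure X.obj.left),
    topologicalKrullDim_closure_of_dense _ (genericPoint_closure Y.obj.left),
    ← IsHomeomorph.topologicalKrullDim_eq _ E.isHomeomorph,
    topologicalKrullDim_eq_natDim (var_dim_lt_top k Q),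
    topologicalKrullDim_eq_natDim (var_dim_lt_top k X),
    topologicalKrullDim_eq_natDim (var_dim_lt_top k Y)] at hdim
  unfold WeilCoh.dim
  exact_mod_cast hdim

end Groth.Agent.Lib.Helper97.VarProd
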