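import Mathlib

/-!
# Finite morphisms between regular schemes: going-down and the dimension formula (helper97)

* `hasGoingDown_of_loc`: if `A` is an integrally closed domain, `B` a domain which is a localization
  of its subring of `A`-integral elements and `A → B` is injective, then `A → B` has going-down.
* `ringKrullDim_eq_add_of_hasGoingDown`: for a local homomorphism of Noetherian local rings with
  going-down, `dim B = dim A + dim B/m_A B`.
* `stalkMap_injective_of_dominant`: if every irreducible component of `X` dominates an irreducible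
  component of `Y` and the local rings at `x`, `f x` are domains, the stalk map at `x` is injective.
* `exists_integral_frac`: for a finite morphism, every element of `O_{X,x}` is a fraction of
  elements integral over `O_{Y,f x}`.
-/

set_option linter.style.haveILetI false

universe u

open CategoryTheory AlgebraicGeometry TopologicalSpace IsLocalRing

namespace Groth.Agent.Lib.Helper97.FinRegFlat


section Alg

variable {A B : Type u} [CommRing A] [CommRing B] [Algebra A B]

/-- the submonoid of the integral closure consisting of the elements that are units in `B`. -/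
def unitSub (A B : Type u) [CommRing A] [CommRing B] [Algebra A B] :
    Submonoid (integralClosure A B) where
  carrier := {c | IsUnit (c : B)}
  one_mem' := by simp
  mul_mem' := by
    intro a b ha hb
    change IsUnit ((a * b : integralClosure A B) : B)
    rw [MulMemClass.coe_mul]
    exact IsUnit.mul ha hb

theorem isLocalization_unitSub
    (hloc : ∀ b : B, ∃ c s : B, IsIntegral A c ∧ IsIntegral A s ∧ IsUnit s ∧ b * s = c) :
    IsLocalization (unitSub A B) B where
  map_units := by
    rintro ⟨c, hc⟩
    exact hc
  surj := by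
    intro b
    obtain ⟨c, s, hc, hs, hu, h⟩ := hloc b
    exact ⟨(⟨c, hc⟩, ⟨⟨s, hs⟩, hu⟩), h⟩
  exists_of_eq := by
    intro x y h
    refine ⟨1, ?_⟩
    have : x = y := Subtype.ext h
    rw [this]

theorem hasGoingDown_of_loc [IsDomain A] [IsIntegrallyClosed A] [IsDomain B]
    (hinj : Function.Injective (algebraMap A B))
    (hloc : ∀ b : B, ∃ c s : B, IsIntegral A c ∧ IsIntegral A s ∧ IsUnit s ∧ b * s = c) :
    Algebra.HasGoingDown A B := by
  haveI : FaithfulSMul A (integralClosure A B) := by
    rw [faithfulSMul_iff_algebraMap_injective]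
    intro a b hab
    apply hinj
    have := congrArg (algebraMap (integralClosure A B) B) hab
    simpa [← IsScalarTower.algebraMap_apply] using this
  haveI : Algebra.HasGoingDown A (integralClosure A B) := inferInstance
  haveI := isLocalization_unitSub hloc
  haveI : Module.Flat (integralClosure A B) B := IsLocalization.flat B (unitSub A B)
  haveI : Algebra.HasGoingDown (integralClosure A B) B := inferInstance
  exact Algebra.HasGoingDown.trans (R := A) (S := integralClosure A B) B

end Alg



section Dim

variable {A B : Type u} [CommRing A] [CommRing B] [Algebra A B]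

theorem ringKrullDim_eq_add_of_hasGoingDown [IsLocalRing A] [IsLocalRing B] [IsNoetherianRing A]
    [IsNoetherianRing B]
    [IsLocalHom (algebraMap A B)] [Algebra.HasGoingDown A B] :
    ringKrullDim B = ringKrullDim A +
      ringKrullDim (B ⧸ (maximalIdeal A).map (algebraMap A B)) := by
  set I := (maximalIdeal A).map (algebraMap A B) with hI
  have hIle : I ≤ maximalIdeal B := by
    rw [hI, Ideal.map_le_iff_le_comap]
    intro a ha
    exact map_nonunit (algebraMap A B) a ha
  have hIne : I ≠ ⊤ := fun h => (maximalIdeal.isMaximal B).ne_top (top_le_iff.mp (h ▸ hIle))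
  have : Nontrivial (B ⧸ I) := Ideal.Quotient.nontrivial_iff.mpr hIne
  have := IsLocalRing.of_surjective' (Ideal.Quotient.mk I) Ideal.Quotient.mk_surjective
  have := IsLocalHom.of_surjective (Ideal.Quotient.mk I) Ideal.Quotient.mk_surjective
  have hmax : (maximalIdeal B).map (Ideal.Quotient.mk I) = maximalIdeal (B ⧸ I) := by
    ext x
    obtain ⟨x, rfl⟩ := Ideal.Quotient.mk_surjective x
    simp [sup_eq_left.mpr (le_maximalIdeal hIne)]
  have h := Ideal.height_eq_height_add_of_liesOver_of_hasGoingDown (R := A) (S := B)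
    (maximalIdeal A) (maximalIdeal B)
  rw [← hI, hmax] at h
  rw [← maximalIdeal_height_eq_ringKrullDim, ← maximalIdeal_height_eq_ringKrullDim,
    ← maximalIdeal_height_eq_ringKrullDim, h]
  push_cast
  rfl

end Dim



set_option backward.isDefEq.respectTransparency.types false in
theorem stalkMap_injective_of_dominant {X Y : Scheme.{u}} (f : X ⟶ Y)
    (hdom : ∀ Z ∈ irreducibleComponents (X : Type u),
      closure (f.base '' Z) ∈ irreducibleComponents (Y : Type u))
    (x : X) [IsDomain (X.presheaf.stalk x)] [IsDomain (Y.presheaf.stalk (f.base x))] :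
    Function.Injective (f.stalkMap x).hom := by
  classical
  let β : PrimeSpectrum (X.presheaf.stalk x) := ⟨⊥, Ideal.isPrime_bot⟩
  let jX := X.fromSpecStalk x
  let jY := Y.fromSpecStalk (f.base x)
  let ξ : X := jX.base β
  have hξx : ξ ⤳ x := by
    have : ξ ∈ Set.range jX.base := ⟨β, rfl⟩
    rw [Scheme.range_fromSpecStalk] at this
    exact this
  -- (ii) closure {ξ} is an irreducible component
  have hZ : closure ({ξ} : Set X) ∈ irreducibleComponents (X : Type u) := by
    refine ⟨isIrreducible_singleton.closure, ?_⟩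
    intro Z' hZ' hle
    have hgen := hZ'.isGenericPoint_genericPoint_closure
    set ξ' := hZ'.genericPoint with hξ'
    have h1 : ξ' ⤳ ξ := by
      rw [specializes_iff_mem_closure, hgen.def]
      exact subset_closure (hle (subset_closure rfl))
    have h2 : ξ' ∈ Set.range jX.base := by
      rw [Scheme.range_fromSpecStalk]
      exact h1.trans hξx
    obtain ⟨β', hβ'⟩ := h2
    have h3 : β' ⤳ β := by
      rw [← jX.isEmbedding.isInducing.specializes_iff]
      rw [hβ']
      exact h1
    have h4 : β' = β := by
      have h3' : (show PrimeSpectrum (X.presheaf.stalk x) from β') ≤ β :=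
        (PrimeSpectrum.le_iff_specializes _ _).mpr h3
      apply PrimeSpectrum.ext
      exact le_bot_iff.mp h3'
    have h5 : ξ' = ξ := by rw [← hβ', h4]
    calc Z' ≤ closure Z' := subset_closure
      _ = closure {ξ'} := hgen.def.symm
      _ = closure {ξ} := by rw [h5]
  -- (iii)
  have hη := hdom _ hZ
  rw [closure_image_closure f.base.hom.continuous, Set.image_singleton] at hη
  -- (iv)
  have hmax : ∀ y' : Y, y' ⤳ f.base ξ → y' = f.base ξ := by
    intro y' hy'
    have hle : closure ({f.base ξ} : Set Y) ≤ closure {y'} :=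
      specializes_iff_closure_subset.mp hy'
    have hle' := hη.2 (isIrreducible_singleton.closure) hle
    have : f.base ξ ⤳ y' := specializes_iff_closure_subset.mpr hle'
    exact (hy'.antisymm this).eq
  -- (v)
  have hcomp : jY.base ((Spec.map (f.stalkMap x)).base β) = f.base ξ := by
    have := Scheme.SpecMap_stalkMap_fromSpecStalk (f := f) (x := x)
    change (Spec.map (f.stalkMap x) ≫ jY) β = (jX ≫ f) β
    rw [this]
  -- (vi)
  let α₀ : PrimeSpectrum (Y.presheaf.stalk (f.base x)) := ⟨⊥, Ideal.isPrime_bot⟩
  let α : PrimeSpectrum (Y.presheaf.stalk (f.base x)) := (Spec.map (f.stalkMap x)).base β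
  have hα : α₀ ⤳ α := by
    refine (PrimeSpectrum.le_iff_specializes _ _).mp ?_
    exact bot_le (a := α.asIdeal)
  have h6 : jY.base α₀ ⤳ f.base ξ := by
    rw [← hcomp]
    exact hα.map jY.base.hom.continuous
  have h7 := hmax _ h6
  have h8 : α₀ = α := by
    apply jY.isEmbedding.injective
    rw [h7, ← hcomp]
  rw [RingHom.injective_iff_ker_eq_bot]
  have h9 : α.asIdeal = RingHom.ker (f.stalkMap x).hom := by
    rfl
  rw [← h9, ← h8]


set_option backward.isDefEq.respectTransparency.types false in
theorem isIntegral_germ {X Y : Scheme.{u}} (f : X ⟶ Y) [IsFinite f] (x : X) (V : Y.Opens)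
    (hV : IsAffineOpen V) (hxV : f.base x ∈ V) (s₀ : Γ(X, f ⁻¹ᵁ V)) :
    letI := (f.stalkMap x).hom.toAlgebra
    IsIntegral (Y.presheaf.stalk (f.base x)) (X.presheaf.germ (f ⁻¹ᵁ V) x hxV s₀) := by
  letI := (f.stalkMap x).hom.toAlgebra
  have hint : (f.app V).hom.IsIntegral := (IsFinite.finite_app f V hV).to_isIntegral
  obtain ⟨p, hp, hp0⟩ := hint s₀
  refine ⟨p.map (Y.presheaf.germ V (f.base x) hxV).hom, hp.map _, ?_⟩
  rw [Polynomial.eval₂_map]
  have hcomp : (algebraMap (Y.presheaf.stalk (f.base x)) (X.presheaf.stalk x)).comp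
      (Y.presheaf.germ V (f.base x) hxV).hom =
      (X.presheaf.germ (f ⁻¹ᵁ V) x hxV).hom.comp (f.app V).hom := by
    have := Scheme.Hom.germ_stalkMap f V x hxV
    exact congrArg CommRingCat.Hom.hom this
  rw [hcomp, ← Polynomial.hom_eval₂, hp0, map_zero]

set_option backward.isDefEq.respectTransparency.types false in
theorem exists_integral_frac {X Y : Scheme.{u}} (f : X ⟶ Y) [IsFinite f] (x : X) :
    letI := (f.stalkMap x).hom.toAlgebra
    ∀ b : X.presheaf.stalk x, ∃ c s : X.presheaf.stalk x,
      IsIntegral (Y.presheaf.stalk (f.base x)) c ∧ IsIntegral (Y.presheaf.stalk (f.base x)) s ∧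
        IsUnit s ∧ b * s = c := by
  letI := (f.stalkMap x).hom.toAlgebra
  intro b
  obtain ⟨_, ⟨V, hV, rfl⟩, hxV, -⟩ := Y.isBasis_affineOpens.exists_subset_of_mem_open
    (Set.mem_univ (f.base x)) isOpen_univ
  have hU : IsAffineOpen (f ⁻¹ᵁ V) := hV.preimage f
  letI := TopCat.Presheaf.algebra_section_stalk X.presheaf (⟨x, hxV⟩ : (f ⁻¹ᵁ V : X.Opens))
  haveI := hU.isLocalization_stalk (⟨x, hxV⟩ : (f ⁻¹ᵁ V : X.Opens))
  obtain ⟨⟨s₁, t⟩, h⟩ := IsLocalization.surj
    (hU.primeIdealOf (⟨x, hxV⟩ : (f ⁻¹ᵁ V : X.Opens))).asIdeal.primeCompl b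
  refine ⟨X.presheaf.germ (f ⁻¹ᵁ V) x hxV s₁, X.presheaf.germ (f ⁻¹ᵁ V) x hxV t.1,
    isIntegral_germ f x V hV hxV s₁, isIntegral_germ f x V hV hxV t.1, ?_, h⟩
  exact IsLocalization.map_units (X.presheaf.stalk x) t

end Groth.Agent.Lib.Helper97.FinRegFlat
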