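import Groth.Agent.Lib.Helper97.AssFibreLength

/-!
# Associated points and lengths of stalks under pull-back along an open immersion (helper97)
-/

set_option autoImplicit false
set_option linter.style.haveILetI false
universe u

open AlgebraicGeometry CategoryTheory TensorProduct TopologicalSpace Limits

namespace Groth.Agent.Lib.Helper97.AssOpen

open Groth.Agent.Lib.Helper16.FlatPull

variable {U X : Scheme.{u}} (j : U ⟶ X) [IsOpenImmersion j]

/-- The stalk of `j^* F` at `u` is the stalk of `F` at `j u`, for an open immersion `j`. -/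
theorem nonempty_stalk_pullback_equiv (F : X.Modules) [F.IsQuasicoherent] (u : U) :
    letI := (j.stalkMap u).hom.toAlgebra
    letI : Module (X.presheaf.stalk (j.base u))
        (((Scheme.Modules.pullback j).obj F).presheaf.stalk u) :=
      FlatMod.moduleStalkOver j ((Scheme.Modules.pullback j).obj F) u
    Nonempty ((((Scheme.Modules.pullback j).obj F).presheaf.stalk u) ≃ₗ[X.presheaf.stalk (j.base u)]
      (F.presheaf.stalk (j.base u))) := by
  letI := (j.stalkMap u).hom.toAlgebra
  letI : Module (X.presheaf.stalk (j.base u))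
      (((Scheme.Modules.pullback j).obj F).presheaf.stalk u) :=
    FlatMod.moduleStalkOver j ((Scheme.Modules.pullback j).obj F) u
  haveI : IsScalarTower (X.presheaf.stalk (j.base u)) (U.presheaf.stalk u)
      (((Scheme.Modules.pullback j).obj F).presheaf.stalk u) := IsScalarTower.of_compHom _ _ _
  obtain ⟨ψ, hψ⟩ := exists_isBaseChange_stalk j F u
  have hbij : Function.Bijective (algebraMap (X.presheaf.stalk (j.base u)) (U.presheaf.stalk u)) :=
    (ConcreteCategory.isIso_iff_bijective (j.stalkMap u)).mp inferInstance
  obtain ⟨e⟩ := AssFibre.nonempty_equiv_quot_of_isBaseChange hbij.2 ψ hψ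
  have hker : RingHom.ker (algebraMap (X.presheaf.stalk (j.base u)) (U.presheaf.stalk u)) = ⊥ :=
    (RingHom.injective_iff_ker_eq_bot _).mp hbij.1
  have hbot : (RingHom.ker (algebraMap (X.presheaf.stalk (j.base u)) (U.presheaf.stalk u))) •
      (⊤ : Submodule (X.presheaf.stalk (j.base u)) (F.presheaf.stalk (j.base u))) = ⊥ := by
    rw [hker, Submodule.bot_smul]
  exact ⟨e ≪≫ₗ Submodule.quotEquivOfEqBot _ hbot⟩

theorem length_stalk_pullback (F : X.Modules) [F.IsQuasicoherent] (u : U) :
    Module.length (U.presheaf.stalk u) (((Scheme.Modules.pullback j).obj F).presheaf.stalk u) =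
      Module.length (X.presheaf.stalk (j.base u)) (F.presheaf.stalk (j.base u)) := by
  letI := (j.stalkMap u).hom.toAlgebra
  letI : Module (X.presheaf.stalk (j.base u))
      (((Scheme.Modules.pullback j).obj F).presheaf.stalk u) :=
    FlatMod.moduleStalkOver j ((Scheme.Modules.pullback j).obj F) u
  haveI : IsScalarTower (X.presheaf.stalk (j.base u)) (U.presheaf.stalk u)
      (((Scheme.Modules.pullback j).obj F).presheaf.stalk u) := IsScalarTower.of_compHom _ _ _
  have hbij : Function.Bijective (algebraMap (X.presheaf.stalk (j.base u)) (U.presheaf.stalk u)) :=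
    (ConcreteCategory.isIso_iff_bijective (j.stalkMap u)).mp inferInstance
  obtain ⟨e⟩ := nonempty_stalk_pullback_equiv j F u
  rw [← Module.length_eq_of_surjective hbij.2, e.length_eq]

theorem isAssPoint_pullback_iff [IsLocallyNoetherian X] (F : X.Modules) [F.IsQuasicoherent]
    (u : U) :
    Curv2.IsAssPoint ((Scheme.Modules.pullback j).obj F) u ↔ Curv2.IsAssPoint F (j.base u) := by
  letI := (j.stalkMap u).hom.toAlgebra
  letI : Module (X.presheaf.stalk (j.base u))
      (((Scheme.Modules.pullback j).obj F).presheaf.stalk u) :=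
    FlatMod.moduleStalkOver j ((Scheme.Modules.pullback j).obj F) u
  haveI : IsScalarTower (X.presheaf.stalk (j.base u)) (U.presheaf.stalk u)
      (((Scheme.Modules.pullback j).obj F).presheaf.stalk u) := IsScalarTower.of_compHom _ _ _
  have hbij : Function.Bijective (algebraMap (X.presheaf.stalk (j.base u)) (U.presheaf.stalk u)) :=
    (ConcreteCategory.isIso_iff_bijective (j.stalkMap u)).mp inferInstance
  haveI : IsNoetherianRing (X.presheaf.stalk (j.base u)) := inferInstance
  obtain ⟨e⟩ := nonempty_stalk_pullback_equiv j F u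
  have hcomap : (IsLocalRing.maximalIdeal (U.presheaf.stalk u)).comap
      (algebraMap (X.presheaf.stalk (j.base u)) (U.presheaf.stalk u)) =
      IsLocalRing.maximalIdeal (X.presheaf.stalk (j.base u)) := by
    haveI : IsLocalHom (algebraMap (X.presheaf.stalk (j.base u)) (U.presheaf.stalk u)) := by
      change IsLocalHom (j.stalkMap u).hom
      infer_instance
    exact AssTensorLocal.comap_maximalIdeal
  unfold Curv2.IsAssPoint
  rw [← AssociatedPrimes.mem_iff, AssTensorLocal.mem_ass_iff_comap_mem_ass hbij.2, hcomap,
    LinearEquiv.AssociatedPrimes.eq e]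
  rfl

end Groth.Agent.Lib.Helper97.AssOpen
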