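import Groth.Agent.Lib.Helper97.AssProd2

/-!
# The schemes `T(x, y) = Spec κ(x) ×_S Spec κ(y)` and the associated points of `F ⊗_S G` (helper97)
-/

set_option autoImplicit false
set_option linter.style.haveILetI false
set_option linter.unusedSectionVars false
universe u

open AlgebraicGeometry CategoryTheory TensorProduct TopologicalSpace Limits

namespace Groth.Agent.Lib.Helper97.AssFibre

section Aux

/-- A surjective local homomorphism maps the maximal ideal onto the maximal ideal. -/
theorem map_maximalIdeal_of_surjective {C C' : Type*} [CommRing C] [CommRing C'] [IsLocalRing C]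
    [IsLocalRing C'] (φ : C →+* C') [IsLocalHom φ] (hφ : Function.Surjective φ) :
    (IsLocalRing.maximalIdeal C).map φ = IsLocalRing.maximalIdeal C' := by
  apply le_antisymm
  · rw [Ideal.map_le_iff_le_comap]
    intro c hc
    rw [Ideal.mem_comap, IsLocalRing.mem_maximalIdeal, mem_nonunits_iff]
    rw [IsLocalRing.mem_maximalIdeal, mem_nonunits_iff] at hc
    exact fun h => hc (isUnit_of_map_unit φ c h)
  · intro c' hc'
    obtain ⟨c, rfl⟩ := hφ c'
    refine Ideal.mem_map_of_mem φ ?_
    rw [IsLocalRing.mem_maximalIdeal, mem_nonunits_iff] at hc' ⊢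
    exact fun h => hc' (h.map φ)

variable {Z W V : Scheme.{u}}

theorem fibAssRingAt_congr {r r' : Z ⟶ W} (h : r = r') (w : Z) :
    FibAssRingAt r w ↔ FibAssRingAt r' w := by
  subst h
  rfl

/-- Composing with a preimmersion does not change the relative associated points. -/
theorem fibAssRingAt_comp_iff (π : Z ⟶ W) (ι : W ⟶ V) [IsPreimmersion ι] (w : Z) :
    FibAssRingAt (π ≫ ι) w ↔ FibAssRingAt π w := by
  have h1 : (IsLocalRing.maximalIdeal (V.presheaf.stalk ((π ≫ ι) w))).map
      ((π ≫ ι).stalkMap w).hom =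
      (IsLocalRing.maximalIdeal (W.presheaf.stalk (π w))).map (π.stalkMap w).hom := by
    have h0 : ((π ≫ ι).stalkMap w).hom = (π.stalkMap w).hom.comp (ι.stalkMap (π w)).hom := by
      rw [Scheme.Hom.stalkMap_comp]
      rfl
    have h2 : (IsLocalRing.maximalIdeal (V.presheaf.stalk (ι (π w)))).map
        ((π.stalkMap w).hom.comp (ι.stalkMap (π w)).hom) =
        (IsLocalRing.maximalIdeal (W.presheaf.stalk (π w))).map (π.stalkMap w).hom := by
      rw [← Ideal.map_map, map_maximalIdeal_of_surjective _ (ι.stalkMap_surjective (π w))]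
    refine Eq.trans ?_ h2
    exact congrArg (fun φ : V.presheaf.stalk (ι (π w)) →+* Z.presheaf.stalk w =>
      Ideal.map φ (IsLocalRing.maximalIdeal (V.presheaf.stalk (ι (π w))))) h0
  unfold FibAssRingAt
  rw [h1]

/-- The associated points of the structure sheaf are invariant under isomorphisms of schemes. -/
theorem isAssPoint_structureModule_iso {T T' : Scheme.{u}} [IsLocallyNoetherian T']
    (θ : T ≅ T') (t : T) :
    Curv2.IsAssPoint (Coh.structureModule T) t ↔
      Curv2.IsAssPoint (Coh.structureModule T') (θ.hom t) := by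
  rw [isAssPoint_structureModule_iff, isAssPoint_structureModule_iff]
  letI := (θ.hom.stalkMap t).hom.toAlgebra
  have hbij : Function.Bijective (algebraMap (T'.presheaf.stalk (θ.hom t)) (T.presheaf.stalk t)) :=
    (ConcreteCategory.isIso_iff_bijective (θ.hom.stalkMap t)).mp inferInstance
  haveI : IsNoetherianRing (T'.presheaf.stalk (θ.hom t)) := inferInstance
  have hcomap : (IsLocalRing.maximalIdeal (T.presheaf.stalk t)).comap
      (algebraMap (T'.presheaf.stalk (θ.hom t)) (T.presheaf.stalk t)) =
      IsLocalRing.maximalIdeal (T'.presheaf.stalk (θ.hom t)) := by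
    haveI : IsLocalHom (algebraMap (T'.presheaf.stalk (θ.hom t)) (T.presheaf.stalk t)) := by
      change IsLocalHom (θ.hom.stalkMap t).hom
      infer_instance
    exact AssTensorLocal.comap_maximalIdeal
  let e : T'.presheaf.stalk (θ.hom t) ≃ₗ[T'.presheaf.stalk (θ.hom t)] T.presheaf.stalk t :=
    LinearEquiv.ofBijective (Algebra.linearMap _ _) hbij
  rw [AssTensorLocal.mem_ass_iff_comap_mem_ass hbij.2, hcomap,
    ← LinearEquiv.AssociatedPrimes.eq e]

end Aux

section T

variable {X Y S : Scheme.{u}} (f : X ⟶ S) (g : Y ⟶ S)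

/-- The composite `P_x → X ×_S Y → Y`. -/
noncomputable abbrev fiberToSnd (x : X) : (pullback.fst f g).fiber x ⟶ Y :=
  (pullback.fst f g).fiberι x ≫ pullback.snd f g

/-- `T(x, y) = Spec κ(x) ×_S Spec κ(y)`. -/
noncomputable abbrev TT (x : X) (y : Y) : Scheme.{u} :=
  pullback (X.fromSpecResidueField x ≫ f) (Y.fromSpecResidueField y ≫ g)

/-- The canonical monomorphism `T(x, y) → X ×_S Y`. -/
noncomputable abbrev tauMap (x : X) (y : Y) : TT f g x y ⟶ pullback f g :=
  pullback.map (X.fromSpecResidueField x ≫ f) (Y.fromSpecResidueField y ≫ g) f g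
    (X.fromSpecResidueField x) (Y.fromSpecResidueField y) (𝟙 S) (Category.comp_id _)
    (Category.comp_id _)

theorem isPullback_fiber_fst (x : X) :
    IsPullback ((pullback.fst f g).fiberToSpecResidueField x) (fiberToSnd f g x)
      (X.fromSpecResidueField x ≫ f) g :=
  (IsPullback.of_hasPullback (pullback.fst f g) (X.fromSpecResidueField x)).flip.paste_vert
    (IsPullback.of_hasPullback f g)

theorem isPullback_fiber_fiberToSnd (x : X) (y : Y) :
    IsPullback ((fiberToSnd f g x).fiberι y ≫ (pullback.fst f g).fiberToSpecResidueField x)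
      ((fiberToSnd f g x).fiberToSpecResidueField y)
      (X.fromSpecResidueField x ≫ f) (Y.fromSpecResidueField y ≫ g) :=
  ((IsPullback.of_hasPullback (fiberToSnd f g x) (Y.fromSpecResidueField y)).flip.paste_vert
    (isPullback_fiber_fst f g x).flip).flip

/-- The fibre of `P_x → Y` over `y` is `T(x, y)`. -/
noncomputable def thetaIso (x : X) (y : Y) : (fiberToSnd f g x).fiber y ≅ TT f g x y :=
  (isPullback_fiber_fiberToSnd f g x y).isoPullback

theorem thetaIso_hom_tauMap (x : X) (y : Y) :
    (thetaIso f g x y).hom ≫ tauMap f g x y =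
      (fiberToSnd f g x).fiberι y ≫ (pullback.fst f g).fiberι x := by
  apply pullback.hom_ext
  · rw [Category.assoc, Category.assoc, pullback.lift_fst, ← Category.assoc]
    unfold thetaIso
    rw [IsPullback.isoPullback_hom_fst, Category.assoc, (pullback.fst f g).fiber_fac x]
  · rw [Category.assoc, Category.assoc, pullback.lift_snd, ← Category.assoc]
    unfold thetaIso
    rw [IsPullback.isoPullback_hom_snd]
    exact ((fiberToSnd f g x).fiber_fac y).symm

theorem thetaIso_hom_tauMap_apply (x : X) (y : Y) (t' : ↥((fiberToSnd f g x).fiber y)) :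
    tauMap f g x y ((thetaIso f g x y).hom t') =
      (pullback.fst f g).fiberι x ((fiberToSnd f g x).fiberι y t') := by
  rw [← Scheme.Hom.comp_apply, ← Scheme.Hom.comp_apply, thetaIso_hom_tauMap]

variable [IsLocallyNoetherian X] [IsLocallyNoetherian (pullback f g)]

/-- The associated points of `O_{T(x, y)}` and the relative associated points of
`P_x → Y_{f x}`. -/
theorem isAssPoint_structureModule_TT_iff (x : X) (y : Y)
    (t' : ↥((fiberToSnd f g x).fiber y)) :
    Curv2.IsAssPoint (Coh.structureModule (TT f g x y)) ((thetaIso f g x y).hom t') ↔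
      FibAssRingAt (fiberProj f g x) ((fiberToSnd f g x).fiberι y t') := by
  haveI : IsLocallyNoetherian (TT f g x y) :=
    isLocallyNoetherian_of_isOpenImmersion (thetaIso f g x y).inv
  rw [← isAssPoint_structureModule_iso (thetaIso f g x y) t',
    isAssPoint_structureModule_fiber_iff (fiberToSnd f g x) y t',
    fibAssRingAt_congr (fiberProj_fiberι f g x).symm, fibAssRingAt_comp_iff]

end T

section CT

variable {X Y S : Scheme.{u}} (f : X ⟶ S) (g : Y ⟶ S)
  [IsLocallyNoetherian X] [IsLocallyNoetherian Y] [IsLocallyNoetherian (pullback f g)]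
  (F : X.Modules) [F.IsQuasicoherent] (G : Y.Modules) [G.IsQuasicoherent]

theorem apply_fiberι {Z W : Scheme.{u}} (h : Z ⟶ W) (s : W) (t : ↥(h.fiber s)) :
    h (h.fiberι s t) = s := by
  have : (h.fiberι s) t ∈ Set.range (h.fiberι s) := ⟨t, rfl⟩
  rw [h.range_fiberι s] at this
  exact this

/-- The associated points of `F ⊗_S G` on `X ×_S Y`. -/
theorem isAssPoint_tensorS_iff_exists (hGfl : FlatMod.IsFlatOver g G) (z : ↥(pullback f g)) :
    Curv2.IsAssPoint (CohB1.tensorMod ((Scheme.Modules.pullback (pullback.fst f g)).obj F)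
        ((Scheme.Modules.pullback (pullback.snd f g)).obj G)) z ↔
      ∃ x : X, Curv2.IsAssPoint F x ∧ ∃ y' : ↥(g.fiber (f x)),
        Curv2.IsAssPoint ((Scheme.Modules.pullback (g.fiberι (f x))).obj G) y' ∧
        ∃ t₀ : ↥(TT f g x (g.fiberι (f x) y')),
          Curv2.IsAssPoint (Coh.structureModule (TT f g x (g.fiberι (f x) y'))) t₀ ∧
            tauMap f g x (g.fiberι (f x) y') t₀ = z := by
  constructor
  · intro hz
    obtain ⟨hxF, hfib⟩ := (isAssPoint_tensorS_iff f g F G hGfl z).mp hz
    obtain ⟨w, hw⟩ := exists_fiberι_eq (pullback.fst f g) (pullback.fst f g z) z rfl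
    rw [← hw] at hfib
    obtain ⟨hy', hR⟩ := (fibAssAt_fst_iff f g G _ w).mp hfib
    refine ⟨pullback.fst f g z, hxF, fiberProj f g _ w, hy', ?_⟩
    have hrw : fiberToSnd f g (pullback.fst f g z) w =
        g.fiberι (f (pullback.fst f g z)) (fiberProj f g _ w) := by
      rw [fiberProj_apply]
      rfl
    obtain ⟨t', ht'⟩ := exists_fiberι_eq (fiberToSnd f g (pullback.fst f g z)) _ w hrw
    refine ⟨(thetaIso f g _ _).hom t', ?_, ?_⟩
    · rw [isAssPoint_structureModule_TT_iff, ht']
      exact hR
    · rw [thetaIso_hom_tauMap_apply, ht', hw]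
  · rintro ⟨x, hxF, y', hy', t₀, ht₀, rfl⟩
    set t' := (thetaIso f g x (g.fiberι (f x) y')).inv t₀ with ht'def
    have ht't₀ : (thetaIso f g x (g.fiberι (f x) y')).hom t' = t₀ := by
      rw [ht'def, ← Scheme.Hom.comp_apply, Iso.inv_hom_id]
      rfl
    rw [← ht't₀] at ht₀ ⊢
    rw [thetaIso_hom_tauMap_apply]
    set w := (fiberToSnd f g x).fiberι (g.fiberι (f x) y') t' with hwdef
    have hR := (isAssPoint_structureModule_TT_iff f g x _ t').mp ht₀
    have hrw : fiberToSnd f g x w = g.fiberι (f x) y' := apply_fiberι _ _ t'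
    have hπ : fiberProj f g x w = y' := by
      apply (g.fiberι (f x)).isEmbedding.injective
      rw [fiberProj_apply]
      exact hrw
    have hfib : FibAssAt (pullback.fst f g) ((Scheme.Modules.pullback (pullback.snd f g)).obj G)
        ((pullback.fst f g).fiberι x w) := by
      refine (fibAssAt_fst_iff f g G x w).mpr ⟨?_, hR⟩
      rw [hπ]
      exact hy'
    refine (isAssPoint_tensorS_iff f g F G hGfl _).mpr ⟨?_, hfib⟩
    rw [apply_fiberι]
    exact hxF

end CT

end Groth.Agent.Lib.Helper97.AssFibre
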