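import Mathlib
import Groth.Agent.S9670
import Groth.Agent.S9648
import Groth.Agent.S9664
import Groth.Agent.S9669
import Groth.Agent.Lib.Helper29.Depth
import Groth.Agent.Lib.Helper50.NoEmbRing

/-!
# Associated primes of `N ⊗_A M` for `N` flat over `A`: the local statement (helper97)

For a local homomorphism `A → B` of Noetherian local rings, `M` a finite `A`-module and `N` a
`B`-module flat over `A`: `m_B ∈ Ass_B(N ⊗_A M)` iff `m_A ∈ Ass_A(M)` and `m_B ∈ Ass_B(N / m_A N)`.
Also: associated primes along a surjective ring map and a base change.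
-/

set_option autoImplicit false
set_option linter.style.haveILetI false
universe u

open TensorProduct IsLocalRing

namespace Groth.Agent.Lib.Helper97.AssTensorLocal

open Groth.Agent.Lib.Helper50

section Local

variable {A B : Type u} [CommRing A] [CommRing B] [IsLocalRing A] [IsLocalRing B]
  [IsNoetherianRing A] [IsNoetherianRing B] [Algebra A B] [IsLocalHom (algebraMap A B)]
  (M : Type u) [AddCommGroup M] [Module A M] [Module.Finite A M]
  (N : Type u) [AddCommGroup N] [Module B N] [Module A N] [IsScalarTower A B N] [Module.Flat A N]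

omit [IsNoetherianRing A] [IsNoetherianRing B] in
theorem comap_maximalIdeal : (maximalIdeal B).comap (algebraMap A B) = maximalIdeal A := by
  ext a
  rw [Ideal.mem_comap, mem_maximalIdeal, mem_maximalIdeal, mem_nonunits_iff, mem_nonunits_iff,
    isUnit_map_iff]

/-- If `m_B` is associated to `N ⊗_A M` with `N` flat over `A`, then `m_A` is associated to `M`. -/
theorem maximalIdeal_mem_ass_of_tensor (h : maximalIdeal B ∈ associatedPrimes B (N ⊗[A] M)) :
    maximalIdeal A ∈ associatedPrimes A M := by
  rw [← Groth.Agent.Lib.Helper29.forall_not_isSMulRegular_iff_mem_associatedPrimes A M]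
  intro a ha hreg
  rw [AssociatedPrimes.mem_iff, isAssociatedPrime_iff] at h
  obtain ⟨hprime, ξ, hξ⟩ := h
  have hinj : Function.Injective ((LinearMap.lsmul A M a).lTensor N) :=
    Module.Flat.lTensor_preserves_injective_linearMap _ hreg
  have hmem : algebraMap A B a ∈ maximalIdeal B := by
    rw [← Ideal.mem_comap, comap_maximalIdeal]
    exact ha
  rw [hξ, Submodule.mem_colon_singleton, Submodule.mem_bot] at hmem
  have key : ∀ η : N ⊗[A] M, ((LinearMap.lsmul A M a).lTensor N) η = a • η := by
    intro η
    induction η using TensorProduct.induction_on with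
    | zero => simp
    | tmul n m => simp [TensorProduct.tmul_smul]
    | add x y hx hy => rw [map_add, hx, hy, smul_add]
  have h0 : ((LinearMap.lsmul A M a).lTensor N) ξ = 0 := by
    rw [key, ← algebraMap_smul B a ξ]
    exact hmem
  have hξ0 : ξ = 0 := hinj (by rw [h0, map_zero])
  apply hprime.ne_top
  rw [hξ, Ideal.eq_top_iff_one, Submodule.mem_colon_singleton, hξ0, smul_zero]
  exact Submodule.zero_mem _

/-- The local form of the theorem on the associated primes of `N ⊗_A M`, `N` flat over `A`. -/
theorem maximalIdeal_mem_ass_tensor_iff :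
    maximalIdeal B ∈ associatedPrimes B (N ⊗[A] M) ↔
      maximalIdeal A ∈ associatedPrimes A M ∧
        maximalIdeal B ∈ associatedPrimes B
          (N ⧸ ((maximalIdeal A).map (algebraMap A B)) • (⊤ : Submodule B N)) := by
  constructor
  · intro h
    refine ⟨maximalIdeal_mem_ass_of_tensor M N h, ?_⟩
    rw [← ass_eq_associatedPrimes] at h ⊢
    exact Groth.Agent.S9670.result N M (maximalIdeal A) (maximalIdeal B) comap_maximalIdeal h
  · rintro ⟨h1, h2⟩
    rw [← ass_eq_associatedPrimes] at h1 h2 ⊢
    rw [(Groth.Agent.S9669.result N (maximalIdeal A)).1] at h2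
    obtain ⟨Q, hQ, hQc⟩ := (Groth.Agent.S9664.result N (maximalIdeal A) (maximalIdeal B)
      comap_maximalIdeal).mp h2
    have := Groth.Agent.S9648.result M N (maximalIdeal A) h1 Q hQ
    rwa [hQc] at this

end Local

section Surj

variable {B B' : Type u} [CommRing B] [CommRing B'] [IsNoetherianRing B] [Algebra B B']
  (hsurj : Function.Surjective (algebraMap B B'))
  {N N' : Type u} [AddCommGroup N] [Module B N] [AddCommGroup N'] [Module B N'] [Module B' N']
  [IsScalarTower B B' N']

include hsurj in
/-- Associated primes over a quotient ring and over the ring itself. -/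
theorem mem_ass_iff_comap_mem_ass (Q : Ideal B') [Q.IsPrime] :
    Q ∈ associatedPrimes B' N' ↔ Q.comap (algebraMap B B') ∈ associatedPrimes B N' := by
  haveI : IsNoetherianRing B' := isNoetherianRing_of_surjective B B' (algebraMap B B') hsurj
  rw [AssociatedPrimes.mem_iff, AssociatedPrimes.mem_iff, isAssociatedPrime_iff,
    isAssociatedPrime_iff]
  constructor
  · rintro ⟨hQ, ξ, hξ⟩
    refine ⟨Ideal.comap_isPrime _ _, ξ, ?_⟩
    ext b
    rw [Ideal.mem_comap, hξ, Submodule.mem_colon_singleton, Submodule.mem_colon_singleton,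
      Submodule.mem_bot, Submodule.mem_bot, algebraMap_smul]
  · rintro ⟨-, ξ, hξ⟩
    refine ⟨inferInstance, ξ, ?_⟩
    ext b'
    obtain ⟨b, rfl⟩ := hsurj b'
    rw [Submodule.mem_colon_singleton, Submodule.mem_bot, algebraMap_smul, ← Ideal.mem_comap, hξ,
      Submodule.mem_colon_singleton, Submodule.mem_bot]

include hsurj in
/-- For `B → B'` surjective and `N'` the base change of `N`: a prime `Q` of `B'` is associated to
`N'` iff its contraction is associated to `N / (ker) N`. -/
theorem mem_ass_baseChange_iff (ψ : N →ₗ[B] N') (hψ : IsBaseChange B' ψ) (Q : Ideal B')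
    [Q.IsPrime] :
    Q ∈ associatedPrimes B' N' ↔
      Q.comap (algebraMap B B') ∈ associatedPrimes B
        (N ⧸ (RingHom.ker (algebraMap B B')) • (⊤ : Submodule B N)) := by
  rw [mem_ass_iff_comap_mem_ass hsurj Q]
  let e₁ : N' ≃ₗ[B] B' ⊗[B] N := hψ.equiv.symm.restrictScalars B
  let e₂ : (B ⧸ RingHom.ker (algebraMap B B')) ≃ₗ[B] B' :=
    (Ideal.quotientKerAlgEquivOfSurjective (f := Algebra.ofId B B') hsurj).toLinearEquiv
  let e₃ : B' ⊗[B] N ≃ₗ[B] (B ⧸ RingHom.ker (algebraMap B B')) ⊗[B] N :=
    TensorProduct.congr e₂.symm (LinearEquiv.refl B N)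
  let e₄ := TensorProduct.quotTensorEquivQuotSMul N (RingHom.ker (algebraMap B B'))
  rw [LinearEquiv.AssociatedPrimes.eq (e₁ ≪≫ₗ e₃ ≪≫ₗ e₄)]

end Surj

end Groth.Agent.Lib.Helper97.AssTensorLocal
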