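import Mathlib

/-!
# Faithful flatness relative to the base and base change: the commutative algebra (helper97)

* `exists_of_smul_top_ne_top`, `smul_top_ne_top_of_forall`: translate `𝔪_A • M ≠ M` for a localized
  module `M = N_P` into a statement on the unlocalized module `N`.
* `forall_smul_not_mem_of_isBaseChange`: the fibre non-vanishing is stable under base change.
* `exists_prime_of_forall`: find a prime in the fibre where the module does not vanish.
-/

set_option autoImplicit false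
set_option linter.style.haveILetI false

open TensorProduct

namespace Groth.Agent.Lib.Helper97.FFBase

section Bridge

variable {R S A B N M : Type*} [CommRing R] [CommRing S] [CommRing A] [CommRing B]
  [Algebra R S] [Algebra R A] [Algebra S B] [Algebra A B]
  [AddCommGroup N] [Module S N] [Module R N] [IsScalarTower R S N]
  [AddCommGroup M] [iBM : Module B M] [Module S M] [iSBM : IsScalarTower S B M] [Module A M]
  [iABM : IsScalarTower A B M] [Module R M] [IsScalarTower R S M] [IsScalarTower R A M]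
  (p : Ideal R) [p.IsPrime] [IsLocalRing A] [IsLocalization.AtPrime A p]
  (P : Ideal S) [P.IsPrime] [iBP : IsLocalization.AtPrime B P]
  (ℓ : N →ₗ[S] M) [IsLocalizedModule P.primeCompl ℓ]

omit [IsScalarTower R S N] [IsScalarTower R S M] [IsScalarTower R A M] [Module S M]
  [IsScalarTower S B M] in
/-- the submodule `𝔪_A • M` is stable under `B`. -/
theorem smul_mem_maximalIdeal_smul_top (b : B) {m : M}
    (hm : m ∈ IsLocalRing.maximalIdeal A • (⊤ : Submodule A M)) :
    b • m ∈ IsLocalRing.maximalIdeal A • (⊤ : Submodule A M) := by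
  refine Submodule.smul_induction_on hm (fun a ha m _ => ?_) (fun x y hx hy => ?_)
  · have : b • a • m = a • b • m := by
      rw [← algebraMap_smul B a m, ← algebraMap_smul B a (b • m), smul_smul, smul_smul, mul_comm]
    rw [this]
    exact Submodule.smul_mem_smul ha trivial
  · rw [smul_add]; exact add_mem hx hy

omit [IsScalarTower R S M] [IsScalarTower R A M] [p.IsPrime] in
/-- the submodule `p • N` (over `R`) is stable under `S`. -/
theorem smul_mem_smul_top (s : S) {z : N} (hz : z ∈ p • (⊤ : Submodule R N)) :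
    s • z ∈ p • (⊤ : Submodule R N) := by
  refine Submodule.smul_induction_on hz (fun r hr n _ => ?_) (fun x y hx hy => ?_)
  · rw [smul_comm]
    exact Submodule.smul_mem_smul hr trivial
  · rw [smul_add]; exact add_mem hx hy

include ℓ iBM iSBM iABM iBP in
/-- If `𝔪_A • M ≠ M` for `M = N_P`, there is `n : N` none of whose multiples `s • n`, `s ∉ P`,
lies in `p • N`. -/
theorem exists_of_smul_top_ne_top
    (h : IsLocalRing.maximalIdeal A • (⊤ : Submodule A M) ≠ ⊤) :
    ∃ n : N, ∀ s : S, s ∉ P → s • n ∉ p • (⊤ : Submodule R N) := by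
  by_contra hcon
  push Not at hcon
  apply h
  rw [eq_top_iff]
  rintro m -
  -- image of `p • N`
  have ha : ∀ z ∈ p • (⊤ : Submodule R N),
      ℓ z ∈ IsLocalRing.maximalIdeal A • (⊤ : Submodule A M) := by
    intro z hz
    refine Submodule.smul_induction_on hz (fun r hr n _ => ?_) (fun x y hx hy => ?_)
    · have e1 : ℓ (r • n) = algebraMap R A r • ℓ n := by
        rw [← algebraMap_smul S r n, map_smul, algebraMap_smul, algebraMap_smul]
      rw [e1]
      refine Submodule.smul_mem_smul ?_ trivial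
      exact (IsLocalization.AtPrime.to_map_mem_maximal_iff A p r).mpr hr
    · rw [map_add]; exact add_mem hx hy
  obtain ⟨⟨n, s⟩, hs⟩ := IsLocalizedModule.surj P.primeCompl ℓ m
  obtain ⟨s', hs', hmem⟩ := hcon n
  have h1 : (s' * (s : S)) • m ∈ IsLocalRing.maximalIdeal A • (⊤ : Submodule A M) := by
    have : (s' * (s : S)) • m = ℓ (s' • n) := by
      rw [mul_smul, map_smul]
      congr 1
    rw [this]
    exact ha _ hmem
  have hu : IsUnit (algebraMap S B (s' * (s : S))) := by
    have hmem' : s' * (s : S) ∈ P.primeCompl := P.primeCompl.mul_mem hs' s.2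
    exact IsLocalization.map_units B ⟨_, hmem'⟩
  obtain ⟨u, hu⟩ := hu
  have h2 : m = (↑u⁻¹ : B) • ((s' * (s : S)) • m) := by
    rw [← algebraMap_smul B (s' * (s : S)) m, ← hu, smul_smul]
    simp
  rw [h2]
  exact smul_mem_maximalIdeal_smul_top _ h1

omit iBP in
include ℓ iBM iSBM iABM in
/-- Conversely: if some `n : N` has no multiple `s • n`, `s ∉ P`, in `p • N`, then `𝔪_A • M ≠ M`.
Here `P` lies over `p`. -/
theorem smul_top_ne_top_of_forall (hPp : P.comap (algebraMap R S) = p)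
    (h : ∃ n : N, ∀ s : S, s ∉ P → s • n ∉ p • (⊤ : Submodule R N)) :
    IsLocalRing.maximalIdeal A • (⊤ : Submodule A M) ≠ ⊤ := by
  obtain ⟨n, hn⟩ := h
  intro htop
  have key : ∀ m ∈ IsLocalRing.maximalIdeal A • (⊤ : Submodule A M),
      ∃ s : S, s ∉ P ∧ ∃ z ∈ p • (⊤ : Submodule R N), s • m = ℓ z := by
    intro m hm
    refine Submodule.smul_induction_on hm (fun a ha m _ => ?_) (fun x y hx hy => ?_)
    · obtain ⟨⟨r, r'⟩, hrr'⟩ := IsLocalization.surj p.primeCompl a
      have hr : r ∈ p := by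
        rw [← IsLocalization.AtPrime.to_map_mem_maximal_iff A p r, ← hrr']
        exact Ideal.mul_mem_right _ _ ha
      obtain ⟨⟨n₀, t⟩, ht⟩ := IsLocalizedModule.surj P.primeCompl ℓ m
      have hr' : algebraMap R S (r' : R) ∉ P := by
        intro hmem
        have : (r' : R) ∈ P.comap (algebraMap R S) := hmem
        rw [hPp] at this
        exact r'.2 this
      refine ⟨algebraMap R S r' * t, ?_, r • n₀, Submodule.smul_mem_smul hr trivial, ?_⟩
      · exact P.primeCompl.mul_mem hr' t.2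
      · have e1 : (t : S) • a • m = a • ℓ n₀ := by
          have : (t : S) • a • m = a • (t : S) • m := by
            rw [← algebraMap_smul B (t : S) (a • m), ← algebraMap_smul B a m, smul_smul,
              mul_comm, ← smul_smul, algebraMap_smul, algebraMap_smul]
          rw [this]
          congr 1
        rw [mul_smul, e1, algebraMap_smul, ← algebraMap_smul A (r' : R) (a • ℓ n₀), smul_smul,
          mul_comm, hrr', algebraMap_smul, ← algebraMap_smul S r n₀, map_smul, algebraMap_smul]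
    · obtain ⟨s₁, hs₁, z₁, hz₁, e₁⟩ := hx
      obtain ⟨s₂, hs₂, z₂, hz₂, e₂⟩ := hy
      refine ⟨s₁ * s₂, P.primeCompl.mul_mem hs₁ hs₂, s₂ • z₁ + s₁ • z₂,
        add_mem (smul_mem_smul_top p _ hz₁) (smul_mem_smul_top p _ hz₂), ?_⟩
      rw [smul_add, map_add, map_smul, map_smul, ← e₁, ← e₂, smul_smul, smul_smul, mul_comm s₂ s₁]
  have hmem : ℓ n ∈ IsLocalRing.maximalIdeal A • (⊤ : Submodule A M) := by rw [htop]; trivial
  obtain ⟨s, hs, z, hz, e⟩ := key _ hmem
  rw [← map_smul] at e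
  obtain ⟨t, ht⟩ := IsLocalizedModule.exists_of_eq (S := P.primeCompl) (f := ℓ) e
  refine hn ((t : S) * s) (P.primeCompl.mul_mem t.2 hs) ?_
  rw [mul_smul]
  have : (t : S) • s • n = (t : S) • z := ht
  rw [this]
  exact smul_mem_smul_top p _ hz

end Bridge

section Field

/-- A field containing a domain `D` is flat over `D`. -/
theorem flat_of_field_of_injective (D K : Type*) [CommRing D] [IsDomain D] [Field K] [Algebra D K]
    (hinj : Function.Injective (algebraMap D K)) : Module.Flat D K := by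
  haveI : FaithfulSMul D K := (faithfulSMul_iff_algebraMap_injective D K).mpr hinj
  letI : Algebra (FractionRing D) K := FractionRing.liftAlgebra D K
  haveI : IsScalarTower D (FractionRing D) K := FractionRing.isScalarTower_liftAlgebra D K
  haveI : Module.Flat D (FractionRing D) := IsLocalization.flat _ (nonZeroDivisors D)
  exact Module.Flat.trans D (FractionRing D) K

end Field

section BaseChange

variable {R R₁ N N₁ : Type*} [CommRing R] [CommRing R₁] [Algebra R R₁]
  [AddCommGroup N] [Module R N] [AddCommGroup N₁] [Module R₁ N₁] [Module R N₁]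
  [IsScalarTower R R₁ N₁]

/-- The key non-vanishing: if no multiple `r • n`, `r ∉ p`, lies in `p • N`, then `1 ⊗ n ≠ 0` in
`K ⊗[R] N` for every field `K` over `R` with kernel `p`. -/
theorem one_tmul_ne_zero (p : Ideal R) [p.IsPrime] (K : Type*) [Field K] [Algebra R K]
    (hker : ∀ r : R, algebraMap R K r = 0 ↔ r ∈ p) (n : N)
    (hn : ∀ r : R, r ∉ p → r • n ∉ p • (⊤ : Submodule R N)) :
    (1 : K) ⊗ₜ[R] n ≠ 0 := by
  -- `K` as an algebra over the domain `D = R ⧸ p`
  letI algDK : Algebra (R ⧸ p) K :=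
    (Ideal.Quotient.lift p (algebraMap R K) (fun a ha => (hker a).mpr ha)).toAlgebra
  haveI tower : IsScalarTower R (R ⧸ p) K := IsScalarTower.of_algebraMap_eq (fun r => rfl)
  have hinj : Function.Injective (algebraMap (R ⧸ p) K) := by
    rw [injective_iff_map_eq_zero]
    intro d hd
    obtain ⟨r, rfl⟩ := Ideal.Quotient.mk_surjective d
    have : algebraMap R K r = 0 := hd
    exact Ideal.Quotient.eq_zero_iff_mem.mpr ((hker r).mp this)
  haveI : Module.Flat (R ⧸ p) K := flat_of_field_of_injective (R ⧸ p) K hinj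
  -- the injective map `D → D ⊗ N`
  let ι : (R ⧸ p) →ₗ[R ⧸ p] (R ⧸ p) ⊗[R] N :=
    LinearMap.toSpanSingleton (R ⧸ p) ((R ⧸ p) ⊗[R] N) ((1 : R ⧸ p) ⊗ₜ[R] n)
  have hι : Function.Injective ι := by
    rw [injective_iff_map_eq_zero]
    intro d hd
    obtain ⟨r, rfl⟩ := Ideal.Quotient.mk_surjective d
    have h1 : ι (Ideal.Quotient.mk p r) = (Ideal.Quotient.mk p r) ⊗ₜ[R] n := by
      simp only [ι, LinearMap.toSpanSingleton_apply, TensorProduct.smul_tmul', smul_eq_mul, mul_one]
    rw [h1] at hd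
    have h2 := congrArg (TensorProduct.quotTensorEquivQuotSMul N p) hd
    rw [TensorProduct.quotTensorEquivQuotSMul_mk_tmul, map_zero,
      Submodule.Quotient.mk_eq_zero] at h2
    by_contra hne
    exact hn r (fun hr => hne (Ideal.Quotient.eq_zero_iff_mem.mpr hr)) h2
  have h3 : Function.Injective (ι.lTensor K) :=
    Module.Flat.lTensor_preserves_injective_linearMap ι hι
  have h4 : (1 : K) ⊗ₜ[R ⧸ p] (1 : R ⧸ p) ≠ 0 := by
    intro h0
    have := congrArg (TensorProduct.rid (R ⧸ p) K) h0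
    simp at this
  have h5 : (1 : K) ⊗ₜ[R ⧸ p] ((1 : R ⧸ p) ⊗ₜ[R] n) ≠ 0 := by
    intro h0
    apply h4
    apply h3
    rw [map_zero, LinearMap.lTensor_tmul]
    simpa [ι] using h0
  intro h0
  apply h5
  apply (TensorProduct.AlgebraTensorModule.cancelBaseChange R (R ⧸ p) K K N).injective
  rw [map_zero, TensorProduct.AlgebraTensorModule.cancelBaseChange_tmul, one_smul]
  exact h0

/-- Base change of the fibre non-vanishing: `R → R₁`, `p₁` a prime of `R₁` over `p`, `N₁ = R₁ ⊗ N`. -/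
theorem forall_smul_not_mem_of_isBaseChange (p₁ : Ideal R₁) [p₁.IsPrime]
    {ψ : N →ₗ[R] N₁} (hψ : IsBaseChange R₁ ψ) (n : N)
    (hn : ∀ r : R, r ∉ p₁.comap (algebraMap R R₁) →
      r • n ∉ (p₁.comap (algebraMap R R₁)) • (⊤ : Submodule R N)) :
    ∀ r₁ : R₁, r₁ ∉ p₁ → r₁ • ψ n ∉ p₁ • (⊤ : Submodule R₁ N₁) := by
  intro r₁ hr₁ hmem
  -- the field `K₁ = κ(p₁)`
  have hker : ∀ r : R, algebraMap R p₁.ResidueField r = 0 ↔ r ∈ p₁.comap (algebraMap R R₁) := by
    intro r
    rw [IsScalarTower.algebraMap_apply R R₁ p₁.ResidueField, Ideal.algebraMap_residueField_eq_zero]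
    rfl
  have hne := one_tmul_ne_zero (p₁.comap (algebraMap R R₁)) p₁.ResidueField hker n hn
  -- the map `N₁ → K₁ ⊗ N`
  let Φ : N₁ →ₗ[R₁] p₁.ResidueField ⊗[R] N := hψ.lift (TensorProduct.mk R p₁.ResidueField N 1)
  have hΦ : Φ (ψ n) = (1 : p₁.ResidueField) ⊗ₜ[R] n := by
    simp only [Φ, IsBaseChange.lift_eq, TensorProduct.mk_apply]
  have hkill : ∀ z ∈ p₁ • (⊤ : Submodule R₁ N₁), Φ z = 0 := by
    intro z hz
    refine Submodule.smul_induction_on hz (fun a ha m _ => ?_) (fun x y hx hy => ?_)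
    · rw [map_smul, ← algebraMap_smul p₁.ResidueField a (Φ m),
        (Ideal.algebraMap_residueField_eq_zero).mpr ha, zero_smul]
    · rw [map_add, hx, hy, add_zero]
  have h0 := hkill _ hmem
  rw [map_smul, hΦ, ← algebraMap_smul p₁.ResidueField r₁ ((1 : p₁.ResidueField) ⊗ₜ[R] n)] at h0
  rcases smul_eq_zero.mp h0 with h | h
  · exact hr₁ ((Ideal.algebraMap_residueField_eq_zero).mp h)
  · exact hne h

end BaseChange

section Prime

variable {R₁ S₁ N₁ : Type*} [CommRing R₁] [CommRing S₁] [Algebra R₁ S₁]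
  [AddCommGroup N₁] [Module S₁ N₁] [Module R₁ N₁] [IsScalarTower R₁ S₁ N₁]

/-- Find a prime of the fibre where a given element does not vanish. -/
theorem exists_prime_of_forall (p₁ : Ideal R₁) [p₁.IsPrime] (n' : N₁)
    (hn' : ∀ r₁ : R₁, r₁ ∉ p₁ → r₁ • n' ∉ p₁ • (⊤ : Submodule R₁ N₁)) :
    ∃ Q : Ideal S₁, Q.IsPrime ∧ Q.comap (algebraMap R₁ S₁) = p₁ ∧
      ∀ t : S₁, t ∉ Q → t • n' ∉ p₁ • (⊤ : Submodule R₁ N₁) := by
  -- closure of `p₁ • N₁` under `S₁`
  have hcl : ∀ (s : S₁) (z : N₁), z ∈ p₁ • (⊤ : Submodule R₁ N₁) →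
      s • z ∈ p₁ • (⊤ : Submodule R₁ N₁) := by
    intro s z hz
    refine Submodule.smul_induction_on hz (fun r hr n _ => ?_) (fun x y hx hy => ?_)
    · rw [smul_comm]
      exact Submodule.smul_mem_smul hr trivial
    · rw [smul_add]; exact add_mem hx hy
  let 𝔞 : Ideal S₁ :=
    { carrier := {t | ∃ r₁ : R₁, r₁ ∉ p₁ ∧ r₁ • t • n' ∈ p₁ • (⊤ : Submodule R₁ N₁)}
      zero_mem' := ⟨1, (Ideal.ne_top_iff_one p₁).mp (Ideal.IsPrime.ne_top inferInstance), by simp⟩
      add_mem' := by
        rintro a b ⟨r₁, hr₁, h₁⟩ ⟨r₂, hr₂, h₂⟩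
        refine ⟨r₁ * r₂, p₁.primeCompl.mul_mem hr₁ hr₂, ?_⟩
        have e : (r₁ * r₂) • (a + b) • n' = r₂ • (r₁ • a • n') + r₁ • (r₂ • b • n') := by
          rw [add_smul, smul_add, mul_smul, mul_smul, smul_comm r₁ r₂ (a • n')]
        rw [e]
        exact add_mem (Submodule.smul_mem _ _ h₁) (Submodule.smul_mem _ _ h₂)
      smul_mem' := by
        rintro c t ⟨r₁, hr₁, h₁⟩
        refine ⟨r₁, hr₁, ?_⟩
        have e : r₁ • (c • t) • n' = c • (r₁ • t • n') := by
          rw [smul_eq_mul, mul_smul, smul_comm r₁ c]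
        rw [e]
        exact hcl _ _ h₁ }
  have hdisj : Disjoint (𝔞 : Set S₁) (p₁.primeCompl.map (algebraMap R₁ S₁) : Submonoid S₁) := by
    rw [Set.disjoint_left]
    rintro t ⟨r₁, hr₁, h₁⟩ ⟨r, hr, rfl⟩
    apply hn' (r₁ * r) (p₁.primeCompl.mul_mem hr₁ hr)
    rw [mul_smul]
    simpa [algebraMap_smul] using h₁
  obtain ⟨Q, hQ, hle, hQd⟩ := Ideal.exists_le_prime_disjoint 𝔞 _ hdisj
  refine ⟨Q, hQ, ?_, ?_⟩
  · ext r
    constructor
    · intro hr
      by_contra hr'
      exact Set.disjoint_left.mp hQd hr ⟨r, hr', rfl⟩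
    · intro hr
      apply hle
      refine ⟨1, (Ideal.ne_top_iff_one p₁).mp (Ideal.IsPrime.ne_top inferInstance), ?_⟩
      rw [one_smul, algebraMap_smul]
      exact Submodule.smul_mem_smul hr trivial
  · intro t ht hmem
    apply ht
    apply hle
    exact ⟨1, (Ideal.ne_top_iff_one p₁).mp (Ideal.IsPrime.ne_top inferInstance), by rwa [one_smul]⟩

end Prime

section Combined

variable {R S R₁ S₁ N N₁ : Type*} [CommRing R] [CommRing S] [CommRing R₁] [CommRing S₁]
  [Algebra R S] [Algebra R R₁] [Algebra S S₁] [Algebra R₁ S₁] [Algebra R S₁]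
  [IsScalarTower R S S₁] [IsScalarTower R R₁ S₁] [Algebra.IsPushout R R₁ S S₁]
  [AddCommGroup N] [Module S N] [Module R N] [IsScalarTower R S N]
  [AddCommGroup N₁] [Module S₁ N₁] [Module S N₁] [IsScalarTower S S₁ N₁]
  [Module R₁ N₁] [IsScalarTower R₁ S₁ N₁] [Module R N₁] [IsScalarTower R R₁ N₁]
  [IsScalarTower R S N₁]

/-- If `S₁ = R₁ ⊗[R] S` and `N₁ = S₁ ⊗[S] N` then `N₁ = R₁ ⊗[R] N`. -/
theorem isBaseChange_restrictScalars {ψ : N →ₗ[S] N₁} (hψ : IsBaseChange S₁ ψ) :
    IsBaseChange R₁ (ψ.restrictScalars R) := by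
  let e : R₁ ⊗[R] N ≃ₗ[R₁] N₁ :=
    (Algebra.IsPushout.cancelBaseChange R R₁ S S₁ N).symm ≪≫ₗ (hψ.equiv.restrictScalars R₁)
  refine IsBaseChange.of_equiv e (fun x => ?_)
  simp [e, Algebra.IsPushout.cancelBaseChange_symm_tmul, IsBaseChange.equiv_tmul]

/-- The algebraic core of "faithfully flat relative to the base is stable under base change". -/
theorem exists_prime_baseChange {ψ : N →ₗ[S] N₁} (hψ : IsBaseChange S₁ ψ) (p₁ : Ideal R₁)
    [p₁.IsPrime] (n : N)
    (hn : ∀ r : R, r ∉ p₁.comap (algebraMap R R₁) →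
      r • n ∉ (p₁.comap (algebraMap R R₁)) • (⊤ : Submodule R N)) :
    ∃ Q : Ideal S₁, Q.IsPrime ∧ Q.comap (algebraMap R₁ S₁) = p₁ ∧
      ∀ t : S₁, t ∉ Q → t • ψ n ∉ p₁ • (⊤ : Submodule R₁ N₁) :=
  exists_prime_of_forall p₁ (ψ n)
    (forall_smul_not_mem_of_isBaseChange (R := R) (ψ := ψ.restrictScalars R) p₁
      (isBaseChange_restrictScalars hψ) n hn)

end Combined

end Groth.Agent.Lib.Helper97.FFBase
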