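import Groth.Agent.Lib.Helper16.FlatPull.BaseChange
import Groth.Agent.Lib.Helper12.FlatOverSections
import Groth.Agent.Lib.Helper97.FFBase

/-!
# Faithful flatness relative to the base: the scheme side (helper97)

`stalk_cond_iff`: for a quasi-coherent `F` on `X`, `u : X ⟶ Y`, affine opens `W ⊆ u⁻¹ V` and
`x ∈ W`: `𝔪_{u x} F_x ≠ F_x` iff some section `n ∈ Γ(F, W)` has no multiple `s • n`, `s ∉ P_x`, in
`p_{u x} Γ(F, W)`.
-/

set_option autoImplicit false
set_option linter.style.haveILetI false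
universe u

open AlgebraicGeometry CategoryTheory TensorProduct Opposite TopologicalSpace

namespace Groth.Agent.Lib.Helper97.FFBaseSch

open Groth.Agent.Lib.Helper45 Groth.Agent.Lib.Helper12.FlatOver Groth.Agent.Lib.Helper16.FlatPull

variable {X Y : Scheme.{u}}

set_option backward.isDefEq.respectTransparency.types false in
theorem stalk_cond_iff (u : X ⟶ Y) (F : X.Modules) [F.IsQuasicoherent] {V : Y.Opens}
    (hV : IsAffineOpen V) {W : X.Opens} (hW : IsAffineOpen W) (e : W ≤ u ⁻¹ᵁ V) (x : W) :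
    (letI := FlatMod.moduleStalkOver u F (x : X)
     IsLocalRing.maximalIdeal (Y.presheaf.stalk (u.base (x : X))) •
       (⊤ : Submodule (Y.presheaf.stalk (u.base (x : X))) (F.presheaf.stalk (x : X))) ≠ ⊤) ↔
    (letI : Module Γ(Y, V) Γ(F, W) := Module.compHom _ (u.appLE V W e).hom
     ∃ n : Γ(F, W), ∀ s : Γ(X, W), s ∉ (hW.primeIdealOf x).asIdeal →
       s • n ∉ (hV.primeIdealOf ⟨u.base (x : X), e x.2⟩).asIdeal •
         (⊤ : Submodule Γ(Y, V) Γ(F, W))) := by
  have hxV : u.base (x : X) ∈ V := e x.2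
  -- rings
  letI algRS : Algebra Γ(Y, V) Γ(X, W) := (u.appLE V W e).hom.toAlgebra
  letI algRA : Algebra Γ(Y, V) (Y.presheaf.stalk (u.base (x : X))) :=
    TopCat.Presheaf.algebra_section_stalk Y.presheaf (⟨u.base (x : X), hxV⟩ : V)
  letI algSB : Algebra Γ(X, W) (X.presheaf.stalk (x : X)) :=
    TopCat.Presheaf.algebra_section_stalk X.presheaf x
  letI algAB : Algebra (Y.presheaf.stalk (u.base (x : X))) (X.presheaf.stalk (x : X)) :=
    (u.stalkMap (x : X)).hom.toAlgebra
  haveI hlocY : IsLocalization.AtPrime (Y.presheaf.stalk (u.base (x : X)))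
      (hV.primeIdealOf (⟨u.base (x : X), hxV⟩ : V)).asIdeal :=
    hV.isLocalization_stalk (⟨u.base (x : X), hxV⟩ : V)
  haveI hlocX : IsLocalization.AtPrime (X.presheaf.stalk (x : X)) (hW.primeIdealOf x).asIdeal :=
    hW.isLocalization_stalk x
  -- modules on sections
  letI modRN : Module Γ(Y, V) Γ(F, W) := Module.compHom _ (u.appLE V W e).hom
  haveI tRSN : IsScalarTower Γ(Y, V) Γ(X, W) Γ(F, W) := IsScalarTower.of_compHom _ _ _
  -- modules on the stalk
  letI modSM : Module Γ(X, W) (F.presheaf.stalk (x : X)) := stalkModuleSections F x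
  haveI tSBM : IsScalarTower Γ(X, W) (X.presheaf.stalk (x : X)) (F.presheaf.stalk (x : X)) :=
    IsScalarTower.of_compHom _ _ _
  letI modAM : Module (Y.presheaf.stalk (u.base (x : X))) (F.presheaf.stalk (x : X)) :=
    FlatMod.moduleStalkOver u F (x : X)
  haveI tABM : IsScalarTower (Y.presheaf.stalk (u.base (x : X))) (X.presheaf.stalk (x : X))
      (F.presheaf.stalk (x : X)) := IsScalarTower.of_compHom _ _ _
  letI modRM : Module Γ(Y, V) (F.presheaf.stalk (x : X)) := stalkModuleBase u F e x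
  haveI tRSM : IsScalarTower Γ(Y, V) Γ(X, W) (F.presheaf.stalk (x : X)) := by
    refine ⟨fun r s n => ?_⟩
    change algebraMap Γ(X, W) (X.presheaf.stalk (x : X)) (r • s) • n =
      ((algebraMap Γ(X, W) (X.presheaf.stalk (x : X))).comp (algebraMap Γ(Y, V) Γ(X, W))) r •
        (algebraMap Γ(X, W) (X.presheaf.stalk (x : X)) s • n)
    rw [Algebra.smul_def, map_mul, mul_smul]
    rfl
  haveI tRAM : IsScalarTower Γ(Y, V) (Y.presheaf.stalk (u.base (x : X)))
      (F.presheaf.stalk (x : X)) := by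
    refine IsScalarTower.of_algebraMap_smul fun r n => ?_
    change (u.stalkMap (x : X)).hom
        (algebraMap Γ(Y, V) (Y.presheaf.stalk (u.base (x : X))) r) • n =
      ((algebraMap Γ(X, W) (X.presheaf.stalk (x : X))).comp
        (u.appLE V W e).hom) r • n
    congr 1
    change (u.stalkMap (x : X)).hom (Y.presheaf.germ V (u.base (x : X)) hxV r) = _
    rw [Scheme.Hom.germ_stalkMap_apply]
    simp only [Scheme.Hom.appLE, homOfLE_leOfHom,
      CommRingCat.hom_comp, RingHom.coe_comp, Function.comp_apply]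
    change _ = X.presheaf.germ W (x : X) x.2 _
    rw [X.presheaf.germ_res_apply]
  haveI hloc := isLocalizedModule_germₗ hW F x
  have hPp : (hW.primeIdealOf x).asIdeal.comap (algebraMap Γ(Y, V) Γ(X, W)) =
      (hV.primeIdealOf ⟨u.base (x : X), hxV⟩).asIdeal := by
    have := IsAffineOpen.comap_primeIdealOf_appLE (f := u) V hV W hW e x.2
    exact congrArg PrimeSpectrum.asIdeal this
  constructor
  · intro h
    exact FFBase.exists_of_smul_top_ne_top (B := X.presheaf.stalk (x : X))
      (hV.primeIdealOf ⟨u.base (x : X), hxV⟩).asIdeal (hW.primeIdealOf x).asIdeal (germₗ F x) h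
  · intro h
    exact FFBase.smul_top_ne_top_of_forall (B := X.presheaf.stalk (x : X))
      (hV.primeIdealOf ⟨u.base (x : X), hxV⟩).asIdeal (hW.primeIdealOf x).asIdeal (germₗ F x) hPp h

end Groth.Agent.Lib.Helper97.FFBaseSch
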