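import Groth.Prelude.Def_W4c6instabfans3FanCvx
import Mathlib

set_option autoImplicit false
universe u
open CategoryTheory Opposite Instab
open Instab Instab.Fan

namespace Groth.Agent.Lib.Helper97

namespace FanLib

variable {F : Fan.{u}}

lemma realMap_id (n : ICone) (v : Fin n.dim → ℝ) : (𝟙 n : n ⟶ n).realMap v = v := by
  funext j
  change ∑ i, (((LinearMap.id : (Fin n.dim → ℤ) →ₗ[ℤ] _) (Pi.single i 1) j : ℤ) : ℝ) * v i = v j
  simp [Pi.single_apply]

lemma realMap_apply {k n : ICone} (φ : k ⟶ n) (v : Fin k.dim → ℝ) (j : Fin n.dim) :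
    φ.realMap v j = ∑ i, (φ.toLin (Pi.single i 1) j : ℝ) * v i := rfl

/-- `toLin` in terms of columns. -/
lemma toLin_apply {k n : ICone} (φ : k ⟶ n) (w : Fin k.dim → ℤ) (j : Fin n.dim) :
    φ.toLin w j = ∑ i, φ.toLin (Pi.single i 1) j * w i := by
  have hw : w = ∑ i, w i • (Pi.single i 1 : Fin k.dim → ℤ) := by
    funext l
    simp [Finset.sum_apply, Pi.single_apply]
  conv_lhs => rw [hw]
  simp only [map_sum, map_smul, Finset.sum_apply, Pi.smul_apply, smul_eq_mul]
  exact Finset.sum_congr rfl fun i _ => mul_comm _ _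

lemma realMap_comp {k m n : ICone} (φ : k ⟶ m) (ψ : m ⟶ n) (v : Fin k.dim → ℝ) :
    (φ ≫ ψ).realMap v = ψ.realMap (φ.realMap v) := by
  funext j
  change ∑ i, (((ψ.toLin.comp φ.toLin) (Pi.single i 1) j : ℤ) : ℝ) * v i = _
  simp only [realMap_apply, LinearMap.comp_apply]
  simp_rw [toLin_apply ψ (φ.toLin _)]
  push_cast
  simp_rw [Finset.sum_mul, Finset.mul_sum]
  rw [Finset.sum_comm]
  refine Finset.sum_congr rfl fun l _ => Finset.sum_congr rfl fun i _ => ?_
  ring

lemma realMap_smul {k n : ICone} (φ : k ⟶ n) (c : ℝ) (v : Fin k.dim → ℝ) :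
    φ.realMap (c • v) = c • φ.realMap v := by
  funext j
  simp only [realMap_apply, Pi.smul_apply, smul_eq_mul, Finset.mul_sum]
  refine Finset.sum_congr rfl fun i _ => ?_
  ring

lemma realMap_add {k n : ICone} (φ : k ⟶ n) (v w : Fin k.dim → ℝ) :
    φ.realMap (v + w) = φ.realMap v + φ.realMap w := by
  funext j
  simp only [realMap_apply, Pi.add_apply, mul_add, Finset.sum_add_distrib]

/-- Gluing along a cone morphism. -/
lemma mk_map {k n : ICone} (φ : k ⟶ n) (ξ : F.obj (op n)) (v : Orth k) (w : Orth n) (c : ℝ)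
    (hc : 0 < c) (h : w.1 = c • φ.realMap v.1) :
    P.mk (F.map φ.op ξ) v = P.mk ξ w :=
  Quot.sound (Rel.glue φ ξ v w c hc h)

/-- Positive rescaling does not change the point. -/
lemma mk_smul {n : ICone} (ξ : F.obj (op n)) (v w : Orth n) (c : ℝ) (hc : 0 < c)
    (h : w.1 = c • v.1) : P.mk ξ v = P.mk ξ w := by
  have := mk_map (F := F) (𝟙 n) ξ v w c hc (by rw [realMap_id]; exact h)
  rwa [show F.map (𝟙 n : n ⟶ n).op ξ = ξ from by
    rw [op_id]; exact F.map_id_apply _ ξ] at this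

lemma exists_mk (x : P F) : ∃ (n : ICone) (ξ : F.obj (op n)) (v : Orth n), x = P.mk ξ v := by
  obtain ⟨⟨⟨n, ξ⟩, v⟩, rfl⟩ := Quot.exists_rep x
  exact ⟨n, ξ, v, rfl⟩

lemma continuous_mk {n : ICone} (ξ : F.obj (op n)) : Continuous (P.mk ξ : Orth n → P F) := by
  have h1 : Continuous (fun v : Orth n => (⟨⟨n, ξ⟩, v⟩ : Pt F)) :=
    continuous_sigmaMk (σ := fun e : (Σ n : ICone, F.obj (op n)) => Orth e.1) (i := ⟨n, ξ⟩)
  exact continuous_quot_mk.comp h1

end FanLib

end Groth.Agent.Lib.Helper97
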