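import Groth.Agent.Lib.Helper97.FanTop

/-!
# Bounded maps of formal fans (helper97)

For `ψ : F ⟶ G`, a cone `ξ ∈ G_n` and a finite family `t` of cones covering the projective
realization of the base change `H = F ×_G h_[n]`:

* `FanLib.exists_lift_of_cover`: every point of `P F` over `P.mk ξ v` is `P.mk ρ y` for one of the
  cones `(ρ, φ)` of `t` with `v` a positive multiple of `φ y`;
* `FanLib.map_mk_fst`: conversely such points lie over `P.mk ξ (φ y)`.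
-/

set_option autoImplicit false
universe u
open CategoryTheory Opposite Instab
open Instab Instab.Fan

namespace Groth.Agent.Lib.Helper97

namespace FanLib

variable {F G : Fan.{u}}

section cover

variable (ψ : F ⟶ G) {n : ICone} (ξ : G.obj (op n))

/-- the cone of `F` underlying a cone of the base change -/
noncomputable abbrev bcFst {k : ICone} (ζ : (Limits.pullback ψ (coneMap ξ)).obj (op k)) : F.obj (op k) :=
  (Limits.pullback.fst ψ (coneMap ξ)).app _ ζ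

/-- the cone morphism underlying a cone of the base change -/
noncomputable abbrev bcSnd {k : ICone} (ζ : (Limits.pullback ψ (coneMap ξ)).obj (op k)) : k ⟶ n :=
  ((Limits.pullback.snd ψ (coneMap ξ)).app _ ζ).down

lemma bc_cond {k : ICone} (ζ : (Limits.pullback ψ (coneMap ξ)).obj (op k)) :
    ψ.app _ (bcFst ψ ξ ζ) = G.map (bcSnd ψ ξ ζ).op ξ := by
  have h1 := congrArg (fun α => α.app (op k) ζ)
    (Limits.pullback.condition (f := ψ) (g := coneMap ξ))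
  simp only [NatTrans.comp_app] at h1
  rw [← coneMap_app]
  exact h1

/-- The compatibility of a cone of the fibre product of two cones. -/
lemma bc_cond_cone {m : ICone} (τ : G.obj (op m)) {k : ICone}
    (ζ' : (Limits.pullback (coneMap τ) (coneMap ξ)).obj (op k)) :
    G.map (bcFst (coneMap τ) ξ ζ').down.op τ = G.map (bcSnd (coneMap τ) ξ ζ').op ξ := by
  have hc := bc_cond (coneMap τ) ξ ζ'
  rwa [show bcFst (coneMap τ) ξ ζ' = ULift.up (bcFst (coneMap τ) ξ ζ').down from rfl,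
    coneMap_app] at hc

lemma bcFst_map {k k' : ICone} (θ : k' ⟶ k) (ζ : (Limits.pullback ψ (coneMap ξ)).obj (op k)) :
    bcFst ψ ξ ((Limits.pullback ψ (coneMap ξ)).map θ.op ζ) = F.map θ.op (bcFst ψ ξ ζ) :=
  naturality_apply' _ θ ζ

lemma bcSnd_map {k k' : ICone} (θ : k' ⟶ k) (ζ : (Limits.pullback ψ (coneMap ξ)).obj (op k)) :
    bcSnd ψ ξ ((Limits.pullback ψ (coneMap ξ)).map θ.op ζ) = θ ≫ bcSnd ψ ξ ζ := by
  have := naturality_apply' (Limits.pullback.snd ψ (coneMap ξ)) θ ζ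
  exact congrArg ULift.down this

/-- Points of the simplices of the base change map to the simplex of `ξ`. -/
lemma map_mk_fst {k : ICone} (ζ : (Limits.pullback ψ (coneMap ξ)).obj (op k)) (y : Orth k) :
    P.map ψ (P.mk (bcFst ψ ξ ζ) y) = P.mk ξ (orthMap (bcSnd ψ ξ ζ) y) := by
  rw [map_mk, bc_cond, mk_orthMap]

/-- Lifting points over a simplex to a covering family of the base change. -/
theorem exists_lift_of_cover
    (t : Finset (Σ k : ICone, (Limits.pullback ψ (coneMap ξ)).obj (op k)))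
    (ht : ∀ x : P (Limits.pullback ψ (coneMap ξ)), ∃ e ∈ t, x ∈ P.cell e.2)
    (x : P F) (v : Orth n) (hx : P.map ψ x = P.mk ξ v) :
    ∃ e ∈ t, ∃ (y₁ : Orth e.1) (c : ℝ), 0 < c ∧ x = P.mk (bcFst ψ ξ e.2) y₁ ∧
      v.1 = c • (bcSnd ψ ξ e.2).realMap y₁.1 := by
  obtain ⟨m, ρ, u, rfl⟩ := exists_mk x
  rw [map_mk] at hx
  obtain ⟨k₀, φ₂, φ₁, y₀, c₂, c₁, he, hc₂, hc₁, hu, hv⟩ := exists_common_subcone _ _ u v hx
  rw [← naturality_apply'] at he
  obtain ⟨ζ₀, hζ1, hζ2⟩ := exists_pullback_elt ψ (coneMap ξ) (k := k₀) (F.map φ₂.op ρ)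
    (ULift.up φ₁) (by rw [coneMap_app]; exact he)
  obtain ⟨e, het, y₁, hy₁⟩ := ht (P.mk ζ₀ y₀)
  obtain ⟨k₂, θ, θ₀, y₂, d, d₀, he2, hd, hd₀, hy1, hy0⟩ :=
    exists_common_subcone e.2 ζ₀ y₁ y₀ hy₁
  refine ⟨e, het, y₁, c₁ * d₀ / d, div_pos (mul_pos hc₁ hd₀) hd, ?_, ?_⟩
  · -- the point
    have h1 : bcFst ψ ξ ((Limits.pullback ψ (coneMap ξ)).map θ.op e.2) =
        bcFst ψ ξ ((Limits.pullback ψ (coneMap ξ)).map θ₀.op ζ₀) := by rw [he2]
    rw [bcFst_map, bcFst_map] at h1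
    have h2 : bcFst ψ ξ ζ₀ = F.map φ₂.op ρ := hζ1
    rw [h2] at h1
    calc P.mk ρ u = P.mk (F.map φ₂.op ρ) y₀ := (mk_map φ₂ ρ y₀ u c₂ hc₂ hu).symm
      _ = P.mk (F.map θ₀.op (F.map φ₂.op ρ)) y₂ := (mk_map θ₀ _ y₂ y₀ d₀ hd₀ hy0).symm
      _ = P.mk (F.map θ.op (bcFst ψ ξ e.2)) y₂ := by rw [h1]
      _ = P.mk (bcFst ψ ξ e.2) y₁ := mk_map θ _ y₂ y₁ d hd hy1
  · have h1 : bcSnd ψ ξ ((Limits.pullback ψ (coneMap ξ)).map θ.op e.2) =
        bcSnd ψ ξ ((Limits.pullback ψ (coneMap ξ)).map θ₀.op ζ₀) := by rw [he2]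
    rw [bcSnd_map, bcSnd_map] at h1
    have h2 : bcSnd ψ ξ ζ₀ = φ₁ := congrArg ULift.down hζ2
    rw [h2] at h1
    have hL : v.1 = (c₁ * d₀) • (θ₀ ≫ φ₁).realMap y₂.1 := by
      rw [hv, hy0, realMap_smul, smul_smul, realMap_comp]
    have hR : (c₁ * d₀ / d) • (bcSnd ψ ξ e.2).realMap y₁.1 =
        (c₁ * d₀) • (θ ≫ bcSnd ψ ξ e.2).realMap y₂.1 := by
      rw [hy1, realMap_smul, smul_smul, realMap_comp]
      congr 1
      field_simp
    rw [hL, hR, h1]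

/-- The part of a rational simplex of `G` lying in the image of a subset `Z` of `P F`. -/
theorem image_cell_eq
    (t : Finset (Σ k : ICone, (Limits.pullback ψ (coneMap ξ)).obj (op k)))
    (ht : ∀ x : P (Limits.pullback ψ (coneMap ξ)), ∃ e ∈ t, x ∈ P.cell e.2) (Z : Set (P F)) :
    {v : Orth n | P.mk ξ v ∈ P.map ψ '' Z} =
      ⋃ e ∈ t, {v : Orth n | ∃ y ∈ {y : Orth e.1 | P.mk (bcFst ψ ξ e.2) y ∈ Z}, ∃ c : ℝ, 0 < c ∧
        v.1 = c • (bcSnd ψ ξ e.2).realMap y.1} := by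
  ext v
  simp only [Set.mem_ofPred_eq, Set.mem_iUnion, exists_prop]
  constructor
  · rintro ⟨x, hxZ, hx⟩
    obtain ⟨e, het, y₁, c, hc, hxe, hv⟩ := exists_lift_of_cover ψ ξ t ht x v hx
    exact ⟨e, het, y₁, hxe ▸ hxZ, c, hc, hv⟩
  · rintro ⟨e, -, y, hy, c, hc, hv⟩
    refine ⟨P.mk (bcFst ψ ξ e.2) y, hy, ?_⟩
    rw [map_mk_fst]
    exact mk_smul ξ (orthMap (bcSnd ψ ξ e.2) y) v c hc hv

/-- The fibre of `P.map ψ` over a point of the simplex of `ξ` is finite. -/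
theorem finite_fibre
    (t : Finset (Σ k : ICone, (Limits.pullback ψ (coneMap ξ)).obj (op k)))
    (ht : ∀ x : P (Limits.pullback ψ (coneMap ξ)), ∃ e ∈ t, x ∈ P.cell e.2) (v : Orth n) :
    (P.map ψ ⁻¹' {P.mk ξ v}).Finite := by
  classical
  let f : (Σ k : ICone, (Limits.pullback ψ (coneMap ξ)).obj (op k)) → P F := fun e =>
    if h : ∃ (y₁ : Orth e.1) (c : ℝ), 0 < c ∧ v.1 = c • (bcSnd ψ ξ e.2).realMap y₁.1 then
      P.mk (bcFst ψ ξ e.2) h.choose
    else P.mk (bcFst ψ ξ e.2) (Orth.ones e.1)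
  refine Set.Finite.subset (t.finite_toSet.image f) ?_
  intro x hx
  obtain ⟨e, het, y₁, c, hc, hxe, hv⟩ := exists_lift_of_cover ψ ξ t ht x v hx
  refine ⟨e, het, ?_⟩
  have h : ∃ (y₁ : Orth e.1) (c : ℝ), 0 < c ∧ v.1 = c • (bcSnd ψ ξ e.2).realMap y₁.1 :=
    ⟨y₁, c, hc, hv⟩
  simp only [f, dif_pos h]
  obtain ⟨c', hc', hv'⟩ := h.choose_spec
  rw [hxe]
  -- the two lifts are proportional
  have h1 : (bcSnd ψ ξ e.2).realMap (c • y₁.1) = (bcSnd ψ ξ e.2).realMap (c' • h.choose.1) := by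
    rw [realMap_smul, realMap_smul, ← hv, ← hv']
  have h2 := realMap_injective _ h1
  refine mk_smul _ _ _ (c' / c) (div_pos hc' hc) ?_
  calc y₁.1 = (1 / c) • (c • y₁.1) := by
        rw [smul_smul, one_div, inv_mul_cancel₀ hc.ne', one_smul]
    _ = (c' / c) • h.choose.1 := by
        rw [h2, smul_smul]; congr 1; ring

end cover

end FanLib

end Groth.Agent.Lib.Helper97
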