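import Mathlib

/-!
# Rational polyhedral cones: real points are positive combinations of rational points (helper97)

For a rational matrix `M : κ → ι → ℚ` (`ι` finite), every nonnegative real vector `x` in the kernel
of `M` is a positive real combination of linearly independent nonnegative rational (even natural)
vectors in the kernel of `M` (`RatCone.exists_pos_comb_nat`).  Ingredients: a `ℚ`-linear functional
on `ℝ` to produce rational kernel vectors supported on the support of `x` (`exists_rat`), an
induction on the support (`mem_cone`), and the conical Carathéodory lemma (`caratheodory`).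
-/

set_option autoImplicit false

namespace Groth.Agent.Lib.Helper97

namespace RatCone

open Finset

section car

variable {E : Type*} [AddCommGroup E] [Module ℝ E] {α : Type*} [Fintype α] [DecidableEq α]

/-- Conical Carathéodory: a nonnegative combination of a finite family is a positive combination
of a linearly independent subfamily. -/
theorem caratheodory (v : α → E) (c : α → ℝ) (hc : ∀ a, 0 ≤ c a) :
    ∃ (s : Finset α) (c' : α → ℝ), (∀ a ∈ s, 0 < c' a) ∧
      LinearIndependent ℝ (fun a : s => v a) ∧ ∑ a, c a • v a = ∑ a ∈ s, c' a • v a := by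
  classical
  -- strong induction on the number of positive coefficients
  generalize hn : (univ.filter fun a => 0 < c a).card = n
  induction n using Nat.strong_induction_on generalizing c with
  | _ n ih =>
    set s := univ.filter fun a => 0 < c a with hs
    have hsum : ∑ a, c a • v a = ∑ a ∈ s, c a • v a := by
      rw [hs, Finset.sum_filter]
      refine Finset.sum_congr rfl fun a _ => ?_
      split_ifs with h
      · rfl
      · have : c a = 0 := le_antisymm (not_lt.1 h) (hc a)
        rw [this, zero_smul]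
    by_cases hli : LinearIndependent ℝ (fun a : s => v a)
    · exact ⟨s, c, fun a ha => (Finset.mem_filter.1 ha).2, hli, hsum⟩
    · -- a nontrivial relation
      rw [Fintype.linearIndependent_iff] at hli
      push Not at hli
      obtain ⟨d₀, hd₀, a₀, ha₀⟩ := hli
      -- extend by zero and arrange a positive coefficient
      let d₁ : α → ℝ := fun a => if h : a ∈ s then d₀ ⟨a, h⟩ else 0
      have hd₁ : ∑ a ∈ s, d₁ a • v a = 0 := by
        rw [← Finset.sum_coe_sort s (fun a => d₁ a • v a)]
        rw [← hd₀]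
        refine Finset.sum_congr rfl fun a _ => ?_
        simp only [d₁, dif_pos a.2]
      have hd₁a : d₁ a₀ ≠ 0 := by simp only [d₁, dif_pos a₀.2]; exact ha₀
      obtain ⟨d, hd, a₁, ha₁s, ha₁⟩ : ∃ d : α → ℝ, ∑ a ∈ s, d a • v a = 0 ∧ ∃ a ∈ s, 0 < d a := by
        rcases lt_or_gt_of_ne hd₁a with h | h
        · refine ⟨fun a => - d₁ a, ?_, a₀, a₀.2, by simpa using h⟩
          simp only [neg_smul, Finset.sum_neg_distrib, hd₁, neg_zero]
        · exact ⟨d₁, hd₁, a₀, a₀.2, h⟩
      -- minimise the ratio
      set P := s.filter fun a => 0 < d a with hP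
      have hPne : P.Nonempty := ⟨a₁, Finset.mem_filter.2 ⟨ha₁s, ha₁⟩⟩
      obtain ⟨a', ha'P, hmin⟩ := Finset.exists_min_image P (fun a => c a / d a) hPne
      have ha's : a' ∈ s := (Finset.mem_filter.1 ha'P).1
      have hda' : 0 < d a' := (Finset.mem_filter.1 ha'P).2
      have hca' : 0 < c a' := (Finset.mem_filter.1 ha's).2
      set τ := c a' / d a' with hτ
      have hτpos : 0 < τ := div_pos hca' hda'
      let c'' : α → ℝ := fun a => if a ∈ s then c a - τ * d a else 0
      have hc''nn : ∀ a, 0 ≤ c'' a := by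
        intro a
        simp only [c'']
        split_ifs with has
        · by_cases hda : 0 < d a
          · have := hmin a (Finset.mem_filter.2 ⟨has, hda⟩)
            have h2 : τ * d a ≤ c a := by
              rw [hτ]
              calc c a' / d a' * d a ≤ c a / d a * d a :=
                    mul_le_mul_of_nonneg_right this hda.le
                _ = c a := div_mul_cancel₀ _ hda.ne'
            linarith
          · have h1 : τ * d a ≤ 0 := mul_nonpos_of_nonneg_of_nonpos hτpos.le (not_lt.1 hda)
            have := hc a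
            linarith
        · exact le_refl _
      have hc''a' : c'' a' = 0 := by
        simp only [c'', if_pos ha's, hτ]
        rw [div_mul_cancel₀ _ hda'.ne']
        ring
      have hsub : (univ.filter fun a => 0 < c'' a) ⊂ s := by
        rw [Finset.ssubset_iff_of_subset]
        · refine ⟨a', ha's, ?_⟩
          simp only [Finset.mem_filter, Finset.mem_univ, true_and, hc''a', lt_irrefl,
            not_false_eq_true]
        · intro a ha
          simp only [Finset.mem_filter, Finset.mem_univ, true_and] at ha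
          by_contra has
          simp only [c'', if_neg has, lt_irrefl] at ha
      have hlt : (univ.filter fun a => 0 < c'' a).card < n := by
        rw [← hn]; exact Finset.card_lt_card hsub
      obtain ⟨s', c', h1, h2, h3⟩ := ih _ hlt c'' hc''nn rfl
      refine ⟨s', c', h1, h2, ?_⟩
      rw [← h3, hsum]
      have : ∑ a, c'' a • v a = ∑ a ∈ s, c'' a • v a := by
        symm
        apply Finset.sum_subset (Finset.subset_univ s)
        intro a _ has
        simp only [c'', if_neg has, zero_smul]
      rw [this]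
      have h4 : ∑ a ∈ s, c'' a • v a = ∑ a ∈ s, (c a • v a - τ • (d a • v a)) := by
        refine Finset.sum_congr rfl fun a has => ?_
        simp only [c'', if_pos has, sub_smul, mul_smul]
      rw [h4, Finset.sum_sub_distrib, ← Finset.smul_sum, hd, smul_zero, sub_zero]

end car

section rat

variable {ι κ : Type*} [Fintype ι]

/-- `x` lies in the real kernel of the rational matrix `M`. -/
def RKer (M : κ → ι → ℚ) (x : ι → ℝ) : Prop := ∀ a, ∑ i, (M a i : ℝ) * x i = 0

/-- `g` lies in the rational kernel of the rational matrix `M`. -/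
def QKer (M : κ → ι → ℚ) (g : ι → ℚ) : Prop := ∀ a, ∑ i, M a i * g i = 0

/-- The real vector of a rational vector. -/
def toReal (g : ι → ℚ) : ι → ℝ := fun i => (g i : ℝ)

omit [Fintype ι] in
@[simp] lemma toReal_apply (g : ι → ℚ) (i : ι) : toReal g i = (g i : ℝ) := rfl

/-- A nonzero real kernel vector yields a nonzero rational kernel vector with smaller support. -/
lemma exists_rat (M : κ → ι → ℚ) (x : ι → ℝ) (hx : RKer M x) (hx0 : x ≠ 0) :
    ∃ q : ι → ℚ, q ≠ 0 ∧ QKer M q ∧ ∀ i, x i = 0 → q i = 0 := by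
  obtain ⟨i₀, hi₀⟩ : ∃ i, x i ≠ 0 := by
    by_contra h
    push Not at h
    exact hx0 (funext h)
  obtain ⟨lam, hlam⟩ : ∃ lam : Module.Dual ℚ ℝ, lam (x i₀) ≠ 0 := by
    by_contra h
    push Not at h
    exact hi₀ ((Module.forall_dual_apply_eq_zero_iff ℚ (x i₀)).1 h)
  refine ⟨fun i => lam (x i), fun h => hlam (congr_fun h i₀), fun a => ?_, fun i hi => ?_⟩
  · have h1 : lam (∑ i, (M a i : ℝ) * x i) = ∑ i, M a i * lam (x i) := by
      rw [map_sum]
      refine Finset.sum_congr rfl fun i _ => ?_
      have : (M a i : ℝ) * x i = (M a i) • x i := by rw [Rat.smul_def]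
      rw [this, map_smul, smul_eq_mul]
    rw [← h1, hx a, map_zero]
  · simp only [hi, map_zero]

/-- The cone spanned by the nonnegative rational kernel vectors. -/
def Cone (M : κ → ι → ℚ) : Set (ι → ℝ) :=
  {x | ∃ (m : ℕ) (g : Fin m → ι → ℚ) (c : Fin m → ℝ), (∀ l, 0 ≤ c l) ∧ (∀ l i, 0 ≤ g l i) ∧
    (∀ l, QKer M (g l)) ∧ x = ∑ l, c l • toReal (g l)}

lemma zero_mem_cone (M : κ → ι → ℚ) : (0 : ι → ℝ) ∈ Cone M :=
  ⟨0, Fin.elim0, Fin.elim0, fun l => l.elim0, fun l => l.elim0, fun l => l.elim0, by simp⟩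

lemma add_mem_cone (M : κ → ι → ℚ) {x y : ι → ℝ} (hx : x ∈ Cone M) (hy : y ∈ Cone M) :
    x + y ∈ Cone M := by
  obtain ⟨m, g, c, hc, hg, hk, rfl⟩ := hx
  obtain ⟨m', g', c', hc', hg', hk', rfl⟩ := hy
  refine ⟨m + m', Fin.append g g', Fin.append c c', ?_, ?_, ?_, ?_⟩
  · intro l
    refine Fin.addCases (fun l => ?_) (fun l => ?_) l
    · rw [Fin.append_left]; exact hc l
    · rw [Fin.append_right]; exact hc' l
  · intro l
    refine Fin.addCases (fun l => ?_) (fun l => ?_) l
    · rw [Fin.append_left]; exact hg l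
    · rw [Fin.append_right]; exact hg' l
  · intro l
    refine Fin.addCases (fun l => ?_) (fun l => ?_) l
    · rw [Fin.append_left]; exact hk l
    · rw [Fin.append_right]; exact hk' l
  · rw [Fin.sum_univ_add]
    simp only [Fin.append_left, Fin.append_right]

lemma smul_mem_cone (M : κ → ι → ℚ) {x : ι → ℝ} (hx : x ∈ Cone M) (t : ℝ) (ht : 0 ≤ t) :
    t • x ∈ Cone M := by
  obtain ⟨m, g, c, hc, hg, hk, rfl⟩ := hx
  refine ⟨m, g, fun l => t * c l, fun l => mul_nonneg ht (hc l), hg, hk, ?_⟩
  rw [Finset.smul_sum]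
  simp only [mul_smul]

lemma gen_mem_cone (M : κ → ι → ℚ) (g : ι → ℚ) (hg : ∀ i, 0 ≤ g i) (hk : QKer M g) :
    toReal g ∈ Cone M :=
  ⟨1, fun _ => g, fun _ => 1, fun _ => zero_le_one, fun _ => hg, fun _ => hk, by simp⟩

lemma rker_add_smul (M : κ → ι → ℚ) (x : ι → ℝ) (hx : RKer M x) (q : ι → ℚ) (hq : QKer M q)
    (t : ℝ) : RKer M (x + t • toReal q) := by
  intro a
  have h1 : ∑ i, (M a i : ℝ) * (toReal q i) = 0 := by
    have := hq a
    have h2 : ((∑ i, M a i * q i : ℚ) : ℝ) = 0 := by rw [this]; simp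
    push_cast at h2
    exact h2
  simp only [Pi.add_apply, Pi.smul_apply, smul_eq_mul, mul_add]
  rw [Finset.sum_add_distrib, hx a, zero_add]
  have : ∑ i, (M a i : ℝ) * (t * toReal q i) = t * ∑ i, (M a i : ℝ) * toReal q i := by
    rw [Finset.mul_sum]
    refine Finset.sum_congr rfl fun i _ => ?_
    ring
  rw [this, h1, mul_zero]

lemma step (x d : ι → ℝ) (hx : ∀ i, 0 ≤ x i) (hsupp : ∀ i, x i = 0 → d i = 0)
    (hpos : ∃ i, 0 < d i) :
    ∃ t, 0 < t ∧ (∀ i, 0 ≤ x i - t * d i) ∧ ∃ i, x i ≠ 0 ∧ x i - t * d i = 0 := by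
  classical
  set P := univ.filter fun i => 0 < d i with hP
  obtain ⟨i₁, hi₁⟩ := hpos
  have hPne : P.Nonempty := ⟨i₁, Finset.mem_filter.2 ⟨Finset.mem_univ _, hi₁⟩⟩
  obtain ⟨i', hi'P, hmin⟩ := Finset.exists_min_image P (fun i => x i / d i) hPne
  have hdi' : 0 < d i' := (Finset.mem_filter.1 hi'P).2
  have hxi' : x i' ≠ 0 := fun h => by
    have := hsupp i' h
    rw [this] at hdi'
    exact lt_irrefl _ hdi'
  have hxi'pos : 0 < x i' := lt_of_le_of_ne (hx i') (Ne.symm hxi')
  refine ⟨x i' / d i', div_pos hxi'pos hdi', fun i => ?_, i', hxi', ?_⟩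
  · by_cases hdi : 0 < d i
    · have := hmin i (Finset.mem_filter.2 ⟨Finset.mem_univ _, hdi⟩)
      have h2 : x i' / d i' * d i ≤ x i := by
        calc x i' / d i' * d i ≤ x i / d i * d i := mul_le_mul_of_nonneg_right this hdi.le
          _ = x i := div_mul_cancel₀ _ hdi.ne'
      linarith
    · have h1 : x i' / d i' * d i ≤ 0 :=
        mul_nonpos_of_nonneg_of_nonpos (div_pos hxi'pos hdi').le (not_lt.1 hdi)
      have := hx i
      linarith
  · rw [div_mul_cancel₀ _ hdi'.ne']
    ring

/-- the support of a real vector -/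
noncomputable def supp (x : ι → ℝ) : Finset ι := by
  classical exact univ.filter fun i => x i ≠ 0

lemma card_supp_lt (x d : ι → ℝ) (t : ℝ) (hsupp : ∀ i, x i = 0 → d i = 0)
    (hi : ∃ i, x i ≠ 0 ∧ x i - t * d i = 0) :
    (supp (x - t • d)).card < (supp x).card := by
  classical
  apply Finset.card_lt_card
  rw [Finset.ssubset_iff_of_subset]
  · obtain ⟨i, hi1, hi2⟩ := hi
    refine ⟨i, ?_, ?_⟩
    · simp only [supp, Finset.mem_filter, Finset.mem_univ, true_and]; exact hi1
    · simp only [supp, Finset.mem_filter, Finset.mem_univ, true_and, Pi.sub_apply, Pi.smul_apply,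
        smul_eq_mul, not_not]
      exact hi2
  · intro i hi'
    simp only [supp, Finset.mem_filter, Finset.mem_univ, true_and, Pi.sub_apply, Pi.smul_apply,
      smul_eq_mul] at hi' ⊢
    intro h0
    apply hi'
    rw [h0, hsupp i h0]
    ring

/-- Every nonnegative real kernel vector is a nonnegative combination of nonnegative rational
kernel vectors. -/
theorem mem_cone (M : κ → ι → ℚ) (x : ι → ℝ) (hx : RKer M x) (hnn : ∀ i, 0 ≤ x i) :
    x ∈ Cone M := by
  classical
  generalize hn : (supp x).card = n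
  induction n using Nat.strong_induction_on generalizing x with
  | _ n ih =>
    by_cases hx0 : x = 0
    · rw [hx0]; exact zero_mem_cone M
    obtain ⟨q₀, hq₀, hq₀k, hq₀s⟩ := exists_rat M x hx hx0
    -- arrange a positive coordinate
    obtain ⟨q, hqk, hqs, hqpos⟩ : ∃ q : ι → ℚ, QKer M q ∧ (∀ i, x i = 0 → q i = 0) ∧
        ∃ i, 0 < q i := by
      obtain ⟨i, hi⟩ : ∃ i, q₀ i ≠ 0 := by
        by_contra h
        push Not at h
        exact hq₀ (funext h)
      rcases lt_or_gt_of_ne hi with h | h
      · refine ⟨fun i => - q₀ i, fun a => ?_, fun i hi => by simp [hq₀s i hi], i, by simpa using h⟩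
        have := hq₀k a
        simp only [mul_neg, Finset.sum_neg_distrib, this, neg_zero]
      · exact ⟨q₀, hq₀k, hq₀s, i, h⟩
    have hsR : ∀ i, x i = 0 → toReal q i = 0 := fun i hi => by simp [hqs i hi]
    obtain ⟨t₀, ht₀, hnn₀, hi₀⟩ := step x (toReal q) hnn hsR (by
      obtain ⟨i, hi⟩ := hqpos
      exact ⟨i, by simpa using hi⟩)
    have hx' : x - t₀ • toReal q ∈ Cone M := by
      refine ih _ ?_ (x - t₀ • toReal q) ?_ ?_ rfl
      · rw [← hn]; exact card_supp_lt x (toReal q) t₀ hsR hi₀
      · have := rker_add_smul M x hx q hqk (-t₀)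
        simpa [sub_eq_add_neg] using this
      · intro i
        simpa using hnn₀ i
    by_cases hqnn : ∀ i, 0 ≤ q i
    · have := add_mem_cone M hx' (smul_mem_cone M (gen_mem_cone M q hqnn hqk) t₀ ht₀.le)
      simpa using this
    · push Not at hqnn
      obtain ⟨i₂, hi₂⟩ := hqnn
      have hsR' : ∀ i, x i = 0 → (- toReal q) i = 0 := fun i hi => by simp [hqs i hi]
      obtain ⟨t₁, ht₁, hnn₁, hi₁⟩ := step x (- toReal q) hnn hsR' ⟨i₂, by simpa using hi₂⟩
      have hx'' : x - t₁ • (- toReal q) ∈ Cone M := by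
        refine ih _ ?_ (x - t₁ • (- toReal q)) ?_ ?_ rfl
        · rw [← hn]; exact card_supp_lt x (- toReal q) t₁ hsR' hi₁
        · have := rker_add_smul M x hx q hqk t₁
          simpa [sub_eq_add_neg] using this
        · intro i
          simpa using hnn₁ i
      have hpos : 0 < t₀ + t₁ := add_pos ht₀ ht₁
      have hcomb := add_mem_cone M
        (smul_mem_cone M hx' (t₁ / (t₀ + t₁)) (div_nonneg ht₁.le hpos.le))
        (smul_mem_cone M hx'' (t₀ / (t₀ + t₁)) (div_nonneg ht₀.le hpos.le))
      have : (t₁ / (t₀ + t₁)) • (x - t₀ • toReal q) + (t₀ / (t₀ + t₁)) • (x - t₁ • -toReal q) = x := by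
        funext i
        simp only [Pi.add_apply, Pi.smul_apply, Pi.sub_apply, Pi.neg_apply, smul_eq_mul]
        field_simp
        ring
      rwa [this] at hcomb

/-- Clearing denominators of a nonnegative rational vector. -/
lemma exists_nat_smul (q : ι → ℚ) (hq : ∀ i, 0 ≤ q i) :
    ∃ (D : ℕ) (N : ι → ℕ), 0 < D ∧ ∀ i, (N i : ℚ) = D * q i := by
  classical
  let D : ℕ := ∏ i, (q i).den
  have hDpos : 0 < D := Finset.prod_pos fun i _ => (q i).den_pos
  have hN : ∀ i, ∃ m : ℕ, (m : ℚ) = D * q i := by
    intro i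
    have hdvd : (q i).den ∣ D := Finset.dvd_prod_of_mem _ (Finset.mem_univ i)
    obtain ⟨e, he⟩ := hdvd
    refine ⟨e * (q i).num.toNat, ?_⟩
    have hnum : 0 ≤ (q i).num := Rat.num_nonneg.2 (hq i)
    have h1 : ((q i).num.toNat : ℚ) = ((q i).num : ℚ) := by
      have : ((q i).num.toNat : ℤ) = (q i).num := Int.toNat_of_nonneg hnum
      exact_mod_cast this
    push_cast
    rw [h1, he]
    push_cast
    rw [← Rat.mul_den_eq_num]
    ring
  choose N hNq using hN
  exact ⟨D, N, hDpos, hNq⟩

/-- Every nonnegative real vector in the kernel of a rational matrix is a positive combination of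
linearly independent natural-number vectors in the kernel. -/
theorem exists_pos_comb_nat (M : κ → ι → ℚ) (x : ι → ℝ) (hx : RKer M x) (hnn : ∀ i, 0 ≤ x i) :
    ∃ (m : ℕ) (N : Fin m → ι → ℕ) (c : Fin m → ℝ), (∀ l, 0 < c l) ∧
      (∀ l, QKer M (fun i => (N l i : ℚ))) ∧
      LinearIndependent ℝ (fun l => (fun i => (N l i : ℝ))) ∧
      x = ∑ l, c l • (fun i => (N l i : ℝ)) := by
  classical
  obtain ⟨m₀, g, c₀, hc₀, hg, hk, rfl⟩ := mem_cone M x hx hnn
  obtain ⟨s, c', hc', hli, hsum⟩ := caratheodory (fun l => toReal (g l)) c₀ hc₀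
  let e : s ≃ Fin s.card := s.equivFin
  have hsc : ∀ l : Fin s.card, ∃ (D : ℕ) (N : ι → ℕ), 0 < D ∧ ∀ i, (N i : ℚ) = D * g (e.symm l) i :=
    fun l => exists_nat_smul (g (e.symm l)) (hg _)
  choose D N hD hN using hsc
  have hNR : ∀ l, (fun i => (N l i : ℝ)) = (D l : ℝ) • toReal (g (e.symm l)) := by
    intro l
    funext i
    have := hN l i
    simp only [Pi.smul_apply, toReal_apply, smul_eq_mul]
    exact_mod_cast this
  refine ⟨s.card, N, fun l => c' (e.symm l) / D l, ?_, ?_, ?_, ?_⟩
  · intro l
    exact div_pos (hc' _ (e.symm l).2) (by exact_mod_cast hD l)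
  · intro l a
    have := hk (e.symm l) a
    simp only [hN l]
    have h2 : ∑ i, M a i * (↑(D l) * g (↑(e.symm l)) i) = D l * ∑ i, M a i * g (e.symm l) i := by
      rw [Finset.mul_sum]
      refine Finset.sum_congr rfl fun i _ => ?_
      ring
    rw [h2, this, mul_zero]
  · have h1 : LinearIndependent ℝ (fun l : Fin s.card => toReal (g (e.symm l))) :=
      hli.comp _ e.symm.injective
    have h2 := h1.units_smul (fun l => Units.mk0 (D l : ℝ) (by exact_mod_cast (hD l).ne'))
    convert h2 using 1
    funext l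
    rw [hNR l]
    rfl
  · rw [hsum, ← Finset.sum_coe_sort s, ← Equiv.sum_comp e.symm]
    refine Finset.sum_congr rfl fun l _ => ?_
    rw [hNR l, smul_smul, div_mul_cancel₀]
    exact_mod_cast (hD l).ne'

end rat

end RatCone

end Groth.Agent.Lib.Helper97
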