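import Groth.Agent.Lib.Helper97.Fan
import Groth.Agent.Lib.Helper97.RatCone

/-!
# Equality of points of the projective realization of a formal fan (helper97)

* `FanLib.exists_common_refinement`: two cone morphisms `φ : [k] ⟶ [n]`, `ψ : [k'] ⟶ [n]` and
  vectors with `φ y = c ψ y'` admit a common refinement `[m]` through which both vectors come from a
  single vector `z`;
* `FanLib.SameRay`: the relation "lie in the rational simplex of a common sub-cone"; it is an
  equivalence relation containing the gluing relation, hence `FanLib.mk_eq_mk_iff`.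
-/

set_option autoImplicit false
universe u
open CategoryTheory Opposite Instab
open Instab Instab.Fan

namespace Groth.Agent.Lib.Helper97

namespace FanLib

/-- The cone morphism with prescribed nonnegative columns. -/
def homOfCols {m k : ICone} (a : Fin m.dim → Fin k.dim → ℤ) (hnn : ∀ l i, 0 ≤ a l i)
    (hinj : ∀ z : Fin m.dim → ℤ, (∑ l, z l • a l) = 0 → z = 0) : m ⟶ k where
  toLin := Fintype.linearCombination ℤ a
  injective := by
    rw [injective_iff_map_eq_zero]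
    intro z hz
    exact hinj z (by simpa [Fintype.linearCombination_apply] using hz)
  nonneg := by
    intro z hz j
    rw [Fintype.linearCombination_apply, Finset.sum_apply]
    exact Finset.sum_nonneg fun l _ => by
      simp only [Pi.smul_apply, smul_eq_mul]
      exact mul_nonneg (hz l) (hnn l j)

lemma homOfCols_toLin {m k : ICone} (a : Fin m.dim → Fin k.dim → ℤ) (hnn : ∀ l i, 0 ≤ a l i)
    (hinj : ∀ z : Fin m.dim → ℤ, (∑ l, z l • a l) = 0 → z = 0) (z : Fin m.dim → ℤ) :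
    (homOfCols a hnn hinj).toLin z = ∑ l, z l • a l := by
  simp [homOfCols, Fintype.linearCombination_apply]

lemma homOfCols_realMap {m k : ICone} (a : Fin m.dim → Fin k.dim → ℤ) (hnn : ∀ l i, 0 ≤ a l i)
    (hinj : ∀ z : Fin m.dim → ℤ, (∑ l, z l • a l) = 0 → z = 0) (z : Fin m.dim → ℝ) (i : Fin k.dim) :
    (homOfCols a hnn hinj).realMap z i = ∑ l, (a l i : ℝ) * z l := by
  classical
  rw [realMap_apply]
  refine Finset.sum_congr rfl fun l _ => ?_
  rw [homOfCols_toLin]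
  congr 2
  rw [Finset.sum_apply, Finset.sum_eq_single l]
  · simp
  · intro b _ hb
    simp [hb]
  · intro h; exact absurd (Finset.mem_univ _) h

/-- The matrix entries of a cone morphism. -/
def ent {k n : ICone} (φ : k ⟶ n) (j : Fin n.dim) (i : Fin k.dim) : ℤ := φ.toLin (Pi.single i 1) j

lemma toLin_eq_ent {k n : ICone} (φ : k ⟶ n) (w : Fin k.dim → ℤ) (j : Fin n.dim) :
    φ.toLin w j = ∑ i, ent φ j i * w i := toLin_apply φ w j

lemma realMap_eq_ent {k n : ICone} (φ : k ⟶ n) (v : Fin k.dim → ℝ) (j : Fin n.dim) :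
    φ.realMap v j = ∑ i, (ent φ j i : ℝ) * v i := rfl

open RatCone in
/-- Two cone morphisms into `[n]` and two vectors with proportional images admit a common
refinement. -/
theorem exists_common_refinement {k k' n : ICone} (φ : k ⟶ n) (ψ : k' ⟶ n) (y : Orth k)
    (y' : Orth k') (c : ℝ) (hc : 0 < c) (h : φ.realMap y.1 = c • ψ.realMap y'.1) :
    ∃ (m : ICone) (α : m ⟶ k) (β : m ⟶ k') (z : Orth m),
      α ≫ φ = β ≫ ψ ∧ α.realMap z.1 = y.1 ∧ β.realMap z.1 = c • y'.1 := by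
  classical
  -- the rational matrix `[φ | -ψ]`
  let M : Fin n.dim → (Fin k.dim ⊕ Fin k'.dim) → ℚ := fun j =>
    Sum.elim (fun i => (ent φ j i : ℚ)) (fun i' => - (ent ψ j i' : ℚ))
  let x : (Fin k.dim ⊕ Fin k'.dim) → ℝ := Sum.elim y.1 (c • y'.1)
  have hx : RKer M x := by
    intro j
    rw [Fintype.sum_sum_type]
    simp only [M, x, Sum.elim_inl, Sum.elim_inr]
    have h1 := congr_fun h j
    rw [realMap_eq_ent, Pi.smul_apply, realMap_eq_ent] at h1
    push_cast
    simp only [neg_mul, Finset.sum_neg_distrib, Pi.smul_apply, smul_eq_mul]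
    rw [h1, smul_eq_mul, Finset.mul_sum]
    rw [← sub_eq_add_neg, sub_eq_zero]
    refine Finset.sum_congr rfl fun i _ => ?_
    ring
  have hnn : ∀ i, 0 ≤ x i := by
    rintro (i | i)
    · exact y.2.1 i
    · simp only [x, Sum.elim_inr, Pi.smul_apply, smul_eq_mul]
      exact mul_nonneg hc.le (y'.2.1 i)
  obtain ⟨m₀, N, cc, hcc, hker, hli, hxN⟩ := exists_pos_comb_nat M x hx hnn
  have hm₀ : 0 < m₀ := by
    rcases Nat.eq_zero_or_pos m₀ with h0 | h0
    · subst h0
      exfalso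
      apply y.2.2
      funext i
      have := congr_fun hxN (Sum.inl i)
      simpa [x] using this
    · exact h0
  let m : ICone := ⟨⟨m₀, hm₀⟩⟩
  -- the columns
  let a : Fin m.dim → Fin k.dim → ℤ := fun l i => (N l (Sum.inl i) : ℤ)
  let b : Fin m.dim → Fin k'.dim → ℤ := fun l i => (N l (Sum.inr i) : ℤ)
  -- kernel condition over the integers
  have hab : ∀ l, φ.toLin (a l) = ψ.toLin (b l) := by
    intro l
    funext j
    rw [toLin_eq_ent, toLin_eq_ent]
    have h1 := hker l j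
    rw [Fintype.sum_sum_type] at h1
    simp only [M, Sum.elim_inl, Sum.elim_inr, neg_mul, Finset.sum_neg_distrib] at h1
    rw [← sub_eq_add_neg, sub_eq_zero] at h1
    have h2 : ((∑ i, ent φ j i * a l i : ℤ) : ℚ) = ((∑ i, ent ψ j i * b l i : ℤ) : ℚ) := by
      push_cast
      simp only [a, b]
      push_cast
      exact h1
    exact_mod_cast h2
  have hlin : ∀ z : Fin m.dim → ℤ, φ.toLin (∑ l, z l • a l) = ψ.toLin (∑ l, z l • b l) := by
    intro z
    rw [map_sum, map_sum]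
    refine Finset.sum_congr rfl fun l _ => ?_
    rw [map_smul, map_smul, hab]
  have hzero : ∀ z : Fin m.dim → ℤ, (∑ l, z l • a l) = 0 → (∑ l, z l • b l) = 0 → z = 0 := by
    intro z hza hzb
    rw [Fintype.linearIndependent_iff] at hli
    have h3 : ∑ l, (z l : ℝ) • (fun i => (N l i : ℝ)) = 0 := by
      funext i
      rw [Finset.sum_apply]
      simp only [Pi.smul_apply, smul_eq_mul, Pi.zero_apply]
      rcases i with i | i
      · have := congr_fun hza i
        rw [Finset.sum_apply] at this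
        simp only [Pi.smul_apply, smul_eq_mul, Pi.zero_apply, a] at this
        exact_mod_cast this
      · have := congr_fun hzb i
        rw [Finset.sum_apply] at this
        simp only [Pi.smul_apply, smul_eq_mul, Pi.zero_apply, b] at this
        exact_mod_cast this
    funext l
    have := hli (fun l => (z l : ℝ)) h3 l
    exact_mod_cast this
  have hinja : ∀ z : Fin m.dim → ℤ, (∑ l, z l • a l) = 0 → z = 0 := by
    intro z hza
    refine hzero z hza ?_
    apply ψ.injective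
    rw [← hlin, hza, map_zero, map_zero]
  have hinjb : ∀ z : Fin m.dim → ℤ, (∑ l, z l • b l) = 0 → z = 0 := by
    intro z hzb
    refine hzero z ?_ hzb
    apply φ.injective
    rw [hlin, hzb, map_zero, map_zero]
  let α : m ⟶ k := homOfCols a (fun l i => Int.natCast_nonneg _) hinja
  let β : m ⟶ k' := homOfCols b (fun l i => Int.natCast_nonneg _) hinjb
  let z : Orth m := ⟨cc, fun l => (hcc l).le, fun h0 => by
    have := hcc ⟨0, hm₀⟩
    rw [h0] at this
    exact lt_irrefl _ this⟩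
  refine ⟨m, α, β, z, ?_, ?_, ?_⟩
  · apply ICone.Hom.ext
    apply LinearMap.ext
    intro w
    show φ.toLin (α.toLin w) = ψ.toLin (β.toLin w)
    rw [homOfCols_toLin, homOfCols_toLin, hlin]
  · funext i
    rw [homOfCols_realMap]
    have := congr_fun hxN (Sum.inl i)
    rw [Finset.sum_apply] at this
    simp only [x, Sum.elim_inl, Pi.smul_apply, smul_eq_mul] at this
    rw [this]
    refine Finset.sum_congr rfl fun l _ => ?_
    simp only [a, z]
    push_cast
    ring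
  · funext i
    rw [homOfCols_realMap]
    have := congr_fun hxN (Sum.inr i)
    rw [Finset.sum_apply] at this
    simp only [x, Sum.elim_inr, Pi.smul_apply, smul_eq_mul] at this
    rw [Pi.smul_apply, smul_eq_mul, this]
    refine Finset.sum_congr rfl fun l _ => ?_
    simp only [b, z]
    push_cast
    ring

variable {F : Fan.{u}}

/-- Two points of the disjoint union of orthants lie in the rational simplex of a common
sub-cone. -/
def SameRay (p q : Pt F) : Prop :=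
  ∃ (k : ICone) (φ₁ : k ⟶ p.1.1) (φ₂ : k ⟶ q.1.1) (y : Orth k) (c₁ c₂ : ℝ),
    F.map φ₁.op p.1.2 = F.map φ₂.op q.1.2 ∧ 0 < c₁ ∧ 0 < c₂ ∧
      p.2.1 = c₁ • φ₁.realMap y.1 ∧ q.2.1 = c₂ • φ₂.realMap y.1

lemma SameRay.refl (p : Pt F) : SameRay p p :=
  ⟨p.1.1, 𝟙 _, 𝟙 _, p.2, 1, 1, rfl, one_pos, one_pos, by rw [realMap_id, one_smul],
    by rw [realMap_id, one_smul]⟩

lemma SameRay.symm {p q : Pt F} (h : SameRay p q) : SameRay q p := by
  obtain ⟨k, φ₁, φ₂, y, c₁, c₂, h1, h2, h3, h4, h5⟩ := h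
  exact ⟨k, φ₂, φ₁, y, c₂, c₁, h1.symm, h3, h2, h5, h4⟩

lemma SameRay.of_rel {p q : Pt F} (h : Rel F p q) : SameRay p q := by
  obtain ⟨φ, ξ, v, w, c, hc, hw⟩ := h
  rename_i k n
  refine ⟨k, 𝟙 k, φ, v, 1, c, ?_, one_pos, hc, ?_, hw⟩
  · show F.map (𝟙 k : k ⟶ k).op (F.map φ.op ξ) = F.map φ.op ξ
    rw [op_id]; exact F.map_id_apply _ _
  · show v.1 = (1 : ℝ) • (𝟙 k : k ⟶ k).realMap v.1
    rw [realMap_id, one_smul]

lemma SameRay.trans {p q r : Pt F} (h₁ : SameRay p q) (h₂ : SameRay q r) : SameRay p r := by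
  obtain ⟨k, φ₁, φ₂, y, c₁, c₂, e1, hc₁, hc₂, hp, hq⟩ := h₁
  obtain ⟨k', ψ₂, ψ₃, y', d₂, d₃, e2, hd₂, hd₃, hq', hr⟩ := h₂
  -- `φ₂ y` and `ψ₂ y'` are proportional
  have hprop : φ₂.realMap y.1 = (d₂ / c₂) • ψ₂.realMap y'.1 := by
    have : c₂ • φ₂.realMap y.1 = d₂ • ψ₂.realMap y'.1 := by rw [← hq, ← hq']
    calc φ₂.realMap y.1 = (1 / c₂) • (c₂ • φ₂.realMap y.1) := by
          rw [smul_smul, one_div, inv_mul_cancel₀ hc₂.ne', one_smul]
      _ = (d₂ / c₂) • ψ₂.realMap y'.1 := by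
          rw [this, smul_smul]; congr 1; ring
  obtain ⟨m, α, β, z, hαβ, hαz, hβz⟩ :=
    exists_common_refinement φ₂ ψ₂ y y' (d₂ / c₂) (div_pos hd₂ hc₂) hprop
  refine ⟨m, α ≫ φ₁, β ≫ ψ₃, z, c₁, d₃ * (c₂ / d₂), ?_, hc₁, mul_pos hd₃ (div_pos hc₂ hd₂), ?_, ?_⟩
  · show F.map (α ≫ φ₁).op p.1.2 = F.map (β ≫ ψ₃).op r.1.2
    rw [op_comp, op_comp, F.map_comp_apply, F.map_comp_apply, e1, ← e2,
      ← F.map_comp_apply, ← F.map_comp_apply, ← op_comp, ← op_comp, hαβ]
  · rw [realMap_comp, hαz]; exact hp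
  · rw [realMap_comp, hβz, realMap_smul, smul_smul, hr]
    congr 1
    field_simp

lemma SameRay.of_eqvGen {p q : Pt F} (h : Relation.EqvGen (Rel F) p q) : SameRay p q := by
  induction h with
  | rel _ _ h => exact SameRay.of_rel h
  | refl _ => exact SameRay.refl _
  | symm _ _ _ ih => exact ih.symm
  | trans _ _ _ _ _ ih₁ ih₂ => exact ih₁.trans ih₂

/-- Two points of `P F` are equal iff they lie in the rational simplex of a common sub-cone. -/
theorem exists_common_subcone {n₁ n₂ : ICone}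
    (σ₁ : F.obj (op n₁)) (σ₂ : F.obj (op n₂)) (v₁ : Fan.Orth n₁) (v₂ : Fan.Orth n₂)
    (h : Fan.P.mk σ₁ v₁ = Fan.P.mk σ₂ v₂) :
    ∃ (k : ICone) (φ₁ : k ⟶ n₁) (φ₂ : k ⟶ n₂) (y : Fan.Orth k) (c₁ c₂ : ℝ),
      F.map φ₁.op σ₁ = F.map φ₂.op σ₂ ∧ 0 < c₁ ∧ 0 < c₂ ∧
        v₁.1 = c₁ • φ₁.realMap y.1 ∧ v₂.1 = c₂ • φ₂.realMap y.1 :=
  SameRay.of_eqvGen (p := ⟨⟨n₁, σ₁⟩, v₁⟩) (q := ⟨⟨n₂, σ₂⟩, v₂⟩) (Quot.eqvGen_exact h)

/-- Converse: a common sub-cone identifies the points. -/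
theorem mk_eq_mk_of_common_subcone {n₁ n₂ : ICone}
    (σ₁ : F.obj (op n₁)) (σ₂ : F.obj (op n₂)) (v₁ : Fan.Orth n₁) (v₂ : Fan.Orth n₂)
    (k : ICone) (φ₁ : k ⟶ n₁) (φ₂ : k ⟶ n₂) (y : Fan.Orth k) (c₁ c₂ : ℝ)
    (he : F.map φ₁.op σ₁ = F.map φ₂.op σ₂) (hc₁ : 0 < c₁) (hc₂ : 0 < c₂)
    (h₁ : v₁.1 = c₁ • φ₁.realMap y.1) (h₂ : v₂.1 = c₂ • φ₂.realMap y.1) :
    Fan.P.mk σ₁ v₁ = Fan.P.mk σ₂ v₂ := by
  rw [← mk_map φ₁ σ₁ y v₁ c₁ hc₁ h₁, ← mk_map φ₂ σ₂ y v₂ c₂ hc₂ h₂, he]

end FanLib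

end Groth.Agent.Lib.Helper97
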