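import Groth.Agent.Lib.Helper97.Fan

/-!
# Rational rays in formal fans (helper97)

* `FanLib.rayHom N` : the cone morphism `[1] ⟶ [n]` with image the ray through the nonzero
  vector `N : Fin n → ℕ`;
* `FanLib.mk_rayHom` : the rational point of `P F` it defines is `P.mk ξ N`;
* `FanLib.exists_natVec_mem` : an open subset of the punctured orthant which is stable under positive
  rescaling and nonempty contains a vector with positive integer entries.
-/

set_option autoImplicit false
universe u
open CategoryTheory Opposite Instab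
open Instab Instab.Fan

namespace Groth.Agent.Lib.Helper97

namespace FanLib

variable {F : Fan.{u}}

/-- The point of the punctured orthant given by a nonzero vector of natural numbers. -/
def natOrth {n : ICone} (N : Fin n.dim → ℕ) (hN : N ≠ 0) : Orth n :=
  ⟨fun i => (N i : ℝ), fun i => Nat.cast_nonneg _, fun h => hN (by
    funext i
    have := congr_fun h i
    simpa using this)⟩

/-- The unique index of `[1]`. -/
def i0 : Fin Fan.one.dim := ⟨0, Fan.one.dim.pos⟩

lemma eq_i0 (i : Fin Fan.one.dim) : i = i0 := by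
  apply Fin.ext
  have h1 : (i : ℕ) < 1 := i.2
  simp only [i0]
  omega

/-- The cone morphism `[1] ⟶ [n]` onto the ray through the nonzero natural vector `N`. -/
def rayHom {n : ICone} (N : Fin n.dim → ℕ) (hN : N ≠ 0) : Fan.one ⟶ n where
  toLin :=
    { toFun := fun a => fun j => a i0 * (N j : ℤ)
      map_add' := fun a b => by
        funext j
        show (a i0 + b i0) * (N j : ℤ) = a i0 * (N j : ℤ) + b i0 * (N j : ℤ)
        ring
      map_smul' := fun c a => by
        funext j
        show (c * a i0) * (N j : ℤ) = c * (a i0 * (N j : ℤ))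
        ring }
  injective := by
    intro a b hab
    obtain ⟨j, hj⟩ : ∃ j, N j ≠ 0 := by
      by_contra hno
      push Not at hno
      exact hN (funext hno)
    have h1 := congr_fun hab j
    simp only [LinearMap.coe_mk, AddHom.coe_mk] at h1
    have h2 : a i0 = b i0 := by
      have hj' : (N j : ℤ) ≠ 0 := by exact_mod_cast hj
      exact mul_right_cancel₀ hj' h1
    funext i
    rw [eq_i0 i]; exact h2
  nonneg := by
    intro a ha j
    simp only [LinearMap.coe_mk, AddHom.coe_mk]
    exact mul_nonneg (ha i0) (Int.natCast_nonneg _)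

lemma rayHom_realMap {n : ICone} (N : Fin n.dim → ℕ) (hN : N ≠ 0) (v : Fin Fan.one.dim → ℝ) :
    (rayHom N hN).realMap v = v i0 • (fun j => (N j : ℝ)) := by
  funext j
  rw [realMap_apply, Finset.sum_eq_single i0 (fun b _ hb => absurd (eq_i0 b) hb)
    (fun h => absurd (Finset.mem_univ _) h)]
  show ((((Pi.single i0 (1 : ℤ) : Fin Fan.one.dim → ℤ) i0 * (N j : ℤ) : ℤ) : ℝ)) * v i0 =
    v i0 * (N j : ℝ)
  rw [Pi.single_eq_same]
  push_cast
  ring

/-- The rational point defined by the ray through `N` in the cone `ξ`. -/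
lemma mk_rayHom {n : ICone} (ξ : F.obj (op n)) (N : Fin n.dim → ℕ) (hN : N ≠ 0) :
    P.mk (F.map (rayHom N hN).op ξ) (Orth.ones Fan.one) = P.mk ξ (natOrth N hN) := by
  refine mk_map (rayHom N hN) ξ _ _ 1 one_pos ?_
  rw [rayHom_realMap]
  simp [natOrth, Orth.ones]

lemma isRational_mk_natOrth {n : ICone} (ξ : F.obj (op n)) (N : Fin n.dim → ℕ) (hN : N ≠ 0) :
    (P.mk ξ (natOrth N hN)).IsRational :=
  ⟨F.map (rayHom N hN).op ξ, (mk_rayHom ξ N hN).symm⟩

/-- A nonempty open subset of the punctured orthant which is stable under positive rescaling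
contains a vector of natural numbers. -/
lemma exists_natVec_mem {n : ICone} (O : Set (Orth n)) (hO : IsOpen O)
    (hsc : ∀ v w : Orth n, v ∈ O → ∀ c : ℝ, 0 < c → w.1 = c • v.1 → w ∈ O)
    (w : Orth n) (hw : w ∈ O) :
    ∃ (N : Fin n.dim → ℕ) (hN : N ≠ 0), natOrth N hN ∈ O := by
  -- an open ball around `w` inside `O`
  obtain ⟨O', hO', rfl⟩ := isOpen_induced_iff.1 hO
  obtain ⟨ε, hε, hball⟩ := Metric.isOpen_iff.1 hO' w.1 hw
  -- rational approximations from above
  have hq : ∀ i, ∃ q : ℚ, w.1 i < q ∧ (q : ℝ) < w.1 i + ε := fun i =>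
    exists_rat_btwn (by linarith)
  choose q hq1 hq2 using hq
  have hqpos : ∀ i, 0 < q i := fun i => by
    have : (0 : ℝ) < q i := lt_of_le_of_lt (w.2.1 i) (hq1 i)
    exact_mod_cast this
  -- common denominator
  let D : ℕ := ∏ i, (q i).den
  have hDpos : 0 < D := Finset.prod_pos fun i _ => (q i).den_pos
  have hN : ∀ i, ∃ m : ℕ, (m : ℚ) = D * q i := by
    intro i
    have hdvd : (q i).den ∣ D := Finset.dvd_prod_of_mem _ (Finset.mem_univ i)
    obtain ⟨e, he⟩ := hdvd
    refine ⟨e * (q i).num.toNat, ?_⟩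
    have hnum : 0 < (q i).num := Rat.num_pos.2 (hqpos i)
    have h1 : ((q i).num.toNat : ℚ) = ((q i).num : ℚ) := by
      have : ((q i).num.toNat : ℤ) = (q i).num := Int.toNat_of_nonneg hnum.le
      exact_mod_cast this
    have h2 : q i = (q i).num / (q i).den := (Rat.num_div_den (q i)).symm
    have hden : ((q i).den : ℚ) ≠ 0 := by exact_mod_cast (q i).den_ne_zero
    push_cast
    rw [h1, he]
    push_cast
    rw [← Rat.mul_den_eq_num]
    ring
  choose N hNq using hN
  have hNpos : ∀ i, 0 < N i := fun i => by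
    have : (0 : ℚ) < N i := by rw [hNq]; exact mul_pos (by exact_mod_cast hDpos) (hqpos i)
    exact_mod_cast this
  have hN0 : N ≠ 0 := fun h => by
    have := hNpos ⟨0, n.dim.pos⟩
    rw [h] at this
    exact lt_irrefl _ this
  refine ⟨N, hN0, ?_⟩
  -- the rational vector `q` lies in `O`
  let qv : Orth n := ⟨fun i => (q i : ℝ), fun i => by
    show (0 : ℝ) ≤ (q i : ℝ)
    exact_mod_cast (hqpos i).le, fun h => by
    have := congr_fun h ⟨0, n.dim.pos⟩
    have h2 : (0 : ℝ) < q ⟨0, n.dim.pos⟩ := by exact_mod_cast hqpos _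
    simp only [Pi.zero_apply] at this
    linarith⟩
  have hqv : qv ∈ Subtype.val ⁻¹' O' := by
    apply hball
    rw [Metric.mem_ball, dist_pi_lt_iff hε]
    intro i
    rw [Real.dist_eq, abs_lt]
    constructor
    · have := hq1 i; simp only [qv]; linarith
    · have := hq2 i; simp only [qv]; linarith
  refine hsc qv _ hqv (D : ℝ) (by exact_mod_cast hDpos) ?_
  funext i
  simp only [natOrth, qv, Pi.smul_apply, smul_eq_mul]
  have := hNq i
  exact_mod_cast this

end FanLib

end Groth.Agent.Lib.Helper97
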