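import Groth.Agent.Lib.Helper97.FanEq

/-!
# Sub-fans and their realizations (helper97)
-/

set_option autoImplicit false
universe u
open CategoryTheory Opposite Instab
open Instab Instab.Fan

namespace Groth.Agent.Lib.Helper97

namespace FanLib

variable {F : Fan.{u}}

/-- `P.map` on a point. -/
lemma map_mk {G : Fan.{u}} (f : F ⟶ G) {n : ICone} (ξ : F.obj (op n)) (v : Orth n) :
    P.map f (P.mk ξ v) = P.mk (f.app (op n) ξ) v := rfl

/-- The image of the realization of a sub-fan. -/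
lemma mem_range_map_ι (S : Subfunctor F) (x : P F) :
    x ∈ Set.range (P.map S.ι) ↔
      ∃ (n : ICone) (ξ : F.obj (op n)) (v : Orth n), ξ ∈ S.obj (op n) ∧ x = P.mk ξ v := by
  constructor
  · rintro ⟨y, rfl⟩
    obtain ⟨n, ξ, v, rfl⟩ := exists_mk y
    exact ⟨n, ξ.1, v, ξ.2, rfl⟩
  · rintro ⟨n, ξ, v, hξ, rfl⟩
    exact ⟨P.mk (F := S.toFunctor) ⟨ξ, hξ⟩ v, rfl⟩

lemma map_comp {G H : Fan.{u}} (f : F ⟶ G) (g : G ⟶ H) (x : P F) :
    P.map (f ≫ g) x = P.map g (P.map f x) := by
  obtain ⟨n, ξ, v, rfl⟩ := exists_mk x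
  rfl

/-- Elements of a fibre product of fans. -/
lemma exists_pullback_elt {G G' : Fan.{u}} (f : F ⟶ G) (g : G' ⟶ G) {k : ICone}
    (a : F.obj (op k)) (b : G'.obj (op k)) (h : f.app _ a = g.app _ b) :
    ∃ z : (Limits.pullback f g).obj (op k),
      (Limits.pullback.fst f g).app _ z = a ∧ (Limits.pullback.snd f g).app _ z = b := by
  have hc : uliftYonedaEquiv.{u}.symm a ≫ f = uliftYonedaEquiv.{u}.symm b ≫ g := by
    rw [uliftYonedaEquiv_symm_comp, uliftYonedaEquiv_symm_comp, h]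
  refine ⟨uliftYonedaEquiv.{u} (Limits.pullback.lift _ _ hc), ?_, ?_⟩
  · rw [← uliftYonedaEquiv_comp, Limits.pullback.lift_fst, Equiv.apply_symm_apply]
  · rw [← uliftYonedaEquiv_comp, Limits.pullback.lift_snd, Equiv.apply_symm_apply]

/-- Elements of a fibre product of fans are determined by their projections. -/
lemma pullback_elt_ext {G G' : Fan.{u}} (f : F ⟶ G) (g : G' ⟶ G) {k : ICone}
    (z z' : (Limits.pullback f g).obj (op k))
    (h1 : (Limits.pullback.fst f g).app _ z = (Limits.pullback.fst f g).app _ z')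
    (h2 : (Limits.pullback.snd f g).app _ z = (Limits.pullback.snd f g).app _ z') : z = z' := by
  apply uliftYonedaEquiv.{u}.symm.injective
  apply Limits.pullback.hom_ext
  · rw [uliftYonedaEquiv_symm_comp, uliftYonedaEquiv_symm_comp, h1]
  · rw [uliftYonedaEquiv_symm_comp, uliftYonedaEquiv_symm_comp, h2]

/-- Naturality on elements. -/
lemma naturality_apply' {G : Fan.{u}} (f : F ⟶ G) {k n : ICone} (φ : k ⟶ n) (ξ : F.obj (op n)) :
    f.app _ (F.map φ.op ξ) = G.map φ.op (f.app _ ξ) := NatTrans.naturality_apply f φ.op ξ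

lemma coneMap_app {n k : ICone} (σ : F.obj (op n)) (φ : k ⟶ n) :
    (coneMap σ).app (op k) (ULift.up φ) = F.map φ.op σ := by
  simp [coneMap]

lemma uliftYoneda_map_up {n k k' : ICone} (ψ : k' ⟶ k) (φ : k ⟶ n) :
    (uliftYoneda.{u}.obj n).map ψ.op (ULift.up φ) = ULift.up (ψ ≫ φ) := rfl

end FanLib

end Groth.Agent.Lib.Helper97
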