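import Groth.Agent.Lib.Helper97.FanSub
import Groth.Agent.Lib.Helper97.FanRat

/-!
# Topology of rational simplices of formal fans (helper97)

* `FanLib.realMapL φ`: the real linear map of a cone morphism; it is injective
  (`realMap_injective`) and a closed embedding (`isClosedEmbedding_realMap`);
* `FanLib.isClosed_subcone`: the set of vectors of the punctured orthant of `[n]` that are positive
  multiples of `φ y`, `y` in a closed scaling-stable subset, is closed.
-/

set_option autoImplicit false
universe u
open CategoryTheory Opposite Instab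
open Instab Instab.Fan

namespace Groth.Agent.Lib.Helper97

namespace FanLib

/-- The real linear map of a cone morphism. -/
def realMapL {k n : ICone} (φ : k ⟶ n) : (Fin k.dim → ℝ) →ₗ[ℝ] (Fin n.dim → ℝ) where
  toFun := φ.realMap
  map_add' := realMap_add φ
  map_smul' := fun c v => realMap_smul φ c v

@[simp] lemma realMapL_apply {k n : ICone} (φ : k ⟶ n) (v : Fin k.dim → ℝ) :
    realMapL φ v = φ.realMap v := rfl

/-- Clearing denominators of a rational vector. -/
lemma exists_int_smul {ι : Type*} [Fintype ι] (q : ι → ℚ) :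
    ∃ (D : ℕ) (N : ι → ℤ), 0 < D ∧ ∀ i, (N i : ℚ) = D * q i := by
  classical
  let D : ℕ := ∏ i, (q i).den
  have hDpos : 0 < D := Finset.prod_pos fun i _ => (q i).den_pos
  have hN : ∀ i, ∃ m : ℤ, (m : ℚ) = D * q i := by
    intro i
    have hdvd : (q i).den ∣ D := Finset.dvd_prod_of_mem _ (Finset.mem_univ i)
    obtain ⟨e, he⟩ := hdvd
    refine ⟨e * (q i).num, ?_⟩
    push_cast
    rw [he]
    push_cast
    rw [← Rat.mul_den_eq_num]
    ring
  choose N hNq using hN
  exact ⟨D, N, hDpos, hNq⟩

/-- The real map of a cone morphism is injective. -/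
lemma realMap_injective {k n : ICone} (φ : k ⟶ n) : Function.Injective φ.realMap := by
  have hker : ∀ u : Fin k.dim → ℝ, φ.realMap u = 0 → u = 0 := by
    intro u hu
    by_contra hu0
    let M : Fin n.dim → Fin k.dim → ℚ := fun j i => (ent φ j i : ℚ)
    have hR : RatCone.RKer M u := by
      intro j
      have := congr_fun hu j
      rw [realMap_eq_ent] at this
      simpa [M] using this
    obtain ⟨q, hq0, hqk, -⟩ := RatCone.exists_rat M u hR hu0
    obtain ⟨D, N, hD, hN⟩ := exists_int_smul q
    have hN0 : N ≠ 0 := by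
      intro h
      apply hq0
      funext i
      have := hN i
      rw [h] at this
      simp only [Pi.zero_apply, Int.cast_zero] at this
      have hD' : (D : ℚ) ≠ 0 := by exact_mod_cast hD.ne'
      rcases mul_eq_zero.1 this.symm with h1 | h1
      · exact absurd h1 hD'
      · exact h1
    apply hN0
    apply φ.injective
    rw [map_zero]
    funext j
    rw [toLin_eq_ent]
    have h1 := hqk j
    have h2 : ((∑ i, ent φ j i * N i : ℤ) : ℚ) = 0 := by
      push_cast
      simp only [hN]
      have : ∑ i, (ent φ j i : ℚ) * (D * q i) = D * ∑ i, M j i * q i := by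
        rw [Finset.mul_sum]
        refine Finset.sum_congr rfl fun i _ => ?_
        simp only [M]; ring
      rw [this, h1, mul_zero]
    exact_mod_cast h2
  intro u u' huu'
  have := hker (u - u') (by
    have h1 : φ.realMap (u - u') = realMapL φ (u - u') := rfl
    rw [h1, map_sub, realMapL_apply, realMapL_apply, huu', sub_self])
  exact sub_eq_zero.1 this

lemma isClosedEmbedding_realMap {k n : ICone} (φ : k ⟶ n) :
    Topology.IsClosedEmbedding φ.realMap := by
  have := LinearMap.isClosedEmbedding_of_injective (f := realMapL φ)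
    (LinearMap.ker_eq_bot.2 (realMap_injective φ))
  exact this

lemma realMap_nonneg {k n : ICone} (φ : k ⟶ n) (v : Fin k.dim → ℝ) (hv : ∀ i, 0 ≤ v i)
    (j : Fin n.dim) : 0 ≤ φ.realMap v j := by
  rw [realMap_eq_ent]
  refine Finset.sum_nonneg fun i _ => mul_nonneg ?_ (hv i)
  have : 0 ≤ ent φ j i := φ.nonneg (Pi.single i 1) (fun l => by
    by_cases h : l = i
    · subst h; simp
    · simp [h]) j
  exact_mod_cast this

/-- The image of a point of the punctured orthant under a cone morphism. -/
def orthMap {k n : ICone} (φ : k ⟶ n) (y : Orth k) : Orth n :=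
  ⟨φ.realMap y.1, realMap_nonneg φ y.1 y.2.1, fun h => y.2.2 (realMap_injective φ (by
    rw [h]
    have : φ.realMap 0 = realMapL φ 0 := rfl
    rw [this, map_zero]))⟩

lemma mk_orthMap {F : Fan.{u}} {k n : ICone} (φ : k ⟶ n) (ξ : F.obj (op n)) (y : Orth k) :
    P.mk ξ (orthMap φ y) = P.mk (F.map φ.op ξ) y :=
  (mk_map φ ξ y (orthMap φ y) 1 one_pos (by simp [orthMap])).symm

lemma continuous_realMap {k n : ICone} (φ : k ⟶ n) : Continuous φ.realMap :=
  (isClosedEmbedding_realMap φ).continuous

/-- The locus in the punctured orthant of `[n]` of the vectors which come, up to positive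
multiples, from the same vector `y` through two cone morphisms, is closed. -/
lemma isClosed_coincidence {k n : ICone} (φ φ' : k ⟶ n) :
    IsClosed {v : Orth n | ∃ (y : Orth k) (c c' : ℝ), 0 < c ∧ 0 < c' ∧
      v.1 = c • φ.realMap y.1 ∧ v.1 = c' • φ'.realMap y.1} := by
  let C : Set (Fin k.dim → ℝ) := {u | (∀ i, 0 ≤ u i) ∧
    ∀ i j, φ.realMap u i * φ'.realMap u j = φ.realMap u j * φ'.realMap u i}
  have hC : IsClosed C := by
    have h1 : IsClosed {u : Fin k.dim → ℝ | ∀ i, 0 ≤ u i} := by
      simp only [Set.ofPred_forall]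
      exact isClosed_iInter fun i => isClosed_le continuous_const (continuous_apply i)
    have h2 : IsClosed {u : Fin k.dim → ℝ | ∀ i j,
        φ.realMap u i * φ'.realMap u j = φ.realMap u j * φ'.realMap u i} := by
      simp only [Set.ofPred_forall]
      refine isClosed_iInter fun i => isClosed_iInter fun j => isClosed_eq ?_ ?_
      · exact ((continuous_apply i).comp (continuous_realMap φ)).mul
          ((continuous_apply j).comp (continuous_realMap φ'))
      · exact ((continuous_apply j).comp (continuous_realMap φ)).mul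
          ((continuous_apply i).comp (continuous_realMap φ'))
    exact h1.inter h2
  have himg : IsClosed (φ.realMap '' C) := (isClosedEmbedding_realMap φ).isClosedMap _ hC
  have : {v : Orth n | ∃ (y : Orth k) (c c' : ℝ), 0 < c ∧ 0 < c' ∧
      v.1 = c • φ.realMap y.1 ∧ v.1 = c' • φ'.realMap y.1} =
      Subtype.val ⁻¹' (φ.realMap '' C) := by
    ext v
    simp only [Set.mem_ofPred_eq]
    constructor
    · rintro ⟨y, c, c', hc, hc', h1, h2⟩
      refine ⟨c • y.1, ⟨fun i => mul_nonneg hc.le (y.2.1 i), fun i j => ?_⟩, ?_⟩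
      · rw [realMap_smul, realMap_smul, ← h1]
        have h3 : φ'.realMap y.1 = (1 / c') • v.1 := by
          rw [h2, smul_smul, one_div, inv_mul_cancel₀ hc'.ne', one_smul]
        rw [h3]
        simp only [Pi.smul_apply, smul_eq_mul]
        ring
      · rw [realMap_smul, ← h1]
    · rintro ⟨u, ⟨hu, hmin⟩, huv⟩
      have hu0 : u ≠ 0 := by
        intro h0
        apply v.2.2
        rw [← huv, h0]
        have : φ.realMap 0 = realMapL φ 0 := rfl
        rw [this, map_zero]
      let y : Orth k := ⟨u, hu, hu0⟩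
      have h' : (orthMap φ' y).1 ≠ 0 := (orthMap φ' y).2.2
      obtain ⟨i, hi⟩ : ∃ i, φ'.realMap u i ≠ 0 := by
        by_contra hno
        push Not at hno
        exact h' (funext hno)
      have hipos : 0 < φ'.realMap u i := lt_of_le_of_ne (realMap_nonneg φ' u hu i) (Ne.symm hi)
      set t := φ.realMap u i / φ'.realMap u i with ht
      have hprop : φ.realMap u = t • φ'.realMap u := by
        funext j
        simp only [Pi.smul_apply, smul_eq_mul, ht]
        have := hmin j i
        field_simp
        linarith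
      have htnn : 0 ≤ t := div_nonneg (realMap_nonneg φ u hu i) hipos.le
      have ht0 : t ≠ 0 := by
        intro h0
        apply v.2.2
        rw [← huv, hprop, h0, zero_smul]
      refine ⟨y, 1, t, one_pos, lt_of_le_of_ne htnn (Ne.symm ht0), ?_, ?_⟩
      · rw [one_smul]; exact huv.symm
      · rw [← huv]; exact hprop
  rw [this]
  exact himg.preimage continuous_subtype_val

/-- The cone over the image of a closed scaling-stable subset of the punctured orthant under a
cone morphism is closed. -/
lemma isClosed_subcone {k n : ICone} (φ : k ⟶ n) (Z : Set (Orth k)) (hZ : IsClosed Z)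
    (hsc : ∀ y y' : Orth k, y ∈ Z → ∀ c : ℝ, 0 < c → y'.1 = c • y.1 → y' ∈ Z) :
    IsClosed {v : Orth n | ∃ y ∈ Z, ∃ c : ℝ, 0 < c ∧ v.1 = c • φ.realMap y.1} := by
  obtain ⟨K, hK, hKZ⟩ := isClosed_induced_iff.1 hZ
  let Z'' : Set (Fin k.dim → ℝ) := (K ∩ {u | ∀ i, 0 ≤ u i}) ∪ {0}
  have hZ'' : IsClosed Z'' := by
    refine (hK.inter ?_).union isClosed_singleton
    simp only [Set.ofPred_forall]
    exact isClosed_iInter fun i => isClosed_le continuous_const (continuous_apply i)
  have himg : IsClosed (φ.realMap '' Z'') := (isClosedEmbedding_realMap φ).isClosedMap _ hZ''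
  have : {v : Orth n | ∃ y ∈ Z, ∃ c : ℝ, 0 < c ∧ v.1 = c • φ.realMap y.1} =
      Subtype.val ⁻¹' (φ.realMap '' Z'') := by
    ext v
    simp only [Set.mem_ofPred_eq]
    constructor
    · rintro ⟨y, hy, c, hc, hv⟩
      let y' : Orth k := ⟨c • y.1, fun i => mul_nonneg hc.le (y.2.1 i), fun h0 => y.2.2 (by
        have := congrArg (fun w => (1 / c) • w) h0
        simpa [smul_smul, hc.ne'] using this)⟩
      have hy' : y' ∈ Z := hsc y y' hy c hc rfl
      rw [← hKZ] at hy'
      refine ⟨c • y.1, Or.inl ⟨hy', y'.2.1⟩, ?_⟩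
      rw [realMap_smul, ← hv]
    · rintro ⟨u, hu, huv⟩
      rcases hu with ⟨huK, hunn⟩ | hu0
      · have hu0 : u ≠ 0 := by
          intro h0
          apply v.2.2
          rw [← huv, h0]
          have : φ.realMap 0 = realMapL φ 0 := rfl
          rw [this, map_zero]
        refine ⟨⟨u, hunn, hu0⟩, ?_, 1, one_pos, by rw [one_smul]; exact huv.symm⟩
        rw [← hKZ]
        exact huK
      · exfalso
        apply v.2.2
        rw [← huv, Set.mem_singleton_iff.1 hu0]
        have : φ.realMap 0 = realMapL φ 0 := rfl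
        rw [this, map_zero]
  rw [this]
  exact himg.preimage continuous_subtype_val

lemma continuous_orthMap {k n : ICone} (φ : k ⟶ n) : Continuous (orthMap φ) :=
  Continuous.subtype_mk ((continuous_realMap φ).comp continuous_subtype_val) _

/-- The sum of the coordinates of a point of the punctured orthant is positive. -/
lemma sum_pos {n : ICone} (v : Orth n) : 0 < ∑ i, v.1 i := by
  have hne : ∃ i, v.1 i ≠ 0 := by
    by_contra h
    push Not at h
    exact v.2.2 (funext h)
  obtain ⟨i, hi⟩ := hne
  exact Finset.sum_pos' (fun j _ => v.2.1 j)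
    ⟨i, Finset.mem_univ _, lt_of_le_of_ne (v.2.1 i) (Ne.symm hi)⟩

/-- Normalization to the standard simplex. -/
noncomputable def normalize {n : ICone} (v : Orth n) : Orth n :=
  ⟨(∑ i, v.1 i)⁻¹ • v.1, fun i => mul_nonneg (inv_nonneg.2 (sum_pos v).le) (v.2.1 i), fun h => by
    apply v.2.2
    have := congrArg (fun w => (∑ i, v.1 i) • w) h
    simpa [smul_smul, (sum_pos v).ne'] using this⟩

lemma continuous_normalize {n : ICone} : Continuous (normalize (n := n)) := by
  apply Continuous.subtype_mk
  have h1 : Continuous fun v : Orth n => ∑ i, v.1 i :=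
    continuous_finsetSum _ fun i _ => (continuous_apply i).comp continuous_subtype_val
  exact (h1.inv₀ fun v => (sum_pos v).ne').smul continuous_subtype_val

lemma normalize_smul {n : ICone} (v w : Orth n) (c : ℝ) (hc : 0 < c) (h : w.1 = c • v.1) :
    normalize w = normalize v := by
  apply Subtype.ext
  simp only [normalize]
  have hs : ∑ i, w.1 i = c * ∑ i, v.1 i := by
    rw [h, Finset.mul_sum]
    rfl
  rw [hs, h, smul_smul]
  congr 1
  have := (sum_pos v).ne'
  field_simp

lemma eq_smul_of_normalize_eq {n : ICone} (v w : Orth n) (h : normalize w = normalize v) :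
    ∃ c : ℝ, 0 < c ∧ w.1 = c • v.1 := by
  refine ⟨(∑ i, w.1 i) / (∑ i, v.1 i), div_pos (sum_pos w) (sum_pos v), ?_⟩
  have h1 := congrArg Subtype.val h
  simp only [normalize] at h1
  have h2 := congrArg (fun u => (∑ i, w.1 i) • u) h1
  simp only [smul_smul, mul_inv_cancel₀ (sum_pos w).ne', one_smul] at h2
  rw [div_eq_mul_inv]
  exact h2

/-- The cone over a compact subset of the punctured orthant is closed. -/
lemma isClosed_coneOver {n : ICone} (K : Set (Orth n)) (hK : IsCompact K) :
    IsClosed {w : Orth n | ∃ k ∈ K, ∃ c : ℝ, 0 < c ∧ w.1 = c • k.1} := by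
  have : T2Space (Orth n) := inferInstanceAs (T2Space {v : Fin n.dim → ℝ // (∀ i, 0 ≤ v i) ∧ v ≠ 0})
  have : {w : Orth n | ∃ k ∈ K, ∃ c : ℝ, 0 < c ∧ w.1 = c • k.1} =
      normalize ⁻¹' (normalize '' K) := by
    ext w
    simp only [Set.mem_ofPred_eq, Set.mem_preimage, Set.mem_image]
    constructor
    · rintro ⟨k, hk, c, hc, hw⟩
      exact ⟨k, hk, (normalize_smul k w c hc hw).symm⟩
    · rintro ⟨k, hk, hkw⟩
      obtain ⟨c, hc, hw⟩ := eq_smul_of_normalize_eq k w hkw.symm
      exact ⟨k, hk, c, hc, hw⟩
  rw [this]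
  exact (hK.image continuous_normalize).isClosed.preimage continuous_normalize

variable {F : Fan.{u}}

/-- Closed subsets of `P F` are detected on the rational simplices. -/
lemma isClosed_iff_cells (W : Set (P F)) :
    IsClosed W ↔ ∀ (n : ICone) (ξ : F.obj (op n)), IsClosed {v : Orth n | P.mk ξ v ∈ W} := by
  have hq : Topology.IsQuotientMap
      (fun p : (Σ e : (Σ n : ICone, F.obj (op n)), Orth e.1) => (Quot.mk (Rel F) p : P F)) :=
    isQuotientMap_quot_mk
  have h1 : IsClosed W ↔ IsClosed
      ((fun p : (Σ e : (Σ n : ICone, F.obj (op n)), Orth e.1) => (Quot.mk (Rel F) p : P F)) ⁻¹' W) :=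
    hq.isClosed_preimage.symm
  refine h1.trans (isClosed_sigma_iff.trans ?_)
  constructor
  · intro h n ξ
    exact h ⟨n, ξ⟩
  · rintro h ⟨n, ξ⟩
    exact h n ξ

lemma continuous_map {G : Fan.{u}} (ψ : F ⟶ G) : Continuous (P.map ψ) := by
  apply continuous_quot_lift
  apply continuous_sigma
  rintro ⟨n, ξ⟩
  exact continuous_mk (ψ.app _ ξ)

end FanLib

end Groth.Agent.Lib.Helper97
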