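import Mathlib

/-! Helper lemma (helper97): the algebra of the functional equation of the zeta function:
from the relations between the reversed characteristic polynomials in complementary degrees to the
functional equation of the alternating product, in the field of rational functions. -/

set_option autoImplicit false

namespace Groth.Agent.Lib.Helper97.FrobFE

open Polynomial

variable {K : Type*} [Field K]

/-- the relation for one degree, in the field of rational functions -/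
theorem fe_one (c : K) (hc0 : c ≠ 0) (χ χ' : K[X]) (d : K) (b : ℕ) (hdeg : χ.natDegree = b)
    (H2 : d • χ'.reverse = (-1 : K[X]) ^ b * χ.comp (C c * X)) :
    Polynomial.aeval ((RatFunc.X : RatFunc K)⁻¹ * RatFunc.C c⁻¹) χ.reverse *
        (RatFunc.C c * RatFunc.X) ^ b =
      RatFunc.C ((-1) ^ b * d) * algebraMap K[X] (RatFunc K) χ'.reverse := by
  have ht0 : (RatFunc.X : RatFunc K) ≠ 0 := RatFunc.X_ne_zero
  have hCc0 : (RatFunc.C c : RatFunc K) ≠ 0 := by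
    rw [Ne, map_eq_zero]; exact hc0
  have hu0 : (RatFunc.C c * RatFunc.X : RatFunc K) ≠ 0 := mul_ne_zero hCc0 ht0
  have hs : (RatFunc.X : RatFunc K)⁻¹ * RatFunc.C c⁻¹ = (RatFunc.C c * RatFunc.X)⁻¹ := by
    rw [mul_inv, map_inv₀, mul_comm]
  haveI : Invertible (RatFunc.C c * RatFunc.X : RatFunc K) := invertibleOfNonzero hu0
  have h1 := Polynomial.eval₂_reverse_mul_pow (algebraMap K (RatFunc K))
    (RatFunc.C c * RatFunc.X : RatFunc K) χ
  rw [hdeg, invOf_eq_inv] at h1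
  have h2 : Polynomial.eval₂ (algebraMap K (RatFunc K)) (RatFunc.C c * RatFunc.X : RatFunc K) χ =
      algebraMap K[X] (RatFunc K) (χ.comp (C c * X)) := by
    rw [← RatFunc.aeval_X_left_eq_algebraMap, Polynomial.aeval_comp]
    simp only [map_mul, Polynomial.aeval_C, Polynomial.aeval_X]
    rfl
  have h3 := congrArg (algebraMap K[X] (RatFunc K)) H2
  rw [Polynomial.smul_eq_C_mul, map_mul, map_mul, map_pow, map_neg, map_one] at h3
  have h4 : algebraMap K[X] (RatFunc K) (χ.comp (C c * X)) =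
      (-1 : RatFunc K) ^ b * (algebraMap K[X] (RatFunc K) (C d) *
        algebraMap K[X] (RatFunc K) χ'.reverse) := by
    rw [h3, ← mul_assoc, ← pow_add, ← two_mul, pow_mul]
    simp
  rw [hs]
  show Polynomial.eval₂ (algebraMap K (RatFunc K)) _ χ.reverse * _ = _
  rw [h1, h2, h4, map_mul, map_pow, map_neg, map_one, mul_assoc]
  rfl


theorem prod_reflect_odd {M : Type*} [CommMonoid M] (n : ℕ) (g : ℤ → M) :
    ∏ i ∈ Finset.range n, g (2 * (n : ℤ) - ((2 * i + 1 : ℕ) : ℤ)) =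
      ∏ i ∈ Finset.range n, g ((2 * i + 1 : ℕ) : ℤ) := by
  rw [← Finset.prod_range_reflect]
  refine Finset.prod_congr rfl (fun j hj => congrArg g ?_)
  have := Finset.mem_range.mp hj
  push_cast
  omega

theorem prod_reflect_even {M : Type*} [CommMonoid M] (n : ℕ) (g : ℤ → M) :
    ∏ i ∈ Finset.range (n + 1), g (2 * (n : ℤ) - ((2 * i : ℕ) : ℤ)) =
      ∏ i ∈ Finset.range (n + 1), g ((2 * i : ℕ) : ℤ) := by
  rw [← Finset.prod_range_reflect]
  refine Finset.prod_congr rfl (fun j hj => congrArg g ?_)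
  have := Finset.mem_range.mp hj
  push_cast
  omega

theorem alt_sum_split (n : ℕ) (f : ℕ → ℤ) :
    ∑ i ∈ Finset.range (2 * n + 1), (-1 : ℤ) ^ i * f i =
      ∑ i ∈ Finset.range (n + 1), f (2 * i) - ∑ i ∈ Finset.range n, f (2 * i + 1) := by
  induction n with
  | zero => simp
  | succ m ih =>
    have e : 2 * (m + 1) + 1 = (2 * m + 1) + 1 + 1 := by ring
    rw [e, Finset.sum_range_succ, Finset.sum_range_succ, ih, Finset.sum_range_succ (fun i => f (2 * i))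
      (m + 1), Finset.sum_range_succ (fun i => f (2 * i + 1)) m]
    have h1 : (-1 : ℤ) ^ (2 * m + 1) = -1 := by
      rw [pow_succ, pow_mul]; simp
    have h2 : (-1 : ℤ) ^ (2 * m + 1 + 1) = 1 := by
      rw [pow_succ, h1]; simp
    rw [h1, h2]
    have h3 : 2 * m + 1 + 1 = 2 * (m + 1) := by ring
    rw [h3]
    ring

/-- The algebra of the functional equation. -/
theorem fe_algebra (q : K) (hq : q ≠ 0) (n : ℕ) (χ : ℤ → K[X]) (d : ℤ → K) (B : ℤ → ℕ)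
    (hdeg : ∀ j, (χ j).natDegree = B j) (hne : ∀ j, χ j ≠ 0)
    (H2 : ∀ j, d j • (χ (2 * (n : ℤ) - j)).reverse =
      (-1 : K[X]) ^ B j * (χ j).comp (C (q ^ n) * X))
    (H3 : ∀ j, d (2 * (n : ℤ) - j) * d j = (q ^ n) ^ B j)
    (H4 : ∀ j, B (2 * (n : ℤ) - j) = B j)
    (hpar : Even ((n : ℤ) * ∑ i ∈ Finset.range (2 * n + 1), (-1 : ℤ) ^ i * (B (i : ℤ) : ℤ))) :
    ∃ ε : K, (ε = 1 ∨ ε = -1) ∧
      Polynomial.aeval ((RatFunc.X : RatFunc K)⁻¹ * RatFunc.C (q ^ n)⁻¹)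
          (∏ i ∈ Finset.range n, (χ ((2 * i + 1 : ℕ) : ℤ)).reverse) /
        Polynomial.aeval ((RatFunc.X : RatFunc K)⁻¹ * RatFunc.C (q ^ n)⁻¹)
          (∏ i ∈ Finset.range (n + 1), (χ ((2 * i : ℕ) : ℤ)).reverse) =
      RatFunc.C ε * RatFunc.C q ^ ((n : ℤ) *
          (∑ i ∈ Finset.range (2 * n + 1), (-1 : ℤ) ^ i * (B (i : ℤ) : ℤ)) / 2) *
        (RatFunc.X : RatFunc K) ^
          (∑ i ∈ Finset.range (2 * n + 1), (-1 : ℤ) ^ i * (B (i : ℤ) : ℤ)) *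
        (algebraMap K[X] (RatFunc K) (∏ i ∈ Finset.range n, (χ ((2 * i + 1 : ℕ) : ℤ)).reverse) /
         algebraMap K[X] (RatFunc K)
          (∏ i ∈ Finset.range (n + 1), (χ ((2 * i : ℕ) : ℤ)).reverse)) := by
  classical
  have hc0 : q ^ n ≠ 0 := pow_ne_zero _ hq
  have ht0 : (RatFunc.X : RatFunc K) ≠ 0 := RatFunc.X_ne_zero
  have hCq0 : (RatFunc.C q : RatFunc K) ≠ 0 := by
    rw [Ne, map_eq_zero]; exact hq
  have hCc0 : (RatFunc.C (q ^ n) : RatFunc K) ≠ 0 := by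
    rw [Ne, map_eq_zero]; exact hc0
  have hu0 : (RatFunc.C (q ^ n) * RatFunc.X : RatFunc K) ≠ 0 := mul_ne_zero hCc0 ht0
  -- the scalars
  set kf : ℤ → K := fun j => (-1) ^ B j * d j with hkf
  have hk : ∀ j, kf (2 * (n : ℤ) - j) * kf j = (q ^ n) ^ B j := by
    intro j
    simp only [hkf]
    rw [H4 j, mul_mul_mul_comm, ← pow_add, ← two_mul, pow_mul, H3 j]
    simp
  have hkne : ∀ j, kf j ≠ 0 := by
    intro j h
    have := hk j
    rw [h, mul_zero] at this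
    exact pow_ne_zero _ hc0 this.symm
  -- the two products (explicit form)
  have hodd0 : Polynomial.aeval ((RatFunc.X : RatFunc K)⁻¹ * RatFunc.C (q ^ n)⁻¹)
      (∏ i ∈ Finset.range n, (χ ((2 * i + 1 : ℕ) : ℤ)).reverse) *
        (RatFunc.C (q ^ n) * RatFunc.X) ^ (∑ i ∈ Finset.range n, B ((2 * i + 1 : ℕ) : ℤ)) =
      RatFunc.C (∏ i ∈ Finset.range n, kf ((2 * i + 1 : ℕ) : ℤ)) * algebraMap K[X] (RatFunc K)
        (∏ i ∈ Finset.range n, (χ ((2 * i + 1 : ℕ) : ℤ)).reverse) := by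
    rw [map_prod, map_prod, ← Finset.prod_pow_eq_pow_sum, ← Finset.prod_mul_distrib,
      map_prod, ← prod_reflect_odd n (fun j => algebraMap K[X] (RatFunc K) (χ j).reverse),
      ← Finset.prod_mul_distrib]
    exact Finset.prod_congr rfl (fun i _ => fe_one (q ^ n) hc0 _ _ _ _ (hdeg _) (H2 _))
  have hev0 : Polynomial.aeval ((RatFunc.X : RatFunc K)⁻¹ * RatFunc.C (q ^ n)⁻¹)
      (∏ i ∈ Finset.range (n + 1), (χ ((2 * i : ℕ) : ℤ)).reverse) *
        (RatFunc.C (q ^ n) * RatFunc.X) ^ (∑ i ∈ Finset.range (n + 1), B ((2 * i : ℕ) : ℤ)) =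
      RatFunc.C (∏ i ∈ Finset.range (n + 1), kf ((2 * i : ℕ) : ℤ)) * algebraMap K[X] (RatFunc K)
        (∏ i ∈ Finset.range (n + 1), (χ ((2 * i : ℕ) : ℤ)).reverse) := by
    rw [map_prod, map_prod, ← Finset.prod_pow_eq_pow_sum, ← Finset.prod_mul_distrib,
      map_prod, ← prod_reflect_even n (fun j => algebraMap K[X] (RatFunc K) (χ j).reverse),
      ← Finset.prod_mul_distrib]
    exact Finset.prod_congr rfl (fun i _ => fe_one (q ^ n) hc0 _ _ _ _ (hdeg _) (H2 _))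
  have hko20 : (∏ i ∈ Finset.range n, kf ((2 * i + 1 : ℕ) : ℤ)) *
      (∏ i ∈ Finset.range n, kf ((2 * i + 1 : ℕ) : ℤ)) =
      (q ^ n) ^ (∑ i ∈ Finset.range n, B ((2 * i + 1 : ℕ) : ℤ)) := by
    have h1 : (∏ i ∈ Finset.range n, kf (2 * (n : ℤ) - ((2 * i + 1 : ℕ) : ℤ))) *
        (∏ i ∈ Finset.range n, kf ((2 * i + 1 : ℕ) : ℤ)) =
        (q ^ n) ^ (∑ i ∈ Finset.range n, B ((2 * i + 1 : ℕ) : ℤ)) := by
      rw [← Finset.prod_mul_distrib, ← Finset.prod_pow_eq_pow_sum]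
      exact Finset.prod_congr rfl (fun i _ => hk _)
    rw [prod_reflect_odd n kf] at h1
    exact h1
  have hke20 : (∏ i ∈ Finset.range (n + 1), kf ((2 * i : ℕ) : ℤ)) *
      (∏ i ∈ Finset.range (n + 1), kf ((2 * i : ℕ) : ℤ)) =
      (q ^ n) ^ (∑ i ∈ Finset.range (n + 1), B ((2 * i : ℕ) : ℤ)) := by
    have h1 : (∏ i ∈ Finset.range (n + 1), kf (2 * (n : ℤ) - ((2 * i : ℕ) : ℤ))) *
        (∏ i ∈ Finset.range (n + 1), kf ((2 * i : ℕ) : ℤ)) =
        (q ^ n) ^ (∑ i ∈ Finset.range (n + 1), B ((2 * i : ℕ) : ℤ)) := by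
      rw [← Finset.prod_mul_distrib, ← Finset.prod_pow_eq_pow_sum]
      exact Finset.prod_congr rfl (fun i _ => hk _)
    rw [prod_reflect_even n kf] at h1
    exact h1
  have hko00 : (∏ i ∈ Finset.range n, kf ((2 * i + 1 : ℕ) : ℤ)) ≠ 0 :=
    Finset.prod_ne_zero_iff.mpr (fun i _ => hkne _)
  have hke00 : (∏ i ∈ Finset.range (n + 1), kf ((2 * i : ℕ) : ℤ)) ≠ 0 :=
    Finset.prod_ne_zero_iff.mpr (fun i _ => hkne _)
  have hE0 : ∑ i ∈ Finset.range (2 * n + 1), (-1 : ℤ) ^ i * (B (i : ℤ) : ℤ) =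
      ((∑ i ∈ Finset.range (n + 1), B ((2 * i : ℕ) : ℤ) : ℕ) : ℤ) -
        ((∑ i ∈ Finset.range n, B ((2 * i + 1 : ℕ) : ℤ) : ℕ) : ℤ) := by
    rw [alt_sum_split n (fun i => (B (i : ℤ) : ℤ))]
    push_cast
    rfl
  have hQo0 : algebraMap K[X] (RatFunc K)
      (∏ i ∈ Finset.range n, (χ ((2 * i + 1 : ℕ) : ℤ)).reverse) ≠ 0 := by
    rw [Ne, map_eq_zero_iff _ (IsFractionRing.injective K[X] (RatFunc K)),
      Finset.prod_eq_zero_iff]
    rintro ⟨i, -, hi⟩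
    exact hne _ (Polynomial.reverse_eq_zero.mp hi)
  have hQe0 : algebraMap K[X] (RatFunc K)
      (∏ i ∈ Finset.range (n + 1), (χ ((2 * i : ℕ) : ℤ)).reverse) ≠ 0 := by
    rw [Ne, map_eq_zero_iff _ (IsFractionRing.injective K[X] (RatFunc K)),
      Finset.prod_eq_zero_iff]
    rintro ⟨i, -, hi⟩
    exact hne _ (Polynomial.reverse_eq_zero.mp hi)
  -- name everything
  generalize (∑ i ∈ Finset.range n, B ((2 * i + 1 : ℕ) : ℤ)) = Bodd at *
  generalize (∑ i ∈ Finset.range (n + 1), B ((2 * i : ℕ) : ℤ)) = Bev at *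
  generalize (∏ i ∈ Finset.range n, kf ((2 * i + 1 : ℕ) : ℤ)) = ko at *
  generalize (∏ i ∈ Finset.range (n + 1), kf ((2 * i : ℕ) : ℤ)) = ke at *
  generalize Polynomial.aeval ((RatFunc.X : RatFunc K)⁻¹ * RatFunc.C (q ^ n)⁻¹)
      (∏ i ∈ Finset.range n, (χ ((2 * i + 1 : ℕ) : ℤ)).reverse) = Ao at *
  generalize Polynomial.aeval ((RatFunc.X : RatFunc K)⁻¹ * RatFunc.C (q ^ n)⁻¹)
      (∏ i ∈ Finset.range (n + 1), (χ ((2 * i : ℕ) : ℤ)).reverse) = Ae at *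
  generalize algebraMap K[X] (RatFunc K)
      (∏ i ∈ Finset.range n, (χ ((2 * i + 1 : ℕ) : ℤ)).reverse) = Qo at *
  generalize algebraMap K[X] (RatFunc K)
      (∏ i ∈ Finset.range (n + 1), (χ ((2 * i : ℕ) : ℤ)).reverse) = Qe at *
  rw [hE0] at hpar ⊢
  -- parity
  obtain ⟨r, hr⟩ := hpar
  have hdiv : (n : ℤ) * ((Bev : ℤ) - (Bodd : ℤ)) / 2 = r := by omega
  rw [hdiv]
  -- the sign
  have hD2 : (ko / ke) ^ 2 = (q ^ (-r)) ^ 2 := by
    rw [div_pow, pow_two, pow_two, hko20, hke20, ← zpow_natCast (q ^ (-r)) 2, ← zpow_mul,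
      ← pow_mul, ← pow_mul, ← zpow_natCast q (n * Bodd), ← zpow_natCast q (n * Bev),
      ← zpow_sub₀ hq]
    congr 1
    push_cast
    linarith
  have hupow : ∀ m : ℕ, (RatFunc.C (q ^ n) * RatFunc.X : RatFunc K) ^ m ≠ 0 :=
    fun m => pow_ne_zero _ hu0
  have hAo : Ao = RatFunc.C ko * Qo / (RatFunc.C (q ^ n) * RatFunc.X) ^ Bodd := by
    rw [eq_div_iff (hupow _)]; exact hodd0
  have hAe : Ae = RatFunc.C ke * Qe / (RatFunc.C (q ^ n) * RatFunc.X) ^ Bev := by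
    rw [eq_div_iff (hupow _)]; exact hev0
  have hCke : (RatFunc.C ke : RatFunc K) ≠ 0 := by
    rw [Ne, map_eq_zero]; exact hke00
  have key : Ao / Ae = RatFunc.C (ko / ke) *
      (RatFunc.C (q ^ n) * RatFunc.X) ^ ((Bev : ℤ) - (Bodd : ℤ)) * (Qo / Qe) := by
    rw [hAo, hAe, zpow_sub₀ hu0, zpow_natCast, zpow_natCast, map_div₀]
    have h1 := hupow Bodd
    have h2 := hupow Bev
    field_simp
  have hu_pow : (RatFunc.C (q ^ n) * RatFunc.X : RatFunc K) ^ ((Bev : ℤ) - (Bodd : ℤ)) =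
      (RatFunc.C q) ^ (r + r) * RatFunc.X ^ ((Bev : ℤ) - (Bodd : ℤ)) := by
    rw [mul_zpow, map_pow, ← zpow_natCast (RatFunc.C q) n, ← zpow_mul, hr]
  rw [key, hu_pow]
  rcases sq_eq_sq_iff_eq_or_eq_neg.mp hD2 with hD | hD
  · refine ⟨1, Or.inl rfl, ?_⟩
    rw [hD, map_zpow₀, map_one, one_mul, ← mul_assoc, ← zpow_add₀ hCq0]
    congr 3
    ring
  · refine ⟨-1, Or.inr rfl, ?_⟩
    rw [hD, map_neg, map_zpow₀, map_neg, map_one, neg_mul, neg_mul, neg_mul, neg_mul, one_mul,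
      ← mul_assoc, ← zpow_add₀ hCq0]
    ring_nf

end Groth.Agent.Lib.Helper97.FrobFE
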