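import Mathlib
import Groth.Agent.Lib.Helper97.FrobVar
import Groth.Agent.S13059

/-! Helper lemmas (helper97): the Frobenius endomorphism multiplies the trace of a Weil cohomology
theory by `q ^ dim`; the linear algebra of endomorphisms compatible with a perfect pairing up to a
scalar (universe polymorphic form of helper66's `S13059`). -/

set_option autoImplicit false
universe u v

open CategoryTheory AlgebraicGeometry CategoryTheory.Limits

namespace Groth.Agent.Lib.Helper97.FrobWeil

open Groth.Agent.Lib.Helper97.VarDim Groth.Agent.Lib.Helper97.VarPt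
  Groth.Agent.Lib.Helper97.VarTrdeg Groth.Agent.Lib.Helper97.FrobVar

section LinAlg

open Polynomial Matrix Module

/-- characteristic polynomial of a scalar multiple -/
theorem matrix_charpoly_inv_smul {K : Type*} [Field K] {n : Type*} [Fintype n] [DecidableEq n]
    (M : Matrix n n K) (c : K) (hc : c ≠ 0) :
    (c⁻¹ • M).charpoly = C (c⁻¹ ^ Fintype.card n) * M.charpoly.comp (C c * X) := by
  have h1 : charmatrix (c⁻¹ • M) =
      (C c⁻¹ : K[X]) • (Polynomial.compRingHom (C c * X)).mapMatrix (charmatrix M) := by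
    have hR : ∀ i j, ((C c⁻¹ : K[X]) •
        (Polynomial.compRingHom (C c * X)).mapMatrix (charmatrix M)) i j =
        C c⁻¹ * ((charmatrix M i j).comp (C c * X)) := fun i j => rfl
    refine Matrix.ext fun i j => ?_
    by_cases hij : i = j
    · subst hij
      rw [hR, charmatrix_apply_eq, charmatrix_apply_eq, Matrix.smul_apply, smul_eq_mul,
        Polynomial.sub_comp, Polynomial.X_comp, Polynomial.C_comp, mul_sub, ← mul_assoc, ← C_mul,
        inv_mul_cancel₀ hc, C_1, one_mul, C_mul]
    · rw [hR, charmatrix_apply_ne _ _ _ hij, charmatrix_apply_ne _ _ _ hij, Matrix.smul_apply,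
        smul_eq_mul, Polynomial.neg_comp, Polynomial.C_comp, C_mul, mul_neg]
  rw [Matrix.charpoly, h1, Matrix.det_smul, ← RingHom.map_det, Polynomial.coe_compRingHom_apply,
    ← C_pow]
  rfl

variable {K : Type*} [Field K] {V W : Type*} [AddCommGroup V] [Module K V]
  [FiniteDimensional K V] [AddCommGroup W] [Module K W] [FiniteDimensional K W]

/-- matrices of two endomorphisms compatible with a perfect pairing up to a scalar -/
theorem exists_matrices (B : V →ₗ[K] W →ₗ[K] K) [B.IsPerfPair] (f : V →ₗ[K] V) (g : W →ₗ[K] W)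
    (c : K) (hfg : ∀ (v : V) (w : W), B (f v) (g w) = c * B v w) :
    ∃ F G : Matrix (Fin (finrank K V)) (Fin (finrank K V)) K,
      Fᵀ * G = c • (1 : Matrix _ _ K) ∧ F.det = LinearMap.det f ∧ G.det = LinearMap.det g ∧
        F.charpoly = f.charpoly ∧ G.charpoly = g.charpoly ∧ finrank K W = finrank K V := by
  classical
  let b : Module.Basis (Fin (Module.finrank K V)) K V := Module.finBasis K V
  let b' : Module.Basis (Fin (Module.finrank K V)) K W :=
    b.dualBasis.map B.flip.toPerfPair.symm
  have hbb' : ∀ i j, B (b i) (b' j) = if i = j then 1 else 0 := by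
    intro i j
    have : B (b i) (b' j) = (b.dualBasis j) (b i) := by
      simp [b']
    rw [this, Module.Basis.dualBasis_apply_self]
  set F := LinearMap.toMatrix b b f with hF
  set G := LinearMap.toMatrix b' b' g with hG
  have hfb : ∀ i, f (b i) = ∑ k, F k i • b k := by
    intro i
    rw [hF]
    simp_rw [LinearMap.toMatrix_apply]
    exact (b.sum_repr (f (b i))).symm
  have hgb : ∀ j, g (b' j) = ∑ l, G l j • b' l := by
    intro j
    rw [hG]
    simp_rw [LinearMap.toMatrix_apply]
    exact (b'.sum_repr (g (b' j))).symm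
  have hFG : F.transpose * G = c • (1 : Matrix _ _ K) := by
    refine Matrix.ext fun i j => ?_
    have h := hfg (b i) (b' j)
    rw [hfb, hgb] at h
    simp only [map_sum, map_smul, LinearMap.sum_apply, LinearMap.smul_apply, hbb', smul_eq_mul,
      mul_ite, mul_one, mul_zero, Finset.sum_ite_eq, Finset.sum_ite_eq', Finset.mem_univ,
      if_true] at h
    rw [Matrix.mul_apply, Matrix.smul_apply, Matrix.one_apply, smul_eq_mul, mul_ite, mul_one,
      mul_zero, ← h]
    refine Finset.sum_congr rfl fun k _ => ?_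
    rw [Matrix.transpose_apply, mul_comm]
  have hcard : Module.finrank K W = Module.finrank K V := by
    rw [Module.finrank_eq_card_basis b']
    simp
  exact ⟨F, G, hFG, LinearMap.det_toMatrix b f, LinearMap.det_toMatrix b' g,
    LinearMap.charpoly_toMatrix f b, LinearMap.charpoly_toMatrix g b', hcard⟩

/-- product of determinants -/
theorem det_mul_det_of_pairing_scaled (B : V →ₗ[K] W →ₗ[K] K) [B.IsPerfPair] (f : V →ₗ[K] V)
    (g : W →ₗ[K] W) (c : K) (hfg : ∀ (v : V) (w : W), B (f v) (g w) = c * B v w) :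
    LinearMap.det g * LinearMap.det f = c ^ finrank K V := by
  obtain ⟨F, G, hFG, hdF, hdG, -, -, -⟩ := exists_matrices B f g c hfg
  have h := congrArg Matrix.det hFG
  rw [Matrix.det_mul, Matrix.det_transpose, Matrix.det_smul, Matrix.det_one, mul_one,
    Fintype.card_fin, hdF, hdG] at h
  rw [mul_comm]
  exact h

/-- the characteristic polynomials -/
theorem det_smul_reverse_charpoly (B : V →ₗ[K] W →ₗ[K] K) [B.IsPerfPair] (f : V →ₗ[K] V)
    (g : W →ₗ[K] W) (c : K) (hc : c ≠ 0) (hfg : ∀ (v : V) (w : W), B (f v) (g w) = c * B v w) :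
    LinearMap.det f • (LinearMap.charpoly g).reverse =
      (-1 : K[X]) ^ finrank K V * (LinearMap.charpoly f).comp (C c * X) := by
  obtain ⟨F, G, hFG, hdF, hdG, hcF, hcG, -⟩ := exists_matrices B f g c hfg
  have key := Groth.Agent.S13059.matrix_identity F G c hc hFG
  rw [matrix_charpoly_inv_smul F c hc, Fintype.card_fin, hdF, hcF, hcG] at key
  rw [key, Polynomial.smul_eq_C_mul, ← mul_assoc, ← C_mul]
  congr 1
  rw [mul_assoc, ← mul_pow, mul_inv_cancel₀ hc, one_pow, mul_one, C_pow, C_neg, C_1]

end LinAlg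

section Trace

variable (k₀ : Type u) [Field k₀] [Finite k₀] (k : Type u) [Field k] [IsAlgClosed k] [Algebra k₀ k]
  {K : Type v} [Field K] [CharZero K] (T : WeilCoh.Theory k K)
  {X : Scheme.{u}} (f : X ⟶ Spec (CommRingCat.of k₀))
  (FX : X ⟶ X) (hFb : FX.base = 𝟙 _) (hle : ∀ U : X.Opens, U ≤ FX ⁻¹ᵁ U)
  (hFapp : ∀ (U : X.Opens) (s : Γ(X, U)), (FX.appLE U U (hle U)).hom s = s ^ Nat.card k₀)
  (Xb : WeilCoh.Var k) (π : Xb.obj.left ⟶ X)
  (hπ : IsPullback π Xb.obj.hom f (Spec.map (CommRingCat.ofHom (algebraMap k₀ k))))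
  (F : Xb ⟶ Xb) (hF : WeilCoh.sm F ≫ π = π ≫ FX)

include hFb hFapp hπ hF in
/-- The Frobenius endomorphism multiplies the trace by `q ^ dim`. -/
theorem tr_pull_frob (a : T.H Xb) :
    T.tr Xb (T.pull F a) = ((Nat.card k₀ : K) ^ WeilCoh.dim Xb.obj.left) * T.tr Xb a := by
  haveI : IrreducibleSpace ↥Xb.obj.left := Xb.property.2.2
  have h := tr_cl_mul_pull k T F (genericPoint ↥Xb.obj.left) a
  rw [residueDegree_frob k₀ k f FX hFb hle hFapp Xb π hπ F hF,
    frob_genericPoint k₀ k f FX hFb hle hFapp Xb π hπ F hF,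
    cl_genericPoint k T Xb, one_mul, one_mul] at h
  rw [h]
  push_cast
  rfl

end Trace

end Groth.Agent.Lib.Helper97.FrobWeil
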