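import Groth.Agent.Lib.Helper97.RedModBC
import Groth.Agent.S9630

/-!
# Integral modules and base change of the ground field (helper97)

A coherent module is integral when it has exactly one associated point, with stalk of length one.
-/

set_option autoImplicit false
set_option linter.style.haveILetI false
set_option linter.unusedSectionVars false
universe u

open AlgebraicGeometry CategoryTheory TensorProduct TopologicalSpace Limits

namespace Groth.Agent.Lib.Helper97.AssFibre

open Groth.Agent.Lib.Helper97.StalkTensor Groth.Agent.Lib.Helper16.FlatPull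

section Square

variable {k : Type u} [Field k] {Z : Scheme.{u}} (ρ : Z ⟶ Spec (CommRingCat.of k))

/-- The spectrum of the fibre ring `K ⊗_k κ(z)` is irreducible. -/
def FibIrr (K : Type u) [Field K] [Algebra k K] (z : Z) : Prop :=
  letI := resAlg ρ z
  IrreducibleSpace (PrimeSpectrum (K ⊗[k] (Z.residueField z)))

variable {K : Type u} [Field K] [Algebra k K] {Z' : Scheme.{u}}
  (ρ' : Z' ⟶ Spec (CommRingCat.of K)) (π : Z' ⟶ Z)
  (h : IsPullback π ρ' ρ (Spec.map (CommRingCat.ofHom (algebraMap k K))))

include h

theorem irreducibleSpace_fiber_iff (z : Z) : IrreducibleSpace ↥(π.fiber z) ↔ FibIrr ρ K z := by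
  letI := resAlg ρ z
  obtain ⟨e⟩ := nonempty_fiber_iso_spec_tensor ρ ρ' π h z
  unfold FibIrr
  rw [e.hom.homeomorph.irreducibleSpace_iff]
  exact (PrimeSpectrum.homeomorphOfRingEquiv
    (Algebra.TensorProduct.comm k (Z.residueField z) K).toRingEquiv).irreducibleSpace_iff

variable [IsLocallyNoetherian Z] [IsLocallyNoetherian Z']

/-- For a finite extension, every point over an associated point is associated. -/
theorem isAssPoint_pullback_of_finite [Module.Finite k K] (F : Z.Modules) [F.IsQuasicoherent]
    (x' : Z') (hx : Curv2.IsAssPoint F (π x')) :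
    Curv2.IsAssPoint ((Scheme.Modules.pullback π).obj F) x' := by
  haveI : Flat π := flat_of_isPullback_field ρ ρ' π h
  rw [isAssPoint_pullback_iff_of_flat π F x']
  refine ⟨hx, ?_⟩
  obtain ⟨t, ht⟩ := exists_fiberι_eq π (π x') x' rfl
  rw [← ht, ← isAssPoint_structureModule_fiber_iff π (π x') t]
  exact isAssPoint_structureModule_fiber_of_finite ρ ρ' π h (π x') t

/-- Descent of integrality along a finite extension of the ground field. -/
theorem exists_unique_ass_of_pullback [Module.Finite k K] (F : Z.Modules) [F.IsQuasicoherent]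
    (hint : ∃ x' : Z', AssSch.Ass ((Scheme.Modules.pullback π).obj F) = {x'} ∧
      Module.length (Z'.presheaf.stalk x')
        (((Scheme.Modules.pullback π).obj F).presheaf.stalk x') = 1) :
    ∃ x : Z, AssSch.Ass F = {x} ∧
      Module.length (Z.presheaf.stalk x) (F.presheaf.stalk x) = 1 ∧
        FibRed ρ K x ∧ FibIrr ρ K x := by
  haveI : Flat π := flat_of_isPullback_field ρ ρ' π h
  haveI : Surjective π := surjective_of_isPullback_field ρ ρ' π h
  haveI := isQuasicoherent_pullback π F
  obtain ⟨x', hAss, hlen⟩ := hint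
  have hx'A : Curv2.IsAssPoint ((Scheme.Modules.pullback π).obj F) x' := by
    have : x' ∈ AssSch.Ass ((Scheme.Modules.pullback π).obj F) := by rw [hAss]; rfl
    exact this
  have hxA : Curv2.IsAssPoint F (π x') := ((isAssPoint_pullback_iff_of_flat π F x').mp hx'A).1
  have hfib : ∀ t : ↥(π.fiber (π x')), π.fiberι (π x') t = x' := by
    intro t
    have : π.fiberι (π x') t ∈ AssSch.Ass ((Scheme.Modules.pullback π).obj F) :=
      isAssPoint_pullback_of_finite ρ ρ' π h F _ (by rw [apply_fiberι']; exact hxA)
    rw [hAss] at this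
    exact this
  obtain ⟨t, ht⟩ := exists_fiberι_eq π (π x') x' rfl
  have hsub : ∀ t' : ↥(π.fiber (π x')), t' = t := fun t' =>
    (π.fiberι (π x')).isEmbedding.injective ((hfib t').trans ht.symm)
  have hl := length_stalk_pullback_fiberι π F (π x') t
  rw [length_stalk_of_eq _ ht, hlen] at hl
  obtain ⟨h1, h2⟩ := enat_mul_eq_one hl.symm
  refine ⟨π x', ?_, ?_, ?_, ?_⟩
  · ext y
    simp only [Set.mem_singleton_iff]
    constructor
    · intro hy
      obtain ⟨y', rfl⟩ := π.surjective y
      have : y' ∈ AssSch.Ass ((Scheme.Modules.pullback π).obj F) :=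
        isAssPoint_pullback_of_finite ρ ρ' π h F y' hy
      rw [hAss] at this
      rw [Set.mem_singleton_iff.mp this]
    · rintro rfl
      exact hxA
  · rwa [length_stalk_of_eq F (apply_fiberι' π (π x') t)] at h1
  · rw [← isReduced_fiber_iff ρ ρ' π h (π x')]
    haveI : ∀ t' : ↥(π.fiber (π x')),
        _root_.IsReduced ((π.fiber (π x')).presheaf.stalk t') := fun t' => by
      rw [hsub t']
      exact isReduced_of_length_self_eq_one h2
    exact isReduced_of_isReduced_stalk _
  · rw [← irreducibleSpace_fiber_iff ρ ρ' π h (π x')]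
    haveI : Subsingleton ↥(π.fiber (π x')) := ⟨fun a b => (hsub a).trans (hsub b).symm⟩
    haveI : Nonempty ↥(π.fiber (π x')) := ⟨t⟩
    exact { toNonempty := inferInstance }

/-- Ascent of integrality along an extension of the ground field. -/
theorem exists_unique_ass_pullback (F : Z.Modules) [F.IsQuasicoherent] (x : Z)
    (hAss : AssSch.Ass F = {x})
    (hlen : Module.length (Z.presheaf.stalk x) (F.presheaf.stalk x) = 1)
    (hred : FibRed ρ K x) (hirr : FibIrr ρ K x) :
    ∃ x' : Z', AssSch.Ass ((Scheme.Modules.pullback π).obj F) = {x'} ∧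
      Module.length (Z'.presheaf.stalk x')
        (((Scheme.Modules.pullback π).obj F).presheaf.stalk x') = 1 := by
  haveI : Flat π := flat_of_isPullback_field ρ ρ' π h
  haveI := isQuasicoherent_pullback π F
  haveI : IrreducibleSpace ↥(π.fiber x) := (irreducibleSpace_fiber_iff ρ ρ' π h x).mpr hirr
  have hNE_T := noEmbedded_fiber ρ ρ' π h x
  have htA : Curv2.IsAssPoint (Coh.structureModule (π.fiber x)) (genericPoint ↥(π.fiber x)) :=
    (isAssPoint_structureModule_iff_forall_specializes hNE_T _).mpr
      (fun t' ht' => (ht'.antisymm (genericPoint_specializes t')).eq)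
  have hπt : π (π.fiberι x (genericPoint ↥(π.fiber x))) = x := apply_fiberι' π x _
  have hxA : Curv2.IsAssPoint F x := by
    have : x ∈ AssSch.Ass F := by rw [hAss]; rfl
    exact this
  have hx'A : Curv2.IsAssPoint ((Scheme.Modules.pullback π).obj F)
      (π.fiberι x (genericPoint ↥(π.fiber x))) := by
    rw [isAssPoint_pullback_iff_of_flat π F, hπt]
    exact ⟨hxA, (isAssPoint_structureModule_fiber_iff π x _).mp htA⟩
  have hmem : ∀ y ∈ AssSch.Ass F, y = x := fun y hy => by
    rw [hAss] at hy
    exact hy
  have hred' : AssSch.IsReducedMod ((Scheme.Modules.pullback π).obj F) :=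
    isReducedMod_pullback_of_fibRed ρ ρ' π h F
      (fun a ha b hb _ => (hmem a ha).trans (hmem b hb).symm)
      (fun y hy => by rw [hmem y hy]; exact hlen)
      (fun y hy => by rw [hmem y hy]; exact hred)
  refine ⟨π.fiberι x (genericPoint ↥(π.fiber x)), ?_, hred'.2 _ hx'A⟩
  ext y'
  simp only [Set.mem_singleton_iff]
  constructor
  · intro hy'
    obtain ⟨h1, h2⟩ := (isAssPoint_pullback_iff_of_flat π F y').mp hy'
    have hπy : π y' = x := hmem _ h1
    obtain ⟨t'', ht''⟩ := exists_fiberι_eq π x y' hπy
    have ht''A : Curv2.IsAssPoint (Coh.structureModule (π.fiber x)) t'' := by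
      rw [isAssPoint_structureModule_fiber_iff π x t'', ht'']
      exact h2
    have hmin := (isAssPoint_structureModule_iff_forall_specializes hNE_T t'').mp ht''A
    rw [← ht'', ← hmin _ (genericPoint_specializes t'')]
  · rintro rfl
    exact hx'A

end Square

section FBaseSec

variable {k : Type u} [Field k] {X : Scheme.{u}} (f : X ⟶ Spec (CommRingCat.of k))

/-- A coherent module which is integral after every finite extension of the ground field is
integral after every extension. -/
theorem exists_unique_ass_bc_of_forall_finite [IsLocallyNoetherian X] (F : X.Modules)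
    [F.IsQuasicoherent]
    (H : ∀ (k' : Type u) [Field k'] [Algebra k k'] [FiniteDimensional k k'],
      ∃ x' : ↥(FBase.bc f k'),
        AssSch.Ass ((Scheme.Modules.pullback (FBase.bcπ f k')).obj F) = {x'} ∧
          Module.length ↑((FBase.bc f k').presheaf.stalk x')
            ↑(((Scheme.Modules.pullback (FBase.bcπ f k')).obj F).presheaf.stalk x') = 1)
    (K : Type u) [Field K] [Algebra k K] [IsLocallyNoetherian (FBase.bc f K)] :
    ∃ x' : ↥(FBase.bc f K),
      AssSch.Ass ((Scheme.Modules.pullback (FBase.bcπ f K)).obj F) = {x'} ∧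
        Module.length ↑((FBase.bc f K).presheaf.stalk x')
          ↑(((Scheme.Modules.pullback (FBase.bcπ f K)).obj F).presheaf.stalk x') = 1 := by
  have step : ∀ (k' : Type u) [Field k'] [Algebra k k'] [FiniteDimensional k k'],
      ∃ x : X, AssSch.Ass F = {x} ∧
        Module.length (X.presheaf.stalk x) (F.presheaf.stalk x) = 1 ∧
          FibRed f k' x ∧ FibIrr f k' x := by
    intro k' _ _ _
    haveI := isLocallyNoetherian_bc_of_finite f k'
    exact exists_unique_ass_of_pullback f (FBase.bcStr f k') (FBase.bcπ f k')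
      (isPullback_bc f k') F (H k')
  obtain ⟨x, hAss, hlen, -, -⟩ := step k
  have hk' : ∀ (k' : Type u) [Field k'] [Algebra k k'] [FiniteDimensional k k'],
      FibRed f k' x ∧ FibIrr f k' x := by
    intro k' _ _ _
    obtain ⟨x₁, hAss₁, -, h3, h4⟩ := step k'
    have hx : x₁ = x := Set.singleton_injective (hAss₁.symm.trans hAss)
    subst hx
    exact ⟨h3, h4⟩
  have hred : FibRed f K x :=
    fibRed_of_forall_finite_isPurelyInseparable f x (fun k' _ _ _ _ => (hk' k').1) K
  have hirr : FibIrr f K x := by
    letI := resAlg f x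
    have h1 : ∀ (k' : Type u) [Field k'] [Algebra k k'] [Module.Finite k k']
        [Algebra.IsSeparable k k'],
        IrreducibleSpace (PrimeSpectrum (k' ⊗[k] (X.residueField x))) :=
      fun k' _ _ _ _ => (hk' k').2
    have h2 : ∀ (k' : Type u) [Field k'] [Algebra k k'],
        IrreducibleSpace (PrimeSpectrum (k' ⊗[k] (X.residueField x))) :=
      ((Groth.Agent.S9630.result (k := k) (R := X.residueField x)).out 1 0).mp h1
    exact h2 K
  exact exists_unique_ass_pullback f (FBase.bcStr f K) (FBase.bcπ f K) (isPullback_bc f K) F x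
    hAss hlen hred hirr

end FBaseSec

end Groth.Agent.Lib.Helper97.AssFibre
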