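import Groth.Agent.Lib.Helper97.MeroLib3

/-! Helper library (helper97): the Cartier divisor of a regular meromorphic section `s` of an
invertible module `L`, and the isomorphism `L ≅ O_X(div s)` (generalising `MeroLib2`). -/

set_option autoImplicit false
universe u
open CategoryTheory AlgebraicGeometry TopologicalSpace Opposite
open Groth.Agent.Lib.Helper45 Groth.Agent.Lib.Helper49 Groth.Agent.Lib.Helper11.GenLocus

namespace Groth.Agent.Lib.Helper97.MeroLib

open Mero ZeroScheme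

variable {X : Scheme.{u}}

section MDatum

variable (L : X.Modules) (s : Γ(Mero.merMod L, ⊤))

/-- a local trivialisation of `(L, s)`: a basis `τ` of `L` over `W` and regular functions `a`, `b`
with `s = (a / b) τ`. -/
structure MDatum where
  W : X.Opens
  τ : Γ(L, W)
  a : regSub X W
  b : regSub X W
  hτ : IsBasisOn L W τ
  hs : IsFrac s W (a.1 • τ) b

variable {L s}

theorem exists_mdatum (hL : PicF.IsInvertible L) (hs : IsRegularMero L s) (y : X) :
    ∃ d : MDatum L s, y ∈ d.W := by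
  obtain ⟨V, hyV, m, b, HF⟩ := exists_isFrac s y
  obtain ⟨W', hyW', τ, hτ⟩ := exists_isBasisOn_of_isInvertible hL y
  have hτ' := hτ.mono (inf_le_right : V ⊓ W' ≤ W')
  obtain ⟨a, ha⟩ := hτ'.exists_eq_smul (mres L (inf_le_left : V ⊓ W' ≤ V) m)
  have HF' := HF.mono (inf_le_left : V ⊓ W' ≤ V)
  rw [← ha] at HF'
  refine ⟨⟨V ⊓ W', mres L inf_le_right τ, ⟨a, ?_⟩, regRes inf_le_left b, hτ', HF'⟩, ⟨hyV, hyW'⟩⟩
  intro x
  change X.presheaf.germ (V ⊓ W') x.1 x.2 a ∈ nonZeroDivisors _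
  rw [mem_nonZeroDivisors_iff_right]
  intro ρ hρ
  have h1 : (LocalizedModule.mk ρ 1 : KStalk X x.1) • s.1 ⟨x.1, Opens.mem_top x.1⟩ = 0 := by
    rw [HF' x]
    refine (LocalizedModule.mk_smul_mk ρ _ 1 _).trans ?_
    rw [Mero.germ_smul, smul_smul, hρ, zero_smul, LocalizedModule.zero_mk]
  have h2 := hs x.1 _ h1
  apply mk_one_injective x.1
  rw [h2, LocalizedModule.zero_mk]

/-- two local trivialisations differ by a unit. -/
theorem MDatum.exists_unit (hL : PicF.IsInvertible L) (d d' : MDatum L s) {N : X.Opens}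
    (h : N ≤ d.W) (h' : N ≤ d'.W) :
    ∃ u : Γ(X, N), IsUnit u ∧ mres L h d.τ = u • mres L h' d'.τ ∧
      fres h' d'.a.1 * fres h d.b.1 = fres h d.a.1 * fres h' d'.b.1 * u := by
  obtain ⟨u, hu⟩ := (d'.hτ.mono h').exists_eq_smul (mres L h d.τ)
  have hunit : IsUnit u := isUnit_of_isBasisOn_smul (d'.hτ.mono h') u (by rw [hu]; exact d.hτ.mono h)
  refine ⟨u, hunit, hu.symm, ?_⟩
  apply (d'.hτ.mono h').eq_of_smul_eq
  have h1 : fres h' d'.b.1 • (fres h d.a.1 • mres L h d.τ) =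
      fres h d.b.1 • (fres h' d'.a.1 • mres L h' d'.τ) := by
    apply section_ext_germ L N
    intro y hy
    have e1 := (d.hs.mono h) ⟨y, hy⟩
    have e2 := (d'.hs.mono h') ⟨y, hy⟩
    have e3 := smul_eq_of_mk_eq hL y (e1.symm.trans e2)
    rw [mres_smul, mres_smul] at e3
    refine (Mero.germ_smul L N y hy _ _).trans (Eq.trans ?_ (Mero.germ_smul L N y hy _ _).symm)
    exact e3
  rw [mul_smul, mul_smul, mul_smul, hu, smul_comm (fres h' d'.a.1), smul_comm (fres h d.a.1)]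
  exact h1.symm

/-- coefficients of a common section with respect to two local trivialisations. -/
theorem MDatum.cross (hL : PicF.IsInvertible L) (d d' : MDatum L s) {N : X.Opens} (h : N ≤ d.W)
    (h' : N ≤ d'.W) (r r' : Γ(X, N)) (hr : r • mres L h d.τ = r' • mres L h' d'.τ) :
    r * (fres h' d'.a.1 * fres h d.b.1) = r' * (fres h d.a.1 * fres h' d'.b.1) := by
  obtain ⟨u, -, hu, hc⟩ := d.exists_unit hL d' h h'
  have h1 : r' = r * u := by
    apply (d'.hτ.mono h').eq_of_smul_eq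
    rw [← hr, hu, smul_smul]
  rw [hc, h1]
  ring

end MDatum

section DivM

variable {L : X.Modules} {s : Γ(Mero.merMod L, ⊤)}

/-- the local equation `a / b` of the divisor of `s`, a unit of `Γ(W, K_X)`. -/
noncomputable def MDatum.unit (d : MDatum L s) : (Γ(kmod X, d.W))ˣ := toKUnit d.a * (toKUnit d.b)⁻¹

theorem MDatum.unit_apply (d : MDatum L s) (y : d.W) :
    d.unit.1.1 y = LocalizedModule.mk (X.presheaf.germ d.W y.1 y.2 d.a.1) (regGerm y d.b) := by
  change (LocalizedModule.mk (X.presheaf.germ d.W y.1 y.2 d.a.1) 1 : KStalk X y.1) *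
    LocalizedModule.mk 1 (regGerm y d.b) = _
  exact LocalizedModule.mk_mul_mk.trans (mk_congr (by rw [mul_one]) (by rw [one_mul]))

theorem MDatum.unit_inv_apply (d : MDatum L s) (y : d.W) :
    (d.unit⁻¹).1.1 y = LocalizedModule.mk (X.presheaf.germ d.W y.1 y.2 d.b.1) (regGerm y d.a) := by
  have e : d.unit⁻¹ = toKUnit d.b * (toKUnit d.a)⁻¹ := by
    unfold MDatum.unit
    rw [mul_inv, inv_inv, mul_comm]
  rw [e]
  change (LocalizedModule.mk (X.presheaf.germ d.W y.1 y.2 d.b.1) 1 : KStalk X y.1) *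
    LocalizedModule.mk 1 (regGerm y d.a) = _
  exact LocalizedModule.mk_mul_mk.trans (mk_congr (by rw [mul_one]) (by rw [one_mul]))

/-- the class in `K_{X,y}ˣ/O_{X,y}ˣ` of the coefficient of `s`. -/
noncomputable def MDatum.cls (d : MDatum L s) (y : X) (hy : y ∈ d.W) : Germ X y :=
  germOf d.unit ⟨y, hy⟩

theorem MDatum.cls_eq (hL : PicF.IsInvertible L) (d d' : MDatum L s) (y : X) (hy : y ∈ d.W)
    (hy' : y ∈ d'.W) : d.cls y hy = d'.cls y hy' := by
  obtain ⟨u, hu, -, hc⟩ := d.exists_unit hL d' (inf_le_left : d.W ⊓ d'.W ≤ d.W) inf_le_right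
  have hyN : y ∈ d.W ⊓ d'.W := ⟨hy, hy'⟩
  have h1 := congrArg (X.presheaf.germ (d.W ⊓ d'.W) y hyN) hc
  rw [map_mul, map_mul, map_mul, germ_fres, germ_fres, germ_fres, germ_fres] at h1
  have hu' : IsUnit (X.presheaf.germ (d.W ⊓ d'.W) y hyN u) := hu.map (X.presheaf.germ _ y hyN).hom
  unfold MDatum.cls
  rw [QuotientGroup.eq]
  refine ⟨hu'.unit, ?_⟩
  rw [eq_inv_mul_iff_mul_eq]
  apply Units.ext
  change d.unit.1.1 ⟨y, hy⟩ *
    algebraMap (X.presheaf.stalk y) (KStalk X y) (X.presheaf.germ (d.W ⊓ d'.W) y hyN u) =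
    d'.unit.1.1 ⟨y, hy'⟩
  rw [d.unit_apply, d'.unit_apply, algebraMap_eq_mk]
  refine LocalizedModule.mk_mul_mk.trans ?_
  rw [LocalizedModule.mk_eq]
  refine ⟨1, ?_⟩
  simp only [one_smul, Submonoid.smul_def, smul_eq_mul, mul_one]
  linear_combination -h1

variable (hL : PicF.IsInvertible L) (hs : IsRegularMero L s)

noncomputable def mdatumAt (y : X) : MDatum L s := Classical.choose (exists_mdatum hL hs y)

theorem mem_mdatumAt (y : X) : y ∈ (mdatumAt hL hs y).W :=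
  Classical.choose_spec (exists_mdatum hL hs y)

/-- the germs of the Cartier divisor of `s`. -/
noncomputable def mdivFun (y : X) : Germ X y := (mdatumAt hL hs y).cls y (mem_mdatumAt hL hs y)

theorem mdivFun_eq (d : MDatum L s) (y : X) (hy : y ∈ d.W) : mdivFun hL hs y = d.cls y hy :=
  MDatum.cls_eq hL _ _ y _ hy

/-- the Cartier divisor of the regular meromorphic section `s` of the invertible module `L`. -/
noncomputable def theDivM : Divisor X :=
  ⟨mdivFun hL hs, fun x => ⟨(mdatumAt hL hs x).W, mem_mdatumAt hL hs x, (mdatumAt hL hs x).unit,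
    fun y => mdivFun_eq hL hs (mdatumAt hL hs x) y.1 y.2⟩⟩

theorem theDivM_eq_germOf (d : MDatum L s) (y : d.W) :
    (theDivM hL hs).1 y.1 = germOf d.unit y := mdivFun_eq hL hs d y.1 y.2

end DivM

section PhiM

variable {L : X.Modules} {s : Γ(Mero.merMod L, ⊤)}

/-- the coefficient of `m` with respect to the basis of a local trivialisation. -/
noncomputable def MDatum.coeff (d : MDatum L s) {U : X.Opens} (m : Γ(L, U)) : Γ(X, d.W ⊓ U) :=
  Classical.choose ((d.hτ.mono inf_le_left).exists_eq_smul (mres L inf_le_right m))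

theorem MDatum.coeff_spec (d : MDatum L s) {U : X.Opens} (m : Γ(L, U)) :
    d.coeff m • mres L inf_le_left d.τ = mres L inf_le_right m :=
  Classical.choose_spec ((d.hτ.mono inf_le_left).exists_eq_smul (mres L inf_le_right m))

variable (hL : PicF.IsInvertible L) (hs : IsRegularMero L s)

/-- the value at `y` of the image of `m` in `K_X`: `r b / a` where `m = r τ`, `s = (a/b) τ`. -/
noncomputable def ψval {U : X.Opens} (m : Γ(L, U)) (y : U) : KStalk X y.1 :=
  LocalizedModule.mk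
    (X.presheaf.germ ((mdatumAt hL hs y.1).W ⊓ U) y.1 ⟨mem_mdatumAt hL hs y.1, y.2⟩
        ((mdatumAt hL hs y.1).coeff m) *
      X.presheaf.germ (mdatumAt hL hs y.1).W y.1 (mem_mdatumAt hL hs y.1) (mdatumAt hL hs y.1).b.1)
    (regGerm ⟨y.1, mem_mdatumAt hL hs y.1⟩ (mdatumAt hL hs y.1).a)

theorem ψval_eq_mk {U : X.Opens} (m : Γ(L, U)) (d : MDatum L s) {N : X.Opens} (hNd : N ≤ d.W)
    (hNU : N ≤ U) (y : N) (r : Γ(X, N)) (hr : mres L hNU m = r • mres L hNd d.τ) :
    ψval hL hs m ⟨y.1, hNU y.2⟩ =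
      LocalizedModule.mk (X.presheaf.germ N y.1 y.2 r * X.presheaf.germ d.W y.1 (hNd y.2) d.b.1)
        (regGerm ⟨y.1, hNd y.2⟩ d.a) := by
  unfold ψval
  dsimp only
  set d₀ := mdatumAt hL hs y.1 with hd₀
  have hy₀ : y.1 ∈ d₀.W := mem_mdatumAt hL hs y.1
  have hN' : N ⊓ (d₀.W ⊓ U) ≤ d.W := inf_le_left.trans hNd
  have hN'₀ : N ⊓ (d₀.W ⊓ U) ≤ d₀.W := inf_le_right.trans inf_le_left
  have hyN' : y.1 ∈ N ⊓ (d₀.W ⊓ U) := ⟨y.2, hy₀, hNU y.2⟩
  have h1 : fres (inf_le_left : N ⊓ (d₀.W ⊓ U) ≤ N) r • mres L hN' d.τ =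
      fres (inf_le_right : N ⊓ (d₀.W ⊓ U) ≤ d₀.W ⊓ U) (d₀.coeff m) • mres L hN'₀ d₀.τ := by
    have e1 := congrArg (mres L (inf_le_left : N ⊓ (d₀.W ⊓ U) ≤ N)) hr
    have e2 := congrArg (mres L (inf_le_right : N ⊓ (d₀.W ⊓ U) ≤ d₀.W ⊓ U)) (d₀.coeff_spec m)
    rw [mres_smul, mres_mres, mres_mres] at e1 e2
    rw [← e1, e2]
  have h2 := d.cross hL d₀ hN' hN'₀ _ _ h1
  have h3 := congrArg (X.presheaf.germ (N ⊓ (d₀.W ⊓ U)) y.1 hyN') h2
  rw [map_mul, map_mul, map_mul, map_mul, germ_fres, germ_fres, germ_fres, germ_fres, germ_fres,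
    germ_fres] at h3
  rw [LocalizedModule.mk_eq]
  refine ⟨1, ?_⟩
  simp only [one_smul, Submonoid.smul_def, smul_eq_mul]
  linear_combination -h3

end PhiM

section PhiHomM

variable {L : X.Modules} {s : Γ(Mero.merMod L, ⊤)}
variable (hL : PicF.IsInvertible L) (hs : IsRegularMero L s)

theorem ψval_eq_coeff {U : X.Opens} (m : Γ(L, U)) (d : MDatum L s) (y : (d.W ⊓ U : X.Opens)) :
    ψval hL hs m ⟨y.1, y.2.2⟩ =
      LocalizedModule.mk (X.presheaf.germ (d.W ⊓ U) y.1 y.2 (d.coeff m) *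
          X.presheaf.germ d.W y.1 y.2.1 d.b.1)
        (regGerm ⟨y.1, y.2.1⟩ d.a) :=
  ψval_eq_mk hL hs m d inf_le_left inf_le_right y (d.coeff m) (d.coeff_spec m).symm

theorem kLoc_ψval {U : X.Opens} (m : Γ(L, U)) : (kLoc X).pred (fun y : U => ψval hL hs m y) := by
  intro x
  obtain ⟨d, hxd⟩ := exists_mdatum hL hs x.1
  refine ⟨d.W ⊓ U, ⟨hxd, x.2⟩, homOfLE inf_le_right, d.coeff m * fres inf_le_left d.b.1,
    ⟨fres inf_le_left d.a.1, regSub_res (homOfLE inf_le_left) d.a.2⟩, fun z => ?_⟩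
  refine (ψval_eq_coeff hL hs m d z).trans (mk_congr ?_ ?_)
  · rw [map_mul, germ_fres]
  · change X.presheaf.germ d.W z.1 z.2.1 d.a.1 =
      X.presheaf.germ (d.W ⊓ U) z.1 z.2 (fres (inf_le_left : d.W ⊓ U ≤ d.W) d.a.1)
    rw [germ_fres]

theorem divCond_ψval {U : X.Opens} (m : Γ(L, U)) (y : U) :
    DivCond (theDivM hL hs) y.1 (ψval hL hs m y) := by
  obtain ⟨d, hyd⟩ := exists_mdatum hL hs y.1
  refine divCond_of_mul_mem (theDivM hL hs) d.unit (theDivM_eq_germOf hL hs d) ⟨y.1, hyd⟩ ?_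
  have e : ψval hL hs m y * d.unit.1.1 ⟨y.1, hyd⟩ =
      LocalizedModule.mk (X.presheaf.germ (d.W ⊓ U) y.1 ⟨hyd, y.2⟩ (d.coeff m)) 1 := by
    rw [ψval_eq_coeff hL hs m d ⟨y.1, hyd, y.2⟩, d.unit_apply]
    refine LocalizedModule.mk_mul_mk.trans ?_
    rw [LocalizedModule.mk_eq]
    refine ⟨1, ?_⟩
    simp only [one_smul, Submonoid.smul_def, smul_eq_mul, Submonoid.coe_mul]
    ring
  exact ⟨_, e.symm⟩

/-- the map `L(U) → O_X(D)(U)`. -/
noncomputable def ψfun (U : X.Opens) (m : Γ(L, U)) : Γ(divMod (theDivM hL hs), U) :=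
  ⟨fun y => ψval hL hs m y, ⟨kLoc_ψval hL hs m, fun y => divCond_ψval hL hs m y⟩⟩

theorem ψfun_apply (U : X.Opens) (m : Γ(L, U)) (y : U) : (ψfun hL hs U m).1 y = ψval hL hs m y := rfl

theorem ψval_add {U : X.Opens} (m m' : Γ(L, U)) (y : U) :
    ψval hL hs (m + m') y = ψval hL hs m y + ψval hL hs m' y := by
  obtain ⟨d, hyd⟩ := exists_mdatum hL hs y.1
  have h1 : mres L (inf_le_right : d.W ⊓ U ≤ U) (m + m') =
      (d.coeff m + d.coeff m') • mres L inf_le_left d.τ := by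
    rw [map_add, add_smul, d.coeff_spec, d.coeff_spec]
  rw [ψval_eq_mk hL hs (m + m') d inf_le_left inf_le_right ⟨y.1, hyd, y.2⟩ _ h1,
    ψval_eq_coeff hL hs m d ⟨y.1, hyd, y.2⟩, ψval_eq_coeff hL hs m' d ⟨y.1, hyd, y.2⟩, map_add,
    add_mul]
  exact (Localization.add_mk_self _ _ _).symm

theorem ψval_smul {U : X.Opens} (c : Γ(X, U)) (m : Γ(L, U)) (y : U) :
    ψval hL hs (c • m) y = X.presheaf.germ U y.1 y.2 c • ψval hL hs m y := by
  obtain ⟨d, hyd⟩ := exists_mdatum hL hs y.1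
  have h1 : mres L (inf_le_right : d.W ⊓ U ≤ U) (c • m) =
      (fres inf_le_right c * d.coeff m) • mres L inf_le_left d.τ := by
    rw [mres_smul, mul_smul, d.coeff_spec]
  rw [ψval_eq_mk hL hs (c • m) d inf_le_left inf_le_right ⟨y.1, hyd, y.2⟩ _ h1,
    ψval_eq_coeff hL hs m d ⟨y.1, hyd, y.2⟩, map_mul, germ_fres, LocalizedModule.smul'_mk, mul_assoc]
  rfl

theorem ψval_res {U V : X.Opens} (h : V ≤ U) (m : Γ(L, U)) (y : V) :
    ψval hL hs (mres L h m) y = ψval hL hs m ⟨y.1, h y.2⟩ := by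
  obtain ⟨d, hyd⟩ := exists_mdatum hL hs y.1
  have h1 : mres L ((inf_le_right : d.W ⊓ V ≤ V).trans h) m =
      d.coeff (mres L h m) • mres L inf_le_left d.τ := by
    rw [d.coeff_spec, mres_mres]
  rw [ψval_eq_coeff hL hs (mres L h m) d ⟨y.1, hyd, y.2⟩]
  exact (ψval_eq_mk hL hs m d inf_le_left ((inf_le_right : d.W ⊓ V ≤ V).trans h)
    ⟨y.1, hyd, y.2⟩ _ h1).symm

end PhiHomM

section PhiMorM

variable {L : X.Modules} {s : Γ(Mero.merMod L, ⊤)}
variable (hL : PicF.IsInvertible L) (hs : IsRegularMero L s)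

/-- the additive map `L(U) → O_X(D)(U)`. -/
noncomputable def ψadd (U : X.Opens) : Γ(L, U) →+ Γ(divMod (theDivM hL hs), U) :=
  AddMonoidHom.mk' (ψfun hL hs U) (fun m m' => Subtype.ext (funext fun y => ψval_add hL hs m m' y))

theorem ψadd_apply (U : X.Opens) (m : Γ(L, U)) (y : U) : (ψadd hL hs U m).1 y = ψval hL hs m y := rfl

/-- the morphism `L ⟶ O_X(D)`, `m ↦ m/s`. -/
noncomputable def ψ : L ⟶ divMod (theDivM hL hs) :=
  ⟨PresheafOfModules.homMk (M₁ := L.val) (M₂ := (divMod (theDivM hL hs)).val)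
    { app := fun U => AddCommGrpCat.ofHom (ψadd hL hs U.unop)
      naturality := fun {U V} i => by
        ext m
        refine Subtype.ext (funext fun y => ?_)
        exact ψval_res hL hs (V := V.unop) (U := U.unop) i.unop.le m y }
    (fun U r m => Subtype.ext (funext fun y => ψval_smul hL hs r m y))⟩

theorem ψ_app (U : X.Opens) (m : Γ(L, U)) : (ψ hL hs).app U m = ψadd hL hs U m := rfl

/-- `ψ` sends the basis `τ` to the basis `b/a`. -/
theorem ψ_app_basis (d : MDatum L s) {U : X.Opens} (hUle : U ≤ d.W) :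
    (ψ hL hs).app U (mres L hUle d.τ) =
      mres (divMod (theDivM hL hs)) hUle
        (invSec (theDivM hL hs) d.unit (theDivM_eq_germOf hL hs d)) := by
  refine Subtype.ext (funext fun y => ?_)
  have h1 : mres L (le_refl U) (mres L hUle d.τ) = (1 : Γ(X, U)) • mres L hUle d.τ := by
    rw [mres_self, one_smul]
  have h2 := ψval_eq_mk hL hs (mres L hUle d.τ) d hUle (le_refl U) y 1 h1
  refine h2.trans ?_
  refine Eq.trans ?_ (d.unit_inv_apply ⟨y.1, hUle y.2⟩).symm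
  exact mk_congr (by rw [map_one, one_mul]) rfl

theorem isIso_ψ : IsIso (ψ hL hs) := by
  have := isQuasicoherent_of_isInvertible hL
  have := isQuasicoherent_of_isInvertible (isInvertible_divMod (theDivM hL hs))
  apply Groth.Agent.Lib.Helper42.isIso_of_app_bijective_of_cover
  intro x
  obtain ⟨d, hxd⟩ := exists_mdatum hL hs x
  obtain ⟨U, hU, hxU, hUle⟩ := (Opens.isBasis_iff_nbhd.mp X.isBasis_affineOpens) hxd
  refine ⟨U, hU, hxU, ?_⟩
  have hb := d.hτ.mono hUle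
  have hb' := (isBasisOn_invSec (theDivM hL hs) d.unit (theDivM_eq_germOf hL hs d)).mono hUle
  have key : ∀ r : Γ(X, U), (ψ hL hs).app U (r • mres L hUle d.τ) =
      r • mres (divMod (theDivM hL hs)) hUle
        (invSec (theDivM hL hs) d.unit (theDivM_eq_germOf hL hs d)) := by
    intro r
    rw [Scheme.Modules.Hom.app_smul, ψ_app_basis]
  constructor
  · intro m m' hmm'
    obtain ⟨r, rfl⟩ := hb.exists_eq_smul m
    obtain ⟨r', rfl⟩ := hb.exists_eq_smul m'
    rw [key, key] at hmm'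
    rw [hb'.eq_of_smul_eq hmm']
  · intro t
    obtain ⟨r, rfl⟩ := hb'.exists_eq_smul t
    exact ⟨r • mres L hUle d.τ, key r⟩

/-- **Main theorem**: an invertible module with a regular meromorphic section is `O_X(D)`. -/
theorem exists_iso_divMod_of_isRegularMero (hL : PicF.IsInvertible L) (hs : IsRegularMero L s) :
    ∃ D : Divisor X, Nonempty (L ≅ divMod D) :=
  haveI := isIso_ψ hL hs
  ⟨theDivM hL hs, ⟨asIso (ψ hL hs)⟩⟩

end PhiMorM

end Groth.Agent.Lib.Helper97.MeroLib
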