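import Groth.Agent.Lib.Helper97.MeroNoeth
import Groth.Agent.Lib.Helper97.MeroDivM

/-! Helper library (helper97): on a locally Noetherian scheme whose associated points lie in one
affine open, every invertible module has a regular meromorphic section. -/

set_option autoImplicit false
universe u
open CategoryTheory AlgebraicGeometry TopologicalSpace Opposite
open Groth.Agent.Lib.Helper45 Groth.Agent.Lib.Helper49 Groth.Agent.Lib.Helper11.GenLocus

namespace Groth.Agent.Lib.Helper97.MeroLib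

open Mero ZeroScheme

variable {X : Scheme.{u}} {L : X.Modules}

section GenAt

/-- `m` is a basis of `L` near `η`. -/
def GenAt (L : X.Modules) {W : X.Opens} (m : Γ(L, W)) (η : X) : Prop :=
  ∃ (N : X.Opens) (hN : N ≤ W), η ∈ N ∧ IsBasisOn L N (mres L hN m)

theorem GenAt.of_specializes {W : X.Opens} {m : Γ(L, W)} {η ζ : X} (h : GenAt L m η)
    (hsp : ζ ⤳ η) : GenAt L m ζ := by
  obtain ⟨N, hN, hηN, hb⟩ := h
  exact ⟨N, hN, hsp.mem_open N.2 hηN, hb⟩

theorem isUnit_fres_basicOpen {N : X.Opens} (c : Γ(X, N)) : IsUnit (fres (X.basicOpen_le c) c) :=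
  RingedSpace.isUnit_res_basicOpen X.toRingedSpace c

theorem genAt_of_isUnit_coeff {W N : X.Opens} (hN : N ≤ W) {β : Γ(L, N)} (hβ : IsBasisOn L N β)
    (m : Γ(L, W)) (c : Γ(X, N)) (hc : mres L hN m = c • β) {η : X} (hηN : η ∈ N)
    (hu : IsUnit (X.presheaf.germ N η hηN c)) : GenAt L m η := by
  refine ⟨X.basicOpen c, (X.basicOpen_le c).trans hN, (X.mem_basicOpen c η hηN).mpr hu, ?_⟩
  have h1 : mres L ((X.basicOpen_le c).trans hN) m =
      fres (X.basicOpen_le c) c • mres L (X.basicOpen_le c) β := by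
    rw [← mres_mres L (X.basicOpen_le c) hN, hc, mres_smul]
  rw [h1]
  exact (hβ.mono _).smul_unit _ (isUnit_fres_basicOpen c)

theorem isUnit_add_of_mem_maximalIdeal {R : Type*} [CommRing R] [IsLocalRing R] {a b : R}
    (ha : IsUnit a) (hb : b ∈ IsLocalRing.maximalIdeal R) : IsUnit (a + b) := by
  by_contra h
  have h1 : a + b ∈ IsLocalRing.maximalIdeal R := (IsLocalRing.mem_maximalIdeal _).mpr h
  have h2 : a ∈ IsLocalRing.maximalIdeal R := by
    have := Ideal.sub_mem _ h1 hb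
    simpa using this
  exact (IsLocalRing.mem_maximalIdeal _).mp h2 ha

end GenAt

section Step1

variable [IsLocallyNoetherian X]

/-- every associated point in `W` specialises to a most special associated point of `W`. -/
theorem exists_most_special {W : X.Opens} (hW : IsAffineOpen W) {ζ : X} (hζW : ζ ∈ W)
    (hζ : AssPt ζ) :
    ∃ η : X, (η ∈ W ∧ AssPt η) ∧ (∀ ξ : X, ξ ∈ W ∧ AssPt ξ → η ⤳ ξ → ξ = η) ∧ ζ ⤳ η := by
  have : IsNoetherianRing Γ(X, W) := IsLocallyNoetherian.component_noetherian ⟨W, hW⟩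
  have hfin := finite_assPt hW
  let _ := specializationPreorder X
  obtain ⟨b, hba, hmin⟩ := hfin.exists_le_minimal (a := ζ) ⟨hζW, hζ⟩
  refine ⟨b, hmin.1, fun ξ hξ hsp => ?_, hba⟩
  have h1 : b ≤ ξ := hmin.2 hξ hsp
  exact (Specializes.antisymm h1 hsp).eq

theorem exists_genAt_section (hL : PicF.IsInvertible L) {W : X.Opens} (hW : IsAffineOpen W)
    (hall : ∀ x : X, AssPt x → x ∈ W) : ∃ m : Γ(L, W), ∀ η : X, AssPt η → GenAt L m η := by
  classical
  have : IsNoetherianRing Γ(X, W) := IsLocallyNoetherian.component_noetherian ⟨W, hW⟩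
  have := isQuasicoherent_of_isInvertible hL
  have hfin := finite_assPt hW
  let T : X → Prop := fun η => (η ∈ W ∧ AssPt η) ∧ ∀ ξ : X, ξ ∈ W ∧ AssPt ξ → η ⤳ ξ → ξ = η
  have hTfin : {η : X | η ∈ W ∧ T η}.Finite := hfin.subset (fun η hη => hη.2.1)
  -- local data
  have hloc : ∀ η : X, T η → ∃ (f : Γ(X, W)) (mη : Γ(L, W)), η ∈ X.basicOpen f ∧
      IsBasisOn L (X.basicOpen f) (mres L (X.basicOpen_le f) mη) := by
    intro η hη
    obtain ⟨W', hηW', τ, hτ⟩ := exists_isBasisOn_of_isInvertible hL η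
    obtain ⟨f, hfle, hηf⟩ := hW.exists_basicOpen_le (V := W ⊓ W') ⟨η, hη.1.1, hηW'⟩ hη.1.1
    obtain ⟨n, mη, hmη⟩ := exists_restrict_eq_pow_smul_of_qcqs L hW.isCompact hW.isQuasiSeparated f
      (mres L (hfle.trans inf_le_right) τ)
    refine ⟨f, mη, hηf, ?_⟩
    rw [hmη]
    exact (hτ.mono _).smul_unit _ ((isUnit_fres_basicOpen f).pow n)
  choose! f mm hf hmm using hloc
  have hsep : ∀ η : X, T η → ∃ δ : Γ(X, W), η ∈ X.basicOpen δ ∧
      ∀ ζ : X, ζ ∈ W → T ζ → ζ ≠ η → ζ ∉ X.basicOpen δ := by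
    intro η hη
    exact exists_sep_of_finite (P := T) hW hTfin hη.1.1
      (fun ζ _ hζ hmem => (hζ.2 η hη.1 (specializes_iff_mem_closure.mpr hmem)).symm)
  choose! δ hδ1 hδ2 using hsep
  refine ⟨∑ η ∈ hTfin.toFinset, δ η • mm η, ?_⟩
  have hT : ∀ η : X, T η → GenAt L (∑ η ∈ hTfin.toFinset, δ η • mm η) η := by
    intro η hη
    have hN : X.basicOpen (f η) ≤ W := X.basicOpen_le _
    have hβ := hmm η hη
    have hco : ∀ ζ : X, ∃ c : Γ(X, X.basicOpen (f η)),
        mres L hN (mm ζ) = c • mres L hN (mm η) :=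
      fun ζ => (hβ.exists_eq_smul _).imp (fun c hc => hc.symm)
    choose cc hcc using hco
    have hcη : cc η = 1 := hβ.eq_of_smul_eq (by rw [← hcc η, one_smul])
    have hηmem : η ∈ hTfin.toFinset := hTfin.mem_toFinset.mpr ⟨hη.1.1, hη⟩
    apply genAt_of_isUnit_coeff hN hβ _ (∑ ζ ∈ hTfin.toFinset, fres hN (δ ζ) * cc ζ) ?_ (hf η hη) ?_
    · rw [map_sum, Finset.sum_smul]
      refine Finset.sum_congr rfl (fun ζ _ => ?_)
      rw [mres_smul, hcc ζ, smul_smul]
    · rw [map_sum, ← Finset.add_sum_erase _ _ hηmem]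
      apply isUnit_add_of_mem_maximalIdeal
      · rw [hcη, mul_one, germ_fres]
        exact (X.mem_basicOpen (δ η) η hη.1.1).mp (hδ1 η hη)
      · apply Ideal.sum_mem
        intro ζ hζ
        rw [map_mul]
        apply Ideal.mul_mem_right
        rw [germ_fres, IsLocalRing.mem_maximalIdeal, mem_nonunits_iff]
        intro hunit
        have hζT := (hTfin.mem_toFinset.mp (Finset.mem_of_mem_erase hζ))
        exact hδ2 ζ hζT.2 η hη.1.1 hη (Finset.ne_of_mem_erase hζ).symm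
          ((X.mem_basicOpen (δ ζ) η hη.1.1).mpr hunit)
  intro ζ hζ
  obtain ⟨η, hη1, hη2, hsp⟩ := exists_most_special hW (hall ζ hζ) hζ
  exact (hT η ⟨hη1, hη2⟩).of_specializes hsp

end Step1

section Step2

variable [IsLocallyNoetherian X]

/-- the ideal of functions on `U` whose non-vanishing locus lies in `W`. -/
def nvIdeal (U W : X.Opens) : Ideal Γ(X, U) where
  carrier := {f | X.basicOpen f ≤ W}
  add_mem' {f g} hf hg := (X.basicOpen_add_le (f := f) (g := g)).trans (sup_le hf hg)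
  zero_mem' := by
    change X.basicOpen (0 : Γ(X, U)) ≤ W
    rw [X.basicOpen_zero]
    exact bot_le
  smul_mem' c f hf := by
    change X.basicOpen (c * f) ≤ W
    rw [X.basicOpen_mul]
    exact inf_le_right.trans hf

theorem exists_regular_basicOpen_le {U W : X.Opens} (hU : IsAffineOpen U)
    (hall : ∀ x : X, AssPt x → x ∈ W) :
    ∃ b₀ : Γ(X, U), X.basicOpen b₀ ≤ W ∧
      ∀ (η : X) (hηU : η ∈ U), AssPt η → IsUnit (X.presheaf.germ U η hηU b₀) := by
  have : IsNoetherianRing Γ(X, U) := IsLocallyNoetherian.component_noetherian ⟨U, hU⟩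
  have key : ¬ ((nvIdeal U W : Set Γ(X, U)) ⊆
      ⋃ p ∈ associatedPrimes Γ(X, U) Γ(X, U), ((id p : Ideal Γ(X, U)) : Set Γ(X, U))) := by
    rw [Ideal.subset_union_prime_finite (associatedPrimes.finite Γ(X, U) Γ(X, U)) (f := id) 0 0
      (fun _ h _ _ => h.1)]
    rintro ⟨p, hp, hle⟩
    obtain ⟨y, hy⟩ := exists_primeIdealOf_eq hU ⟨p, hp.1⟩
    have hass : AssPt y.1 := (assPt_iff hU y).mpr (by rw [hy]; exact hp)
    obtain ⟨f, hfle, hyf⟩ := hU.exists_basicOpen_le (V := U ⊓ W) ⟨y.1, y.2, hall y.1 hass⟩ y.2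
    have hfI : f ∈ nvIdeal U W := hfle.trans inf_le_right
    have hfp : f ∈ p := hle hfI
    exact (isUnit_germ_iff hU y f).mp ((X.mem_basicOpen f y.1 y.2).mp hyf) (by rw [hy]; exact hfp)
  rw [Set.not_subset] at key
  obtain ⟨b₀, hb₀I, hb₀⟩ := key
  refine ⟨b₀, hb₀I, fun η hηU hη => ?_⟩
  rw [isUnit_germ_iff hU ⟨η, hηU⟩]
  intro hmem
  apply hb₀
  simp only [Set.mem_iUnion]
  exact ⟨_, (assPt_iff hU ⟨η, hηU⟩).mp hη, hmem⟩

theorem exists_tdatum_of_genAt (hL : PicF.IsInvertible L) {W : X.Opens}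
    (hall : ∀ x : X, AssPt x → x ∈ W) (m : Γ(L, W)) (hm : ∀ η : X, AssPt η → GenAt L m η) (x : X) :
    ∃ d : TDatum L AssPt (fun _ => W) (fun η hη => hall η hη) (fun _ => m), x ∈ d.U := by
  obtain ⟨W₀, hxW₀, t₀, ht₀⟩ := exists_isBasisOn_of_isInvertible hL x
  obtain ⟨U, hU, hxU, hUW₀⟩ := (Opens.isBasis_iff_nbhd.mp X.isBasis_affineOpens) hxW₀
  have ht := ht₀.mono hUW₀
  obtain ⟨b₀, hb₀W, hb₀u⟩ := exists_regular_basicOpen_le (W := W) hU hall
  have hDU : X.basicOpen b₀ ≤ U := X.basicOpen_le b₀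
  obtain ⟨c, hc⟩ := (ht.mono hDU).exists_eq_smul (mres L hb₀W m)
  have := hU.isLocalization_basicOpen b₀
  obtain ⟨k, a, ha⟩ := IsLocalization.Away.surj b₀ c
  have ha' : c * fres hDU b₀ ^ k = fres hDU a := ha
  have hcu : ∀ (η : X) (hηD : η ∈ X.basicOpen b₀), AssPt η →
      IsUnit (X.presheaf.germ (X.basicOpen b₀) η hηD c) := by
    intro η hηD hη
    obtain ⟨N, hN, hηN, hbN⟩ := hm η hη
    have h1 : IsBasisOn L (N ⊓ X.basicOpen b₀) (mres L (inf_le_left.trans hN) m) := by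
      have := hbN.mono (inf_le_left : N ⊓ X.basicOpen b₀ ≤ N)
      rwa [mres_mres] at this
    have h2 : mres L ((inf_le_left : N ⊓ X.basicOpen b₀ ≤ N).trans hN) m =
        fres (inf_le_right : N ⊓ X.basicOpen b₀ ≤ X.basicOpen b₀) c •
          mres L inf_le_right (mres L hDU (mres L hUW₀ t₀)) := by
      rw [← mres_smul, hc, mres_mres]
    have h3 := isUnit_of_isBasisOn_smul ((ht.mono hDU).mono inf_le_right)
      (fres (inf_le_right : N ⊓ X.basicOpen b₀ ≤ X.basicOpen b₀) c) (by rw [← h2]; exact h1)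
    rw [← germ_fres (inf_le_right : N ⊓ X.basicOpen b₀ ≤ X.basicOpen b₀) η ⟨hηN, hηD⟩ c]
    exact h3.map _
  have hηD : ∀ (η : X) (hηU : η ∈ U), AssPt η → η ∈ X.basicOpen b₀ :=
    fun η hηU hη => (X.mem_basicOpen b₀ η hηU).mpr (hb₀u η hηU hη)
  have hau : ∀ (η : X) (hηU : η ∈ U), AssPt η → IsUnit (X.presheaf.germ U η hηU a) := by
    intro η hηU hη
    have hD := hηD η hηU hη
    rw [← germ_fres hDU η hD a, ← ha', map_mul, map_pow, germ_fres]
    exact (hcu η hD hη).mul ((hb₀u η hηU hη).pow k)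
  have haR : a ∈ regSub X U := mem_regSub_of_isUnit_germ detects_assPt a hau
  have hbR : b₀ ^ k ∈ regSub X U := mem_regSub_of_isUnit_germ detects_assPt _
    (fun η hηU hη => by rw [map_pow]; exact (hb₀u η hηU hη).pow k)
  refine ⟨⟨U, _, ⟨a, haR⟩, ⟨b₀ ^ k, hbR⟩, ht, fun η hηU hP => ?_⟩, hxU⟩
  have hD := hηD η hηU hP
  change X.presheaf.germ U η hηU a • L.presheaf.germ U η hηU (mres L hUW₀ t₀) =
    X.presheaf.germ U η hηU (b₀ ^ k) • L.presheaf.germ W η (hall η hP) m
  rw [← germ_fres hDU η hD a, ← ha', ← germ_mres hb₀W η hD m, ← hc,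
    ← germ_mres hDU η hD (mres L hUW₀ t₀), ← germ_fres hDU η hD (b₀ ^ k), ← Mero.germ_smul,
    ← Mero.germ_smul, smul_smul, map_pow, mul_comm]

/-- **Main theorem**: on a locally Noetherian scheme whose associated points lie in an affine open,
every invertible module has a regular meromorphic section. -/
theorem hasRegularMero_of_assPt_affine (hL : PicF.IsInvertible L) {W : X.Opens}
    (hW : IsAffineOpen W) (hall : ∀ x : X, AssPt x → x ∈ W) : HasRegularMero L := by
  obtain ⟨m, hm⟩ := exists_genAt_section hL hW hall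
  exact hasRegularMero_of_tdatum (P := AssPt) (W := fun _ => W) (hW := fun η hη => hall η hη)
    (τ := fun _ => m) detects_assPt (exists_tdatum_of_genAt hL hall m hm)

end Step2

end Groth.Agent.Lib.Helper97.MeroLib
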