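import Groth.Agent.Lib.Helper97.MeroNoeth

/-! Helper library (helper97): Cartier divisors on "absolute curves" (Noetherian schemes whose local
rings at closed points are one-dimensional): germs of divisors at non-closed points are trivial,
the support of a unit of `K_X` is locally a finite set of closed points. -/

set_option autoImplicit false
universe u
open CategoryTheory AlgebraicGeometry TopologicalSpace Opposite
open Groth.Agent.Lib.Helper45 Groth.Agent.Lib.Helper49 Groth.Agent.Lib.Helper11.GenLocus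

namespace Groth.Agent.Lib.Helper97.MeroLib

open Mero ZeroScheme

variable {X : Scheme.{u}}

section Sat

theorem mem_regSub_of_mul_mem {N : X.Opens} {a c : Γ(X, N)} (h : a * c ∈ regSub X N) :
    a ∈ regSub X N := fun y => by
  have h1 := h y
  change X.presheaf.germ N y.1 y.2 (a * c) ∈ _ at h1
  rw [map_mul] at h1
  exact (mul_mem_nonZeroDivisors.mp h1).1

/-- a section whose germ at `x` is the germ of a regular section is regular near `x`. -/
theorem exists_regSub_of_germ_mem {V : X.Opens} (a : Γ(X, V)) (x : X) (hx : x ∈ V)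
    (h : X.presheaf.germ V x hx a ∈ regStalk X x) :
    ∃ (N : X.Opens) (hN : N ≤ V), x ∈ N ∧ fres hN a ∈ regSub X N := by
  obtain ⟨W, hxW, r, hr, hrx⟩ := h
  have hx' : x ∈ V ⊓ W := ⟨hx, hxW⟩
  have e : X.presheaf.germ (V ⊓ W) x hx' (fres inf_le_left a) =
      X.presheaf.germ (V ⊓ W) x hx' (fres inf_le_right r) := by
    rw [germ_fres, germ_fres, hrx]
  obtain ⟨N, hxN, iU, iV, hUV⟩ := TopCat.Presheaf.germ_eq X.presheaf x hx' hx' _ _ e
  refine ⟨N, iU.le.trans inf_le_left, hxN, ?_⟩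
  have h1 : fres iU.le (fres inf_le_left a) = fres iU.le (fres inf_le_right r) := hUV
  rw [fres_fres, fres_fres] at h1
  rw [h1]
  exact regSub_res (homOfLE (iU.le.trans inf_le_right)) hr

/-- the stalk monoid `S_x` is saturated. -/
theorem mem_regStalk_of_mul_mem {x : X} {α γ : X.presheaf.stalk x} (h : α * γ ∈ regStalk X x) :
    α ∈ regStalk X x := by
  obtain ⟨W₁, hx₁, a₁, ha₁⟩ := TopCat.Presheaf.exists_germ_eq X.presheaf α
  obtain ⟨W₂, hx₂, c₁, hc₁⟩ := TopCat.Presheaf.exists_germ_eq X.presheaf γ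
  have hx' : x ∈ W₁ ⊓ W₂ := ⟨hx₁, hx₂⟩
  have h2 : X.presheaf.germ (W₁ ⊓ W₂) x hx' (fres inf_le_left a₁ * fres inf_le_right c₁) ∈
      regStalk X x := by
    rw [map_mul, germ_fres, germ_fres, ha₁, hc₁]
    exact h
  obtain ⟨N, hN, hxN, hreg⟩ := exists_regSub_of_germ_mem _ x hx' h2
  rw [map_mul] at hreg
  refine ⟨N, hxN, fres hN (fres inf_le_left a₁), mem_regSub_of_mul_mem hreg, ?_⟩
  rw [germ_fres, germ_fres, ha₁]

/-- if `α/β` is a unit of `K_{X,x}` then `α ∈ S_x`. -/
theorem mem_regStalk_of_isUnit_mk {x : X} {α : X.presheaf.stalk x} {β : regStalk X x}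
    (h : IsUnit (LocalizedModule.mk α β : KStalk X x)) : α ∈ regStalk X x := by
  obtain ⟨q, hq⟩ := h
  have h1 : (LocalizedModule.mk α β : KStalk X x) * (q⁻¹ : (KStalk X x)ˣ).1 = 1 := by
    rw [← hq]; exact q.mul_inv
  induction' hq' : (q⁻¹ : (KStalk X x)ˣ).1 using LocalizedModule.induction_on with γ δ
  rw [hq'] at h1
  have e : (LocalizedModule.mk α β : KStalk X x) * LocalizedModule.mk γ δ =
      LocalizedModule.mk (α * γ) (β * δ) := LocalizedModule.mk_mul_mk
  have h2 : (LocalizedModule.mk (α * γ) (β * δ) : KStalk X x) = LocalizedModule.mk 1 1 :=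
    e.symm.trans (h1.trans (mk_self_eq_one 1).symm)
  obtain ⟨u, hu⟩ := LocalizedModule.mk_eq.mp h2
  simp only [Submonoid.smul_def, smul_eq_mul, OneMemClass.coe_one, one_mul, mul_one] at hu
  have h3 : α * γ = ((β * δ : regStalk X x) : X.presheaf.stalk x) :=
    (mul_cancel_left_mem_nonZeroDivisors (regStalk_le_nonZeroDivisors x u.2)).mp hu
  apply mem_regStalk_of_mul_mem (γ := γ)
  rw [h3]
  exact (β * δ).2

/-- every unit of `K_{X,x}` is `a_x / b_x` with `a`, `b` regular on a neighbourhood of `x`. -/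
theorem exists_regSub_mk_eq (x : X) (q : (KStalk X x)ˣ) :
    ∃ (W : X.Opens) (hx : x ∈ W) (a b : regSub X W),
      q.1 = LocalizedModule.mk (X.presheaf.germ W x hx a.1) (regGerm ⟨x, hx⟩ b) := by
  induction' hq : q.1 using LocalizedModule.induction_on with α β
  have hα : α ∈ regStalk X x := mem_regStalk_of_isUnit_mk (β := β) (by rw [← hq]; exact q.isUnit)
  obtain ⟨W₁, hx₁, a₁, ha₁, ha₁x⟩ := hα
  obtain ⟨W₂, hx₂, b₁, hb₁, hb₁x⟩ := β.2
  refine ⟨W₁ ⊓ W₂, ⟨hx₁, hx₂⟩, ⟨fres inf_le_left a₁, regSub_res (homOfLE inf_le_left) ha₁⟩,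
    ⟨fres inf_le_right b₁, regSub_res (homOfLE inf_le_right) hb₁⟩, ?_⟩
  refine mk_congr ?_ ?_
  · rw [germ_fres, ha₁x]
  · change (β : X.presheaf.stalk x) = X.presheaf.germ (W₁ ⊓ W₂) x _ (fres inf_le_right b₁)
    rw [germ_fres, hb₁x]

end Sat

section Triv

/-- if `a_y`, `b_y` are units of `O_{X,y}` then the class of a unit with value `a_y/b_y` is trivial. -/
theorem mk_eq_one_of_isUnit {y : X} (q : (KStalk X y)ˣ) {α : X.presheaf.stalk y} {β : regStalk X y}
    (hq : q.1 = LocalizedModule.mk α β) (hα : IsUnit α) (hβ : IsUnit (β : X.presheaf.stalk y)) :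
    (QuotientGroup.mk q : Germ X y) = 1 := by
  rw [QuotientGroup.eq_one_iff]
  refine ⟨hα.unit * hβ.unit⁻¹, Units.ext ?_⟩
  rw [hq]
  change algebraMap (X.presheaf.stalk y) (KStalk X y) ((hα.unit * hβ.unit⁻¹ : (X.presheaf.stalk y)ˣ) :
    X.presheaf.stalk y) = _
  rw [algebraMap_eq_mk]
  refine LocalizedModule.mk_eq.mpr ⟨1, ?_⟩
  simp only [Submonoid.smul_def, smul_eq_mul, OneMemClass.coe_one, one_mul, Units.val_mul]
  rw [mul_comm (hα.unit : X.presheaf.stalk y), ← mul_assoc]
  have : (β : X.presheaf.stalk y) * ((hβ.unit⁻¹ : (X.presheaf.stalk y)ˣ) : X.presheaf.stalk y) = 1 :=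
    hβ.mul_val_inv
  rw [this, one_mul]
  rfl

/-- if every nonzerodivisor of `O_{X,x}` is a unit, then all germs of divisors at `x` are trivial. -/
theorem germ_eq_one_of_forall_isUnit {x : X}
    (h : ∀ a ∈ nonZeroDivisors (X.presheaf.stalk x), IsUnit a) (γ : Germ X x) : γ = 1 := by
  obtain ⟨q, rfl⟩ := QuotientGroup.mk_surjective γ
  induction' hq : q.1 using LocalizedModule.induction_on with α β
  have hα : α ∈ regStalk X x := mem_regStalk_of_isUnit_mk (β := β) (by rw [← hq]; exact q.isUnit)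
  exact mk_eq_one_of_isUnit q hq (h _ (regStalk_le_nonZeroDivisors x hα))
    (h _ (regStalk_le_nonZeroDivisors x β.2))

end Triv

section Ht

variable {U : X.Opens} (hU : IsAffineOpen U)
include hU

theorem ringKrullDim_stalk_eq_height (y : U) :
    ringKrullDim (X.presheaf.stalk y.1) = (hU.primeIdealOf y).asIdeal.height := by
  have := hU.isLocalization_stalk y
  exact IsLocalization.AtPrime.ringKrullDim_eq_height (hU.primeIdealOf y).asIdeal
    (X.presheaf.stalk y.1)

theorem krullDimLE_zero_stalk (y : U) (h : (hU.primeIdealOf y).asIdeal ∈ minimalPrimes Γ(X, U)) :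
    Ring.KrullDimLE 0 (X.presheaf.stalk y.1) := by
  have := hU.isLocalization_stalk y
  exact Ring.KrullDimLE.of_isLocalization (hU.primeIdealOf y).asIdeal h (X.presheaf.stalk y.1)

end Ht

section Curve

variable (hC : ∀ x : X, IsClosed ({x} : Set X) → ringKrullDim (X.presheaf.stalk x) = 1)
include hC

/-- at a non-closed point of an absolute curve, the local ring is zero-dimensional. -/
theorem krullDimLE_zero_of_not_isClosed [CompactSpace X] {x : X}
    (hx : ¬ IsClosed ({x} : Set X)) : Ring.KrullDimLE 0 (X.presheaf.stalk x) := by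
  obtain ⟨y, hy, hycl⟩ := (isClosed_closure (s := ({x} : Set X))).exists_closed_singleton
    ⟨x, subset_closure rfl⟩
  have hsp : x ⤳ y := specializes_iff_mem_closure.mpr hy
  have hne : x ≠ y := fun h => hx (h ▸ hycl)
  obtain ⟨U, hU, hyU, -⟩ := (Opens.isBasis_iff_nbhd.mp X.isBasis_affineOpens) (Opens.mem_top y)
  have hxU : x ∈ U := hsp.mem_open U.2 hyU
  have hle : (hU.primeIdealOf ⟨x, hxU⟩).asIdeal ≤ (hU.primeIdealOf ⟨y, hyU⟩).asIdeal := by
    intro f hf
    by_contra hfy
    have h1 : IsUnit (X.presheaf.germ U y hyU f) := (isUnit_germ_iff hU ⟨y, hyU⟩ f).mpr hfy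
    have h2 : y ∈ X.basicOpen f := (X.mem_basicOpen f y hyU).mpr h1
    have h3 : x ∈ X.basicOpen f := hsp.mem_open (X.basicOpen f).2 h2
    have h4 : IsUnit (X.presheaf.germ U x hxU f) := (X.mem_basicOpen f x hxU).mp h3
    exact (isUnit_germ_iff hU ⟨x, hxU⟩ f).mp h4 hf
  have hlt : (hU.primeIdealOf ⟨x, hxU⟩).asIdeal < (hU.primeIdealOf ⟨y, hyU⟩).asIdeal := by
    refine lt_of_le_of_ne hle fun h => hne ?_
    have := primeIdealOf_injective hU (PrimeSpectrum.ext h)
    exact congrArg Subtype.val this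
  have hht : (hU.primeIdealOf ⟨y, hyU⟩).asIdeal.height = 1 := by
    have h1 := ringKrullDim_stalk_eq_height hU ⟨y, hyU⟩
    have h2 : ringKrullDim (X.presheaf.stalk (⟨y, hyU⟩ : U).1) = 1 := hC y hycl
    rw [h2] at h1
    exact_mod_cast h1.symm
  have : (hU.primeIdealOf ⟨y, hyU⟩).asIdeal.FiniteHeight :=
    ⟨Or.inr (by rw [hht]; exact ENat.one_ne_top)⟩
  have h0 : (hU.primeIdealOf ⟨x, hxU⟩).asIdeal.height = 0 := by
    have := Ideal.height_strict_mono_of_isPrime_of_isPrime hlt
    rw [hht] at this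
    exact Order.lt_one_iff.mp this
  have hmin := Ideal.height_eq_zero_iff.mp h0
  exact krullDimLE_zero_stalk hU ⟨x, hxU⟩ hmin

/-- at a non-closed point of an absolute curve, nonzerodivisors of the local ring are units. -/
theorem isUnit_of_mem_nonZeroDivisors_of_not_isClosed [CompactSpace X] {x : X}
    (hx : ¬ IsClosed ({x} : Set X)) {a : X.presheaf.stalk x}
    (ha : a ∈ nonZeroDivisors (X.presheaf.stalk x)) : IsUnit a := by
  have : Ring.KrullDimLE 0 (X.presheaf.stalk x) := krullDimLE_zero_of_not_isClosed hC hx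
  by_contra hnu
  have hnil : IsNilpotent a := Ring.KrullDimLE.isNilpotent_iff_mem_maximalIdeal.mpr hnu
  obtain ⟨n, hn⟩ := hnil
  have h1 : a ^ n ∈ nonZeroDivisors (X.presheaf.stalk x) := pow_mem ha n
  rw [hn] at h1
  exact zero_notMem_nonZeroDivisors h1

theorem germ_eq_one_of_not_isClosed [CompactSpace X] {x : X} (hx : ¬ IsClosed ({x} : Set X))
    (γ : Germ X x) : γ = 1 :=
  germ_eq_one_of_forall_isUnit (fun _ ha => isUnit_of_mem_nonZeroDivisors_of_not_isClosed hC hx ha) γ

/-- the non-unit locus of a regular function on an affine open of an absolute curve is finite. -/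
theorem finite_nonunit_locus [CompactSpace X] {N : X.Opens} (hN : IsAffineOpen N)
    [IsNoetherianRing Γ(X, N)] (a : Γ(X, N)) (ha : a ∈ regSub X N) :
    {y : X | ∃ h : y ∈ N, ¬ IsUnit (X.presheaf.germ N y h a)}.Finite := by
  have hcl : ∀ w : N, ¬ IsUnit (X.presheaf.germ N w.1 w.2 a) → IsClosed ({w.1} : Set X) := by
    intro w hw
    by_contra hncl
    exact hw (isUnit_of_mem_nonZeroDivisors_of_not_isClosed hC hncl (ha w))
  have h1 : {y : N | ¬ IsUnit (X.presheaf.germ N y.1 y.2 a)}.Finite := by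
    apply Set.Finite.of_finite_image (f := fun ζ : N => (hN.primeIdealOf ζ).asIdeal)
    · apply (Ideal.finite_minimalPrimes_of_isNoetherianRing Γ(X, N) (Ideal.span {a})).subset
      rintro _ ⟨y, hy, rfl⟩
      have hay : a ∈ (hN.primeIdealOf y).asIdeal := by
        by_contra h
        exact hy ((isUnit_germ_iff hN y a).mpr h)
      obtain ⟨p, hp, hple⟩ := Ideal.exists_minimalPrimes_le
        (show Ideal.span {a} ≤ (hN.primeIdealOf y).asIdeal from
          (Ideal.span_singleton_le_iff_mem _).mpr hay)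
      obtain ⟨w, hw⟩ := exists_primeIdealOf_eq hN ⟨p, hp.1.1⟩
      have haw : ¬ IsUnit (X.presheaf.germ N w.1 w.2 a) := by
        rw [isUnit_germ_iff hN w a, not_not, hw]
        exact hp.1.2 (Ideal.subset_span rfl)
      have hsp : w.1 ⤳ y.1 := specializes_of_primeIdealOf_le hN y w (by rw [hw]; exact hple)
      have hyw : y.1 ∈ closure ({w.1} : Set X) := specializes_iff_mem_closure.mp hsp
      rw [(hcl w haw).closure_eq] at hyw
      have : y = w := Subtype.ext hyw
      change (hN.primeIdealOf y).asIdeal ∈ _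
      rw [this, hw]
      exact hp
    · intro y _ z _ h
      exact primeIdealOf_injective hN (PrimeSpectrum.ext h)
  apply (h1.image Subtype.val).subset
  rintro y ⟨hyN, hy⟩
  exact ⟨⟨y, hyN⟩, hy, rfl⟩

/-- a unit of `K_X` has trivial germs of divisor outside a finite set, locally. -/
theorem exists_finite_support [IsNoetherian X] {U : X.Opens} (f : (Γ(kmod X, U))ˣ) (x : X)
    (hx : x ∈ U) :
    ∃ (N : X.Opens) (hN : N ≤ U), x ∈ N ∧ {y : X | ∃ h : y ∈ N, germOf f ⟨y, hN h⟩ ≠ 1}.Finite := by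
  obtain ⟨V, hxV, i, a, b, hab⟩ := f.1.2 ⟨x, hx⟩
  have hux : IsUnit (LocalizedModule.mk (X.presheaf.germ V x hxV a) (regGerm ⟨x, hxV⟩ b) :
      KStalk X x) := by
    have h1 := hab ⟨x, hxV⟩
    dsimp only at h1
    rw [← h1]
    exact ⟨Units.map (evalK X U ⟨x, hx⟩).toMonoidHom f, rfl⟩
  have hax := mem_regStalk_of_isUnit_mk hux
  obtain ⟨N₁, hN₁, hxN₁, hreg⟩ := exists_regSub_of_germ_mem a x hxV hax
  obtain ⟨N, hNaff, hxN, hNN₁⟩ := (Opens.isBasis_iff_nbhd.mp X.isBasis_affineOpens) hxN₁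
  have : IsNoetherianRing Γ(X, N) := IsLocallyNoetherian.component_noetherian ⟨N, hNaff⟩
  have hNV : N ≤ V := hNN₁.trans hN₁
  refine ⟨N, hNV.trans i.le, hxN, ?_⟩
  have ha' : fres hNV a ∈ regSub X N := by
    rw [← fres_fres hNN₁ hN₁]
    exact regSub_res (homOfLE hNN₁) hreg
  have hb' : fres hNV b.1 ∈ regSub X N := regSub_res (homOfLE hNV) b.2
  apply ((finite_nonunit_locus hC hNaff _ ha').union (finite_nonunit_locus hC hNaff _ hb')).subset
  rintro y ⟨hyN, hy⟩
  by_contra hcon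
  rw [Set.mem_union, not_or] at hcon
  apply hy
  have hαu : IsUnit (X.presheaf.germ V y (hNV hyN) a) := by
    rw [← germ_fres hNV y hyN a]
    by_contra h
    exact hcon.1 ⟨hyN, h⟩
  have hβu : IsUnit (X.presheaf.germ V y (hNV hyN) b.1) := by
    rw [← germ_fres hNV y hyN b.1]
    by_contra h
    exact hcon.2 ⟨hyN, h⟩
  exact mk_eq_one_of_isUnit _ (α := X.presheaf.germ V y (hNV hyN) a)
    (β := regGerm ⟨y, hNV hyN⟩ b) (hab ⟨y, hNV hyN⟩) hαu hβu

omit hC in
theorem germOf_res {U V : X.Opens} (h : V ≤ U) (f : (Γ(kmod X, U))ˣ) (y : V) :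
    germOf (Units.map ((kring X).obj.map (homOfLE h).op).hom.toMonoidHom f) y =
      germOf f ⟨y.1, h y.2⟩ :=
  congrArg _ (Units.ext rfl)

omit hC in
theorem germOf_toKUnit_div {W : X.Opens} (a b : regSub X W) (y : W) :
    germOf (toKUnit a * (toKUnit b)⁻¹) y = QuotientGroup.mk
      ((IsLocalization.map_units (KStalk X y.1) (regGerm y a)).unit *
        ((IsLocalization.map_units (KStalk X y.1) (regGerm y b)).unit)⁻¹) := by
  rw [germOf, map_mul, map_inv]
  exact congrArg _ (congrArg₂ _ (Units.ext rfl) (congrArg _ (Units.ext rfl)))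

/-- **Divisors on an absolute curve** are the families of germs which are trivial outside a finite
set of closed points. -/
theorem mem_divisorGroup_iff [IsNoetherian X] (g : ∀ x : X, Germ X x) :
    g ∈ divisorGroup X ↔
      ({x : X | g x ≠ 1}.Finite ∧ ∀ x : X, ¬ IsClosed ({x} : Set X) → g x = 1) := by
  constructor
  · intro hg
    refine ⟨?_, fun x hx => germ_eq_one_of_not_isClosed hC hx _⟩
    choose U hxU f hf using hg
    choose N hN hxN hfin using fun x => exists_finite_support hC (f x) x (hxU x)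
    obtain ⟨t, ht⟩ := CompactSpace.elim_nhds_subcover (fun x => (N x : Set X))
      (fun x => (N x).2.mem_nhds (hxN x))
    apply (t.finite_toSet.biUnion (fun x _ => hfin x)).subset
    intro y hy
    have : y ∈ ⋃ x ∈ t, (N x : Set X) := by rw [ht]; trivial
    obtain ⟨x, hxt, hyx⟩ := Set.mem_iUnion₂.mp this
    refine Set.mem_iUnion₂.mpr ⟨x, hxt, hyx, ?_⟩
    rw [← hf x ⟨y, hN x hyx⟩]
    exact hy
  · rintro ⟨hfin, hcl⟩ x
    obtain ⟨q, hq⟩ := QuotientGroup.mk_surjective (g x)
    obtain ⟨W, hxW, a, b, hab⟩ := exists_regSub_mk_eq x q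
    have hfx : germOf (toKUnit a * (toKUnit b)⁻¹) ⟨x, hxW⟩ = g x := by
      rw [← hq, germOf_toKUnit_div]
      congr 1
      apply Units.ext
      rw [hab, Units.val_mul, Units.mul_inv_eq_iff_eq_mul]
      have e : (LocalizedModule.mk (X.presheaf.germ W x hxW a.1) (regGerm ⟨x, hxW⟩ b) : KStalk X x) *
          LocalizedModule.mk (X.presheaf.germ W x hxW b.1) 1 =
          LocalizedModule.mk (X.presheaf.germ W x hxW a.1 * X.presheaf.germ W x hxW b.1)
            (regGerm ⟨x, hxW⟩ b * 1) := LocalizedModule.mk_mul_mk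
      refine Eq.trans ?_ e.symm
      change (LocalizedModule.mk (X.presheaf.germ W x hxW a.1) 1 : KStalk X x) = _
      refine LocalizedModule.mk_eq.mpr ⟨1, ?_⟩
      simp only [Submonoid.smul_def, smul_eq_mul, OneMemClass.coe_one, one_mul, mul_one]
      exact mul_comm _ _
    obtain ⟨N, hN, hxN, hNfin⟩ := exists_finite_support hC (toKUnit a * (toKUnit b)⁻¹) x hxW
    have hFfin : (({y | g y ≠ 1} ∪
        {y | ∃ h : y ∈ N, germOf (toKUnit a * (toKUnit b)⁻¹) ⟨y, hN h⟩ ≠ 1}) \ {x}).Finite :=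
      (hfin.union hNfin).subset Set.sdiff_subset
    have hFcl : IsClosed (({y | g y ≠ 1} ∪
        {y | ∃ h : y ∈ N, germOf (toKUnit a * (toKUnit b)⁻¹) ⟨y, hN h⟩ ≠ 1}) \ {x}) := by
      rw [← Set.biUnion_of_singleton (({y | g y ≠ 1} ∪
        {y | ∃ h : y ∈ N, germOf (toKUnit a * (toKUnit b)⁻¹) ⟨y, hN h⟩ ≠ 1}) \ {x})]
      refine hFfin.isClosed_biUnion fun y hy => ?_
      by_contra hncl
      rcases hy.1 with h | ⟨h, h'⟩
      · exact h (hcl y hncl)
      · exact h' (germ_eq_one_of_not_isClosed hC hncl _)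
    have hUN : N ⊓ ⟨_, hFcl.isOpen_compl⟩ ≤ N := inf_le_left
    refine ⟨N ⊓ ⟨_, hFcl.isOpen_compl⟩, ⟨hxN, fun h => h.2 rfl⟩,
      Units.map ((kring X).obj.map (homOfLE (hUN.trans hN)).op).hom.toMonoidHom
        (toKUnit a * (toKUnit b)⁻¹), fun y => ?_⟩
    rw [germOf_res]
    by_cases hyx : y.1 = x
    · have key : ∀ (z : X) (hz : z ∈ W), z = x →
          g z = germOf (toKUnit a * (toKUnit b)⁻¹) ⟨z, hz⟩ := by
        rintro z hz rfl
        exact hfx.symm
      exact key y.1 _ hyx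
    · have hyF : ¬ (y.1 ∈ ({y | g y ≠ 1} ∪
        {y | ∃ h : y ∈ N, germOf (toKUnit a * (toKUnit b)⁻¹) ⟨y, hN h⟩ ≠ 1}) \ {x}) := y.2.2
      rw [Set.mem_sdiff, not_and_or, Set.mem_union, not_or] at hyF
      rcases hyF with ⟨h1, h2⟩ | h3
      · have e1 : g y.1 = 1 := by
          by_contra h; exact h1 h
        have e2 : germOf (toKUnit a * (toKUnit b)⁻¹) ⟨y.1, hN y.2.1⟩ = 1 := by
          by_contra h; exact h2 ⟨y.2.1, h⟩
        rw [e1]; exact e2.symm
      · exact absurd (by simpa using h3) hyx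

end Curve

end Groth.Agent.Lib.Helper97.MeroLib
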