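import Groth.Agent.Lib.Helper97.MeroCurve

/-! Helper library (helper97): effective Cartier divisors on absolute curves without open points,
supported in a dense open set and meeting every irreducible component. -/

set_option autoImplicit false
universe u
open CategoryTheory AlgebraicGeometry TopologicalSpace Opposite
open Groth.Agent.Lib.Helper45 Groth.Agent.Lib.Helper49 Groth.Agent.Lib.Helper11.GenLocus

namespace Groth.Agent.Lib.Helper97.MeroLib

open Mero ZeroScheme

variable {X : Scheme.{u}}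

/-- a Noetherian scheme has finitely many associated points. -/
theorem finite_assPt_of_isNoetherian [IsNoetherian X] : {ζ : X | AssPt ζ}.Finite := by
  have hex : ∀ x : X, ∃ W : X.Opens, IsAffineOpen W ∧ x ∈ W := fun x => by
    obtain ⟨W, hW, hxW, -⟩ := (Opens.isBasis_iff_nbhd.mp X.isBasis_affineOpens) (Opens.mem_top x)
    exact ⟨W, hW, hxW⟩
  choose W hW hxW using hex
  obtain ⟨t, ht⟩ := CompactSpace.elim_nhds_subcover (fun x => (W x : Set X))
    (fun x => (W x).2.mem_nhds (hxW x))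
  have hfin : ∀ x, {ζ : X | ζ ∈ W x ∧ AssPt ζ}.Finite := fun x => by
    have : IsNoetherianRing Γ(X, W x) := IsLocallyNoetherian.component_noetherian ⟨W x, hW x⟩
    exact finite_assPt (hW x)
  apply (t.finite_toSet.biUnion (fun x _ => hfin x)).subset
  intro y hy
  have : y ∈ ⋃ x ∈ t, (W x : Set X) := by rw [ht]; trivial
  obtain ⟨x, hxt, hyx⟩ := Set.mem_iUnion₂.mp this
  exact Set.mem_iUnion₂.mpr ⟨x, hxt, hyx, hy⟩

/-- at a closed non-associated point there is a non-unit germ of a regular section. -/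
theorem exists_nonunit_regStalk [IsLocallyNoetherian X] {x : X} (hcl : IsClosed ({x} : Set X))
    (hass : ¬ AssPt x) : ∃ α : regStalk X x, ¬ IsUnit (α : X.presheaf.stalk x) := by
  obtain ⟨W, hW, hxW, -⟩ := (Opens.isBasis_iff_nbhd.mp X.isBasis_affineOpens) (Opens.mem_top x)
  have : IsNoetherianRing Γ(X, W) := IsLocallyNoetherian.component_noetherian ⟨W, hW⟩
  have key : ¬ (((hW.primeIdealOf ⟨x, hxW⟩).asIdeal : Set Γ(X, W)) ⊆
      ⋃ p ∈ associatedPrimes Γ(X, W) Γ(X, W), ((id p : Ideal Γ(X, W)) : Set Γ(X, W))) := by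
    rw [Ideal.subset_union_prime_finite (associatedPrimes.finite Γ(X, W) Γ(X, W)) (f := id) 0 0
      (fun _ h _ _ => h.1)]
    rintro ⟨p, hp, hle⟩
    obtain ⟨y, hy⟩ := exists_primeIdealOf_eq hW ⟨p, hp.1⟩
    have hassy : AssPt y.1 := (assPt_iff hW y).mpr (by rw [hy]; exact hp)
    have hsp : x ⤳ y.1 := specializes_of_primeIdealOf_le hW y ⟨x, hxW⟩ (by rw [hy]; exact hle)
    have hmem : y.1 ∈ closure ({x} : Set X) := specializes_iff_mem_closure.mp hsp
    rw [hcl.closure_eq] at hmem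
    have hyx : y.1 = x := hmem
    exact hass (hyx ▸ hassy)
  rw [Set.not_subset] at key
  obtain ⟨a, haP, ha⟩ := key
  have hreg : a ∈ regSub X W := mem_regSub_of_isUnit_germ detects_assPt a (fun ζ hζ hζass => by
    rw [isUnit_germ_iff hW ⟨ζ, hζ⟩]
    intro hmem
    apply ha
    simp only [Set.mem_iUnion]
    exact ⟨_, (assPt_iff hW ⟨ζ, hζ⟩).mp hζass, hmem⟩)
  refine ⟨regGerm ⟨x, hxW⟩ ⟨a, hreg⟩, ?_⟩
  change ¬ IsUnit (X.presheaf.germ W x hxW a)
  rw [isUnit_germ_iff hW ⟨x, hxW⟩, not_not]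
  exact haP

theorem mk_ne_one_of_not_isUnit {x : X} (α : regStalk X x) (hα : ¬ IsUnit (α : X.presheaf.stalk x)) :
    (QuotientGroup.mk (IsLocalization.map_units (KStalk X x) α).unit : Germ X x) ≠ 1 := by
  intro h
  rw [QuotientGroup.eq_one_iff] at h
  obtain ⟨u, hu⟩ := h
  have h1 : algebraMap (X.presheaf.stalk x) (KStalk X x) u.1 =
      algebraMap (X.presheaf.stalk x) (KStalk X x) α.1 := congrArg Units.val hu
  have h2 := algebraMap_KStalk_injective x h1
  exact hα (h2 ▸ u.isUnit)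

theorem mk_unit_one (x : X) :
    (QuotientGroup.mk (IsLocalization.map_units (KStalk X x) (1 : regStalk X x)).unit : Germ X x) = 1 := by
  rw [QuotientGroup.eq_one_iff]
  convert Subgroup.one_mem _
  exact Units.ext (map_one _)

section Curve

variable (hC : ∀ x : X, IsClosed ({x} : Set X) → ringKrullDim (X.presheaf.stalk x) = 1)
  (hpt : ∀ x : X, ¬ IsOpen ({x} : Set X))
include hC hpt

/-- on an absolute curve without open points, every nonempty open set contains a closed point. -/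
theorem exists_isClosed_singleton_mem_of_isOpen [IsNoetherian X] {G : Set X} (hG : IsOpen G)
    (hne : G.Nonempty) : ∃ y ∈ G, IsClosed ({y} : Set X) := by
  obtain ⟨x, hxG⟩ := hne
  obtain ⟨W, hW, hxW, hWG⟩ := (Opens.isBasis_iff_nbhd.mp X.isBasis_affineOpens)
    (show x ∈ (⟨G, hG⟩ : X.Opens) from hxG)
  by_contra hcon
  push Not at hcon
  have : IsNoetherianRing Γ(X, W) := IsLocallyNoetherian.component_noetherian ⟨W, hW⟩
  have hmin : ∀ w : W, (hW.primeIdealOf w).asIdeal ∈ minimalPrimes Γ(X, W) := by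
    intro w
    have h0 : Ring.KrullDimLE 0 (X.presheaf.stalk w.1) :=
      krullDimLE_zero_of_not_isClosed hC (hcon w.1 (hWG w.2))
    have h1 := ringKrullDim_stalk_eq_height hW w
    rw [Ring.krullDimLE_iff, h1] at h0
    apply Ideal.height_eq_zero_iff.mp
    have h2 : (hW.primeIdealOf w).asIdeal.height ≤ 0 := by exact_mod_cast h0
    exact le_antisymm h2 bot_le
  have hdim : Ring.KrullDimLE 0 Γ(X, W) := by
    rw [Ring.krullDimLE_zero_iff]
    intro I hI
    obtain ⟨M, hM, hIM⟩ := Ideal.exists_le_maximal I hI.ne_top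
    obtain ⟨w, hw⟩ := exists_primeIdealOf_eq hW ⟨M, hM.isPrime⟩
    have hMmin : M ∈ minimalPrimes Γ(X, W) := by
      have := hmin w
      rwa [hw] at this
    have hMI : M ≤ I := hMmin.2 ⟨hI, bot_le⟩ hIM
    rwa [le_antisymm hIM hMI]
  have hart : IsArtinianRing Γ(X, W) := isArtinianRing_iff_krullDimLE_zero.mpr hdim
  have hdisc : DiscreteTopology (Spec Γ(X, W)) :=
    inferInstanceAs (DiscreteTopology (PrimeSpectrum _))
  have hop : IsOpen ({hW.primeIdealOf ⟨x, hxW⟩} : Set (Spec Γ(X, W))) := isOpen_discrete _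
  have hop2 := hW.fromSpec.isOpenEmbedding.isOpenMap _ hop
  have e : hW.fromSpec '' ({hW.primeIdealOf ⟨x, hxW⟩} : Set (Spec Γ(X, W))) = {x} :=
    (Set.image_singleton (f := hW.fromSpec) (a := hW.primeIdealOf ⟨x, hxW⟩)).trans
      (congrArg _ (hW.fromSpec_primeIdealOf ⟨x, hxW⟩))
  rw [e] at hop2
  exact hpt x hop2

theorem exists_good_point [IsNoetherian X] (U : X.Opens) (hU : Dense (U : Set X)) (Z : Set X)
    (hZ : Z ∈ irreducibleComponents X) :
    ∃ x ∈ Z, x ∈ U ∧ IsClosed ({x} : Set X) ∧ ¬ AssPt x := by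
  obtain ⟨o, ho, hone, hoZ⟩ :=
    NoetherianSpace.exists_isOpen_nonempty_subset_irreducibleComponent Z hZ
  have hG₀ : (o ∩ (U : Set X)).Nonempty := hU.inter_open_nonempty o ho hone
  have hAfin : {a : X | AssPt a ∧ IsClosed ({a} : Set X)}.Finite :=
    finite_assPt_of_isNoetherian.subset (fun a h => h.1)
  have hAcl : ∀ B : Set X, B ⊆ {a : X | AssPt a ∧ IsClosed ({a} : Set X)} → IsClosed B := by
    intro B hB
    rw [← Set.biUnion_of_singleton B]
    exact (hAfin.subset hB).isClosed_biUnion (fun a ha => (hB ha).2)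
  have hGne : (o ∩ (U : Set X) ∩ {a : X | AssPt a ∧ IsClosed ({a} : Set X)}ᶜ).Nonempty := by
    by_contra hempty
    rw [Set.not_nonempty_iff_eq_empty] at hempty
    have hall : ∀ y ∈ o ∩ (U : Set X), y ∈ {a : X | AssPt a ∧ IsClosed ({a} : Set X)} := by
      intro y hy
      by_contra h
      exact (Set.eq_empty_iff_forall_notMem.mp hempty y) ⟨hy, h⟩
    obtain ⟨x, hx⟩ := hG₀
    apply hpt x
    have e : ({x} : Set X) =
        (o ∩ (U : Set X)) ∩ ({a : X | AssPt a ∧ IsClosed ({a} : Set X)} \ {x})ᶜ := by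
      ext y
      constructor
      · rintro rfl
        exact ⟨hx, fun h => h.2 rfl⟩
      · rintro ⟨hy, hy2⟩
        by_contra hne
        exact hy2 ⟨hall y hy, hne⟩
    rw [e]
    exact (ho.inter U.2).inter (hAcl _ Set.sdiff_subset).isOpen_compl
  obtain ⟨y, hyG, hycl⟩ := exists_isClosed_singleton_mem_of_isOpen hC hpt
    ((ho.inter U.2).inter (hAcl _ subset_rfl).isOpen_compl) hGne
  exact ⟨y, hoZ hyG.1.1, hyG.1.2, hycl, fun h => hyG.2 ⟨h, hycl⟩⟩

/-- an effective divisor supported in a dense open and meeting every irreducible component. -/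
theorem exists_effective_meeting [IsNoetherian X] (U : X.Opens) (hU : Dense (U : Set X)) :
    ∃ D : Divisor X, IsEffective D ∧ supp D ⊆ (U : Set X) ∧
      ∀ Z ∈ irreducibleComponents X, (supp D ∩ Z).Nonempty := by
  classical
  choose pt h using fun Z : irreducibleComponents X => exists_good_point hC hpt U hU Z.1 Z.2
  have hfinZ : Finite (irreducibleComponents X) :=
    NoetherianSpace.finite_irreducibleComponents.to_subtype
  have hPfin : (Set.range pt).Finite := Set.finite_range pt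
  have hα : ∀ x : X, ∃ α : regStalk X x,
      (IsClosed ({x} : Set X) ∧ ¬ AssPt x) → ¬ IsUnit (α : X.presheaf.stalk x) := fun x => by
    by_cases hx : IsClosed ({x} : Set X) ∧ ¬ AssPt x
    · obtain ⟨α, hα⟩ := exists_nonunit_regStalk hx.1 hx.2
      exact ⟨α, fun _ => hα⟩
    · exact ⟨1, fun h' => absurd h' hx⟩
  choose α hα using hα
  have hg : (fun x : X => if x ∈ Set.range pt then
      (QuotientGroup.mk (IsLocalization.map_units (KStalk X x) (α x)).unit : Germ X x) else 1) ∈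
        divisorGroup X := by
    refine (mem_divisorGroup_iff hC _).mpr ⟨hPfin.subset fun x hx => ?_, fun x hx => if_neg ?_⟩
    · by_contra hxP
      exact hx (if_neg hxP)
    · rintro ⟨Z, rfl⟩
      exact hx (h Z).2.2.1
  refine ⟨⟨_, hg⟩, fun x => ?_, fun x hx => ?_, fun Z hZ => ⟨pt ⟨Z, hZ⟩, ?_, (h ⟨Z, hZ⟩).1⟩⟩
  · by_cases hxP : x ∈ Set.range pt
    · exact ⟨α x, if_pos hxP⟩
    · exact ⟨1, (if_neg hxP).trans (mk_unit_one x).symm⟩
  · by_contra hxU
    apply hx
    refine if_neg ?_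
    rintro ⟨Z, rfl⟩
    exact hxU (h Z).2.1
  · change (if pt ⟨Z, hZ⟩ ∈ Set.range pt then _ else _) ≠ _
    rw [if_pos ⟨⟨Z, hZ⟩, rfl⟩]
    exact mk_ne_one_of_not_isUnit _ (hα _ ⟨(h ⟨Z, hZ⟩).2.2.1, (h ⟨Z, hZ⟩).2.2.2⟩)

end Curve

end Groth.Agent.Lib.Helper97.MeroLib
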