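import Groth.Agent.Lib.Helper97.MeroNoeth

/-! Helper library (helper97): on a reduced scheme with locally finitely many irreducible components
the sections of `K_X` over an open `U` are the families of elements of the fields `K_{X,η}`, `η` the
generic points in `U`. -/

set_option autoImplicit false
universe u
open CategoryTheory AlgebraicGeometry TopologicalSpace Opposite
open Groth.Agent.Lib.Helper45 Groth.Agent.Lib.Helper49 Groth.Agent.Lib.Helper11.GenLocus

namespace Groth.Agent.Lib.Helper97.MeroLib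

open Mero ZeroScheme

variable {X : Scheme.{u}} [IsReduced X]

/-- at a generic point of a reduced scheme, `O_{X,η} → K_{X,η}` is bijective. -/
theorem bijective_algebraMap_of_isGen {η : X} (hη : IsGen η) :
    Function.Bijective (algebraMap (X.presheaf.stalk η) (KStalk X η)) := by
  refine ⟨algebraMap_KStalk_injective η, fun q => ?_⟩
  induction q using LocalizedModule.induction_on with
  | h a b =>
    have hF := isField_stalk_of_closure_mem_irreducibleComponents (X := X) η hη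
    have hb0 : (b : X.presheaf.stalk η) ≠ 0 :=
      nonZeroDivisors.ne_zero (regStalk_le_nonZeroDivisors η b.2)
    obtain ⟨c, hc⟩ := hF.mul_inv_cancel hb0
    refine ⟨a * c, ?_⟩
    rw [algebraMap_eq_mk]
    refine LocalizedModule.mk_eq.mpr ⟨1, ?_⟩
    simp only [Submonoid.smul_def, smul_eq_mul, OneMemClass.coe_one, one_mul]
    rw [mul_left_comm, hc, mul_one]

/-- two fractions which agree at the generic points agree everywhere. -/
theorem mk_eq_mk_of_isGen {V V' : X.Opens} (a : Γ(X, V)) (b : regSub X V) (a' : Γ(X, V'))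
    (b' : regSub X V')
    (h : ∀ (η : X) (hη : η ∈ V) (hη' : η ∈ V'), IsGen η →
      (LocalizedModule.mk (X.presheaf.germ V η hη a) (regGerm ⟨η, hη⟩ b) : KStalk X η) =
        LocalizedModule.mk (X.presheaf.germ V' η hη' a') (regGerm ⟨η, hη'⟩ b'))
    (y : X) (hy : y ∈ V) (hy' : y ∈ V') :
    (LocalizedModule.mk (X.presheaf.germ V y hy a) (regGerm ⟨y, hy⟩ b) : KStalk X y) =
      LocalizedModule.mk (X.presheaf.germ V' y hy' a') (regGerm ⟨y, hy'⟩ b') := by
  have hN : V ⊓ V' ≤ V := inf_le_left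
  have hN' : V ⊓ V' ≤ V' := inf_le_right
  have key : fres hN' b'.1 * fres hN a = fres hN b.1 * fres hN' a' := by
    rw [← sub_eq_zero]
    apply eq_zero_of_germ_isGen
    intro η hη hgen
    rw [map_sub, sub_eq_zero, map_mul, map_mul, germ_fres, germ_fres, germ_fres, germ_fres]
    obtain ⟨u, hu⟩ := LocalizedModule.mk_eq.mp (h η hη.1 hη.2 hgen)
    simp only [Submonoid.smul_def, smul_eq_mul] at hu
    exact (mul_cancel_left_mem_nonZeroDivisors (regStalk_le_nonZeroDivisors η u.2)).mp hu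
  have h1 := congrArg (X.presheaf.germ (V ⊓ V') y ⟨hy, hy'⟩) key
  rw [map_mul, map_mul, germ_fres, germ_fres, germ_fres, germ_fres] at h1
  refine LocalizedModule.mk_eq.mpr ⟨1, ?_⟩
  simp only [Submonoid.smul_def, smul_eq_mul, OneMemClass.coe_one, one_mul]
  exact h1

/-- a section of `K_X` is determined by its values at the generic points. -/
theorem eq_of_evalK_isGen {U : X.Opens} (s s' : Γ(kmod X, U))
    (h : ∀ (η : X) (hη : η ∈ U), IsGen η → s.1 ⟨η, hη⟩ = s'.1 ⟨η, hη⟩) : s = s' := by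
  refine Subtype.ext (funext fun y => ?_)
  obtain ⟨V, hyV, i, a, b, hab⟩ := s.2 y
  obtain ⟨V', hyV', i', a', b', hab'⟩ := s'.2 y
  refine (hab ⟨y.1, hyV⟩).trans (Eq.trans ?_ (hab' ⟨y.1, hyV'⟩).symm)
  apply mk_eq_mk_of_isGen a b a' b'
  intro η hη hη' hgen
  exact (hab ⟨η, hη⟩).symm.trans ((h η (i.le hη) hgen).trans (hab' ⟨η, hη'⟩))

section Frac

variable {V : X.Opens} (hV : IsAffineOpen V)
include hV

theorem exists_frac_at (η : V) (hη : IsGen η.1) (q : KStalk X η.1) :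
    ∃ α β : Γ(X, V), η.1 ∈ X.basicOpen β ∧
      (LocalizedModule.mk (X.presheaf.germ V η.1 η.2 α) 1 : KStalk X η.1) =
        LocalizedModule.mk (X.presheaf.germ V η.1 η.2 β) 1 * q := by
  obtain ⟨τ, rfl⟩ := (bijective_algebraMap_of_isGen hη).2 q
  have := hV.isLocalization_stalk η
  obtain ⟨⟨α, β⟩, h⟩ := IsLocalization.surj (hV.primeIdealOf η).asIdeal.primeCompl τ
  refine ⟨α, β.1, (X.mem_basicOpen β.1 η.1 η.2).mpr ((isUnit_germ_iff hV η β.1).mpr β.2), ?_⟩
  have h' : τ * X.presheaf.germ V η.1 η.2 β.1 = X.presheaf.germ V η.1 η.2 α := h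
  rw [← algebraMap_eq_mk, ← algebraMap_eq_mk, ← map_mul, ← h', mul_comm]

theorem exists_global_frac (hfin : {η : X | η ∈ V ∧ IsGen η}.Finite) (t : ∀ η : X, KStalk X η) :
    ∃ (a : Γ(X, V)) (b : regSub X V), ∀ (η : X) (hη : η ∈ V), IsGen η →
      (LocalizedModule.mk (X.presheaf.germ V η hη a) (regGerm ⟨η, hη⟩ b) : KStalk X η) = t η := by
  classical
  choose! δ hδ1 hδ2 using fun (η : X) (h : η ∈ V ∧ IsGen η) => exists_sep hV hfin h.1 h.2
  choose! α β hβ hαβ using fun (η : X) (h : η ∈ V ∧ IsGen η) => exists_frac_at hV ⟨η, h.1⟩ h.2 (t η)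
  have key : ∀ (γ : X → Γ(X, V)) (ζ : X) (hζV : ζ ∈ V), IsGen ζ →
      X.presheaf.germ V ζ hζV (∑ η ∈ hfin.toFinset, δ η * γ η) =
        X.presheaf.germ V ζ hζV (δ ζ) * X.presheaf.germ V ζ hζV (γ ζ) := by
    intro γ ζ hζV hζ
    rw [map_sum, Finset.sum_eq_single ζ, map_mul]
    · intro η hηS hne
      have hη : η ∈ V ∧ IsGen η := hfin.mem_toFinset.mp hηS
      rw [map_mul, germ_eq_zero_of_isGen hζ hζV (δ η) (hδ2 η hη ζ hζV hζ hne.symm), zero_mul]
    · intro hζS
      exact (hζS (hfin.mem_toFinset.mpr ⟨hζV, hζ⟩)).elim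
  have hunitδ : ∀ (ζ : X) (hζV : ζ ∈ V), IsGen ζ → IsUnit (X.presheaf.germ V ζ hζV (δ ζ)) :=
    fun ζ hζV hζ => (X.mem_basicOpen (δ ζ) ζ hζV).mp (hδ1 ζ ⟨hζV, hζ⟩)
  have hb : (∑ η ∈ hfin.toFinset, δ η * β η) ∈ regSub X V := by
    apply mem_regSub_of_isUnit_germ_isGen
    intro ζ hζV hζ
    rw [key β ζ hζV hζ]
    exact (hunitδ ζ hζV hζ).mul ((X.mem_basicOpen (β ζ) ζ hζV).mp (hβ ζ ⟨hζV, hζ⟩))
  refine ⟨∑ η ∈ hfin.toFinset, δ η * α η, ⟨_, hb⟩, fun ζ hζV hζ => ?_⟩
  have h1 := hαβ ζ ⟨hζV, hζ⟩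
  induction' hq : t ζ using LocalizedModule.induction_on with ρ σ
  rw [hq] at h1
  have e : (LocalizedModule.mk (X.presheaf.germ V ζ hζV (β ζ)) 1 : KStalk X ζ) * LocalizedModule.mk ρ σ =
      LocalizedModule.mk (X.presheaf.germ V ζ hζV (β ζ) * ρ) (1 * σ) := LocalizedModule.mk_mul_mk
  obtain ⟨u, hu⟩ := LocalizedModule.mk_eq.mp (h1.trans e)
  simp only [Submonoid.smul_def, smul_eq_mul, OneMemClass.coe_one, one_mul] at hu
  have h2 : (σ : X.presheaf.stalk ζ) * X.presheaf.germ V ζ hζV (α ζ) =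
      X.presheaf.germ V ζ hζV (β ζ) * ρ :=
    (mul_cancel_left_mem_nonZeroDivisors (regStalk_le_nonZeroDivisors ζ u.2)).mp hu
  refine LocalizedModule.mk_eq.mpr ⟨1, ?_⟩
  simp only [Submonoid.smul_def, smul_eq_mul, OneMemClass.coe_one, one_mul]
  change (σ : X.presheaf.stalk ζ) * X.presheaf.germ V ζ hζV (∑ η ∈ hfin.toFinset, δ η * α η) =
    X.presheaf.germ V ζ hζV (∑ η ∈ hfin.toFinset, δ η * β η) * ρ
  rw [key α ζ hζV hζ, key β ζ hζV hζ, mul_left_comm, h2, mul_assoc]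

end Frac

section Glue

variable (hfinX : ∀ V : X.Opens, {η : X | η ∈ V ∧ IsGen η}.Finite) (t : ∀ η : X, KStalk X η)
  (U : X.Opens)

/-- local datum: a fraction `a/b` on `N ≤ U` with the prescribed values at generic points. -/
structure KDatum where
  N : X.Opens
  hN : N ≤ U
  a : Γ(X, N)
  b : regSub X N
  h : ∀ (η : X) (hη : η ∈ N), IsGen η →
    (LocalizedModule.mk (X.presheaf.germ N η hη a) (regGerm ⟨η, hη⟩ b) : KStalk X η) = t η

include hfinX in
theorem exists_kdatum (y : U) : ∃ d : KDatum t U, y.1 ∈ d.N := by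
  obtain ⟨V, hV, hyV, hVU⟩ := (Opens.isBasis_iff_nbhd.mp X.isBasis_affineOpens) y.2
  obtain ⟨a, b, hab⟩ := exists_global_frac hV (hfinX V) t
  exact ⟨⟨V, hVU, a, b, hab⟩, hyV⟩

variable {t U}

theorem KDatum.indep (d d' : KDatum t U) (y : X) (hy : y ∈ d.N) (hy' : y ∈ d'.N) :
    (LocalizedModule.mk (X.presheaf.germ d.N y hy d.a) (regGerm ⟨y, hy⟩ d.b) : KStalk X y) =
      LocalizedModule.mk (X.presheaf.germ d'.N y hy' d'.a) (regGerm ⟨y, hy'⟩ d'.b) :=
  mk_eq_mk_of_isGen d.a d.b d'.a d'.b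
    (fun η hη hη' hgen => (d.h η hη hgen).trans (d'.h η hη' hgen).symm) y hy hy'

variable (t U)

noncomputable def kdatumAt (y : U) : KDatum t U := Classical.choose (exists_kdatum hfinX t U y)

theorem mem_kdatumAt (y : U) : y.1 ∈ (kdatumAt hfinX t U y).N :=
  Classical.choose_spec (exists_kdatum hfinX t U y)

noncomputable def kval (y : U) : KStalk X y.1 :=
  LocalizedModule.mk (X.presheaf.germ _ y.1 (mem_kdatumAt hfinX t U y) (kdatumAt hfinX t U y).a)
    (regGerm ⟨y.1, mem_kdatumAt hfinX t U y⟩ (kdatumAt hfinX t U y).b)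

theorem kval_eq (d : KDatum t U) (y : U) (hy : y.1 ∈ d.N) :
    kval hfinX t U y =
      LocalizedModule.mk (X.presheaf.germ d.N y.1 hy d.a) (regGerm ⟨y.1, hy⟩ d.b) :=
  KDatum.indep _ d y.1 _ hy

/-- the section of `K_X` over `U` with prescribed values at the generic points. -/
noncomputable def kSec : Γ(kmod X, U) :=
  ⟨fun y => kval hfinX t U y, fun y =>
    ⟨(kdatumAt hfinX t U y).N, mem_kdatumAt hfinX t U y, homOfLE (kdatumAt hfinX t U y).hN, _, _,
      fun z => kval_eq hfinX t U (kdatumAt hfinX t U y) ⟨z.1, (kdatumAt hfinX t U y).hN z.2⟩ z.2⟩⟩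

theorem kSec_apply_isGen (η : X) (hη : η ∈ U) (hgen : IsGen η) :
    (kSec hfinX t U).1 ⟨η, hη⟩ = t η := by
  change kval hfinX t U ⟨η, hη⟩ = t η
  exact (kdatumAt hfinX t U ⟨η, hη⟩).h η (mem_kdatumAt hfinX t U ⟨η, hη⟩) hgen

end Glue

/-- **Sections of `K_X`** on a reduced scheme with finitely many irreducible components. -/
theorem bijective_evalK_isGen (hfin : (irreducibleComponents X).Finite) (U : X.Opens) :
    Function.Bijective (fun s : Γ(kmod X, U) =>
      fun x : {x : U // closure ({x.1} : Set X) ∈ irreducibleComponents X} =>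
        evalK X U x.1 s) := by
  classical
  have hfinX : ∀ V : X.Opens, {η : X | η ∈ V ∧ IsGen η}.Finite := fun V =>
    finite_gen_of_finite_meeting V (hfin.subset fun Z h => h.1)
  constructor
  · intro s s' h
    apply eq_of_evalK_isGen
    intro η hη hgen
    exact congrFun h ⟨⟨η, hη⟩, hgen⟩
  · intro t₀
    refine ⟨kSec hfinX (fun η => if h : η ∈ U ∧ IsGen η then t₀ ⟨⟨η, h.1⟩, h.2⟩ else 0) U, ?_⟩
    funext x
    change (kSec hfinX _ U).1 x.1 = t₀ x
    have := kSec_apply_isGen hfinX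
      (fun η => if h : η ∈ U ∧ IsGen η then t₀ ⟨⟨η, h.1⟩, h.2⟩ else 0) U x.1.1 x.1.2 x.2
    rw [this, dif_pos ⟨x.1.2, x.2⟩]

end Groth.Agent.Lib.Helper97.MeroLib
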