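import Groth.Prelude.Def_MeroDiv
import Groth.Prelude.Def_PicF2
import Groth.Prelude.Def_SecTwist
import Groth.Prelude.Def_Pic
import Groth.Agent.Lib.Helper97.ZeroScheme
import Mathlib

/-! Helper library (helper97): the sheaf of meromorphic functions `Mero.kmod X` and the modules
`Mero.divMod D` of Cartier divisors: sections of `K_X` which are stalkwise in `O_X` come from `O_X`
(`exists_toK_eq`), local bases of `O_X(D)` (`isBasisOn_divMod`). -/

set_option autoImplicit false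
universe u
open CategoryTheory AlgebraicGeometry TopologicalSpace Opposite
open Groth.Agent.Lib.Helper45 Groth.Agent.Lib.Helper49

namespace Groth.Agent.Lib.Helper97.MeroLib

open Mero

variable {X : Scheme.{u}}

theorem germ_fres {V W : X.Opens} (h : V ≤ W) (x : X) (hx : x ∈ V) (r : Γ(X, W)) :
    X.presheaf.germ V x hx (fres h r) = X.presheaf.germ W x (h hx) r :=
  TopCat.Presheaf.germ_res_apply X.presheaf (homOfLE h) x hx r

theorem algebraMap_eq_mk (x : X) (ρ : X.presheaf.stalk x) :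
    algebraMap (X.presheaf.stalk x) (KStalk X x) ρ = LocalizedModule.mk ρ 1 := rfl

theorem mk_one_injective (x : X) {ρ ρ' : X.presheaf.stalk x}
    (h : (LocalizedModule.mk ρ 1 : KStalk X x) = LocalizedModule.mk ρ' 1) : ρ = ρ' :=
  algebraMap_KStalk_injective x h

theorem toK_injective (U : X.Opens) : Function.Injective (toK X U) := by
  intro r r' h
  apply TopCat.Presheaf.section_ext X.sheaf U
  intro x hx
  have := congrArg (fun t : Γ(kmod X, U) => t.1 ⟨x, hx⟩) h
  exact mk_one_injective x this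

/-- cancellation in `K_{X,x}`: `ρ/1 = a/b` gives `b ρ = a`. -/
theorem eq_of_mk_one_eq_mk (x : X) {ρ a : X.presheaf.stalk x} {b : regStalk X x}
    (h : (LocalizedModule.mk ρ 1 : KStalk X x) = LocalizedModule.mk a b) : (b : X.presheaf.stalk x) * ρ = a := by
  obtain ⟨u, hu⟩ := LocalizedModule.mk_eq.mp h
  simp only [Submonoid.smul_def, smul_eq_mul, OneMemClass.coe_one, one_mul] at hu
  exact (mul_cancel_left_mem_nonZeroDivisors (regStalk_le_nonZeroDivisors x u.2)).mp hu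

/-- A germ `ρ₀` with `b_y ρ₀ = a_y` spreads to a section on a neighbourhood. -/
theorem exists_section_of_germ_mul_eq {V : X.Opens} (y : X) (hy : y ∈ V) (a b : Γ(X, V))
    (ρ₀ : X.presheaf.stalk y) (h : X.presheaf.germ V y hy b * ρ₀ = X.presheaf.germ V y hy a) :
    ∃ (N : X.Opens) (hN : N ≤ V) (hyN : y ∈ N) (ρ : Γ(X, N)),
      X.presheaf.germ N y hyN ρ = ρ₀ ∧ fres hN b * ρ = fres hN a := by
  obtain ⟨N₀, hyN₀, ρ₁, hρ₁⟩ := TopCat.Presheaf.exists_germ_eq X.presheaf ρ₀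
  have hy₁ : y ∈ N₀ ⊓ V := ⟨hyN₀, hy⟩
  have e : X.presheaf.germ (N₀ ⊓ V) y hy₁ (fres inf_le_right b * fres inf_le_left ρ₁) =
      X.presheaf.germ (N₀ ⊓ V) y hy₁ (fres inf_le_right a) := by
    rw [map_mul, germ_fres, germ_fres, germ_fres, hρ₁, h]
  obtain ⟨N, hyN, iU, iV, hUV⟩ := TopCat.Presheaf.germ_eq X.presheaf y hy₁ hy₁ _ _ e
  refine ⟨N, iU.le.trans inf_le_right, hyN, fres (iU.le.trans inf_le_left) ρ₁, ?_, ?_⟩
  · rw [germ_fres, hρ₁]
  · have h1 : fres iU.le (fres inf_le_right b * fres inf_le_left ρ₁) = fres iU.le (fres inf_le_right a) := hUV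
    rw [map_mul, fres_fres, fres_fres, fres_fres] at h1
    exact h1

/-- A section of `K_X` which at `y` lies in `O_{X,y}` is, near `y`, the image of a function. -/
theorem exists_toK_eq_local {W : X.Opens} (t : Γ(kmod X, W)) (y : W)
    (h : t.1 y ∈ (algebraMap (X.presheaf.stalk y.1) (KStalk X y.1)).range) :
    ∃ (N : X.Opens) (hN : N ≤ W) (_ : y.1 ∈ N) (ρ : Γ(X, N)),
      ∀ z : N, t.1 ⟨z.1, hN z.2⟩ = LocalizedModule.mk (X.presheaf.germ N z.1 z.2 ρ) 1 := by
  obtain ⟨V, hyV, i, a, b, hab⟩ := t.2 y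
  obtain ⟨ρ₀, hρ₀⟩ := h
  have h1 : (LocalizedModule.mk ρ₀ 1 : KStalk X y.1) =
      LocalizedModule.mk (X.presheaf.germ V y.1 hyV a) (regGerm ⟨y.1, hyV⟩ b) :=
    hρ₀.trans (hab ⟨y.1, hyV⟩)
  have h2 := eq_of_mk_one_eq_mk y.1 h1
  obtain ⟨N, hN, hyN, ρ, -, hρ⟩ := exists_section_of_germ_mul_eq y.1 hyV a b.1 ρ₀ h2
  refine ⟨N, hN.trans i.le, hyN, ρ, fun z => ?_⟩
  have h3 := hab ⟨z.1, hN z.2⟩
  refine h3.trans ?_
  have h4 : X.presheaf.germ V z.1 (hN z.2) a =
      X.presheaf.germ V z.1 (hN z.2) b.1 * X.presheaf.germ N z.1 z.2 ρ := by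
    rw [← germ_fres hN z.1 z.2 a, ← hρ, map_mul, germ_fres]
  rw [h4]
  exact LocalizedModule.mk_cancel (regGerm ⟨z.1, hN z.2⟩ b) (X.presheaf.germ N z.1 z.2 ρ)

/-- **K1**. A section of `K_X` over `W` which is stalkwise in `O_X` is the image of a function. -/
theorem exists_toK_eq {W : X.Opens} (t : Γ(kmod X, W))
    (h : ∀ y : W, t.1 y ∈ (algebraMap (X.presheaf.stalk y.1) (KStalk X y.1)).range) :
    ∃ r : Γ(X, W), toK X W r = t := by
  choose N hN hyN ρ hρ using fun y : W => exists_toK_eq_local t y (h y)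
  have compat : TopCat.Presheaf.IsCompatible X.sheaf.1 N ρ := by
    intro y y'
    apply TopCat.Presheaf.section_ext X.sheaf
    intro z hz
    have e1 := TopCat.Presheaf.germ_res_apply X.presheaf (Opens.infLELeft (N y) (N y')) z hz (ρ y)
    have e2 := TopCat.Presheaf.germ_res_apply X.presheaf (Opens.infLERight (N y) (N y')) z hz (ρ y')
    refine e1.trans (Eq.trans ?_ e2.symm)
    apply mk_one_injective
    exact (hρ y ⟨z, hz.1⟩).symm.trans (hρ y' ⟨z, hz.2⟩)
  obtain ⟨r, hr⟩ : ∃ r : Γ(X, W), ∀ y : W, X.presheaf.map (homOfLE (hN y)).op r = ρ y := by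
    obtain ⟨r, hr, -⟩ := TopCat.Sheaf.existsUnique_gluing' X.sheaf N W (fun y => homOfLE (hN y))
      (fun z hz => Opens.mem_iSup.mpr ⟨⟨z, hz⟩, hyN ⟨z, hz⟩⟩) ρ compat
    exact ⟨r, hr⟩
  refine ⟨r, Subtype.ext (funext fun z => ?_)⟩
  refine Eq.trans ?_ (hρ z ⟨z.1, hyN z⟩).symm
  rw [toK_apply, ← hr z]
  exact mk_congr (TopCat.Presheaf.germ_res_apply X.presheaf (homOfLE (hN z)) z.1 (hyN z) r).symm rfl

section DivMod

variable (D : Divisor X) {U : X.Opens} (f : (Γ(kmod X, U))ˣ)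

theorem unit_mul_inv_apply (y : U) : f.1.1 y * (f⁻¹).1.1 y = 1 :=
  congrArg (fun t : Γ(kmod X, U) => t.1 y) f.mul_inv

theorem unit_inv_mul_apply (y : U) : (f⁻¹).1.1 y * f.1.1 y = 1 :=
  congrArg (fun t : Γ(kmod X, U) => t.1 y) f.inv_mul

variable (hf : ∀ y : U, D.1 y.1 = germOf f y)
include hf

/-- If `D_y` is the class of `f_y` and also of `g` then `f_y⁻¹ g` is a unit of `O_{X,y}`. -/
theorem exists_unit_of_germ_eq (y : U) (g : (KStalk X y.1)ˣ) (hg : D.1 y.1 = QuotientGroup.mk g) :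
    ∃ u : (X.presheaf.stalk y.1)ˣ,
      algebraMap (X.presheaf.stalk y.1) (KStalk X y.1) u = (f⁻¹).1.1 y * g := by
  have h1 : (QuotientGroup.mk (Units.map (evalK X U y).toMonoidHom f) : Germ X y.1) =
      QuotientGroup.mk g := (hf y).symm.trans hg
  rw [QuotientGroup.eq] at h1
  obtain ⟨u, hu⟩ := h1
  refine ⟨u, ?_⟩
  have h2 := congrArg Units.val hu
  rw [← map_inv] at h2
  exact h2

theorem divCond_inv (y : U) : DivCond D y.1 ((f⁻¹).1.1 y) := by
  intro g hg
  obtain ⟨u, hu⟩ := exists_unit_of_germ_eq D f hf y g hg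
  exact ⟨u, hu⟩

theorem divCond_mul_mem (y : U) {t : KStalk X y.1} (ht : DivCond D y.1 t) :
    t * f.1.1 y ∈ (algebraMap (X.presheaf.stalk y.1) (KStalk X y.1)).range :=
  ht (Units.map (evalK X U y).toMonoidHom f) (hf y)

/-- the section `f⁻¹` of `O_X(D)` over `U`, where `D` is the class of `f` on `U`. -/
noncomputable def invSec : Γ(divMod D, U) :=
  ⟨(f⁻¹).1.1, ⟨(f⁻¹).1.2, fun y => divCond_inv D f hf y⟩⟩

theorem invSec_apply (y : U) : (invSec D f hf).1 y = (f⁻¹).1.1 y := rfl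

/-- **Lemma B**: `f⁻¹` is a basis of `O_X(D)` over `U`. -/
theorem isBasisOn_invSec : IsBasisOn (divMod D) U (invSec D f hf) := by
  intro W hW
  constructor
  · intro r r' hrr'
    apply TopCat.Presheaf.section_ext X.sheaf W
    intro x hx
    have h1 := congrArg (fun t : Γ(divMod D, W) => t.1 ⟨x, hx⟩) hrr'
    have h2 : X.presheaf.germ W x hx r • (f⁻¹).1.1 ⟨x, hW hx⟩ =
        X.presheaf.germ W x hx r' • (f⁻¹).1.1 ⟨x, hW hx⟩ := h1
    have h3 := congrArg (fun κ => κ * f.1.1 ⟨x, hW hx⟩) h2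
    simp only [Algebra.smul_def, mul_assoc] at h3
    rw [unit_inv_mul_apply f ⟨x, hW hx⟩, mul_one, mul_one] at h3
    exact algebraMap_KStalk_injective x h3
  · intro t
    let t' : Γ(kmod X, W) := ⟨fun x => t.1 x * f.1.1 ⟨x.1, hW x.2⟩,
      kLoc_mul X W _ _ t.2.1 ((kLoc X).res (homOfLE hW) f.1.1 f.1.2)⟩
    obtain ⟨r, hr⟩ := exists_toK_eq t' (fun y => divCond_mul_mem D f hf ⟨y.1, hW y.2⟩ (t.2.2 y))
    refine ⟨r, Subtype.ext (funext fun x => ?_)⟩
    have h1 : (toK X W r).1 x = t.1 x * f.1.1 ⟨x.1, hW x.2⟩ := congrArg (fun t : Γ(kmod X, W) => t.1 x) hr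
    have h2 : (r • mres (divMod D) hW (invSec D f hf)).1 x =
        X.presheaf.germ W x.1 x.2 r • (f⁻¹).1.1 ⟨x.1, hW x.2⟩ := rfl
    rw [h2, Algebra.smul_def, algebraMap_eq_mk, ← toK_apply, h1, mul_assoc, unit_mul_inv_apply, mul_one]

end DivMod

section Iso

theorem app_mres {M N : X.Modules} (φ : M ⟶ N) {V W : X.Opens} (h : W ≤ V) (t : Γ(M, V)) :
    mres N h (φ.app V t) = φ.app W (mres M h t) :=
  (ConcreteCategory.congr_hom (φ.mapPresheaf.naturality (homOfLE h).op) t).symm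

theorem app_bijective_of_isIso {M N : X.Modules} (φ : M ⟶ N) [IsIso φ] (W : X.Opens) :
    Function.Bijective (φ.app W) :=
  (ConcreteCategory.isIso_iff_bijective (φ.app W)).mp inferInstance

/-- the image of a basis under an isomorphism is a basis. -/
theorem isBasisOn_app {M N : X.Modules} (φ : M ⟶ N) [IsIso φ] {V : X.Opens} {t : Γ(M, V)}
    (ht : IsBasisOn M V t) : IsBasisOn N V (φ.app V t) := by
  intro W hW
  have e : (fun r : Γ(X, W) => r • mres N hW (φ.app V t)) =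
      (fun m : Γ(M, W) => φ.app W m) ∘ (fun r : Γ(X, W) => r • mres M hW t) := by
    funext r
    simp only [Function.comp_apply]
    rw [app_mres, Scheme.Modules.Hom.app_smul]
  rw [e]
  exact (app_bijective_of_isIso φ W).comp (ht W hW)

theorem sv_comp {M N : X.Modules} (s : Coh.structureModule X ⟶ M) (φ : M ⟶ N) (V : X.Opens) :
    ZeroScheme.sv N (s ≫ φ) V = φ.app V (ZeroScheme.sv M s V) := rfl

end Iso

section Effective

variable (D : Divisor X)

/-- For an effective divisor, any representative of a germ lies in `O_{X,y}`. -/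
theorem mem_range_of_isEffectiveAt {y : X} (hD : IsEffectiveAt D y) (g : (KStalk X y)ˣ)
    (hg : D.1 y = QuotientGroup.mk g) :
    ∃ ρ : X.presheaf.stalk y, ρ ∈ nonZeroDivisors (X.presheaf.stalk y) ∧
      algebraMap (X.presheaf.stalk y) (KStalk X y) ρ = g := by
  obtain ⟨a, ha⟩ := hD
  have h1 : (QuotientGroup.mk (IsLocalization.map_units (KStalk X y) a).unit : Germ X y) =
      QuotientGroup.mk g := ha.symm.trans hg
  rw [QuotientGroup.eq] at h1
  obtain ⟨u, hu⟩ := h1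
  have h2 := congrArg Units.val hu
  have h3 : algebraMap (X.presheaf.stalk y) (KStalk X y) u =
      ((IsLocalization.map_units (KStalk X y) a).unit⁻¹ : (KStalk X y)ˣ).1 * g := h2
  refine ⟨a * u, mul_mem (regStalk_le_nonZeroDivisors y a.2) u.isUnit.mem_nonZeroDivisors, ?_⟩
  rw [map_mul, h3, ← mul_assoc]
  have h4 : algebraMap (X.presheaf.stalk y) (KStalk X y) a *
      ((IsLocalization.map_units (KStalk X y) a).unit⁻¹ : (KStalk X y)ˣ).1 = 1 :=
    (IsLocalization.map_units (KStalk X y) a).mul_val_inv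
  rw [h4, one_mul]

theorem divCond_one (hD : IsEffective D) (y : X) : DivCond D y 1 := by
  intro g hg
  obtain ⟨ρ, -, hρ⟩ := mem_range_of_isEffectiveAt D (hD y) g hg
  exact ⟨ρ, by rw [one_mul]; exact hρ⟩

/-- the section `1` of `O_X(D)` for an effective divisor `D`. -/
noncomputable def oneSec (hD : IsEffective D) (U : X.Opens) : Γ(divMod D, U) :=
  ⟨1, ⟨kLoc_one X U, fun y => divCond_one D hD y.1⟩⟩

theorem oneSec_apply (hD : IsEffective D) (U : X.Opens) (y : U) : (oneSec D hD U).1 y = 1 := rfl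

/-- An effective divisor is locally the class of a regular function. -/
theorem exists_regular_of_effective (hD : IsEffective D) {U : X.Opens} (f : (Γ(kmod X, U))ˣ)
    (hf : ∀ y : U, D.1 y.1 = germOf f y) :
    ∃ a : Γ(X, U), a ∈ regSub X U ∧ toK X U a = f.1 := by
  have h1 : ∀ y : U, ∃ ρ : X.presheaf.stalk y.1, ρ ∈ nonZeroDivisors (X.presheaf.stalk y.1) ∧
      algebraMap (X.presheaf.stalk y.1) (KStalk X y.1) ρ = f.1.1 y := fun y =>
    mem_range_of_isEffectiveAt D (hD y.1) (Units.map (evalK X U y).toMonoidHom f) (hf y)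
  obtain ⟨a, ha⟩ := exists_toK_eq f.1 (fun y => by obtain ⟨ρ, -, hρ⟩ := h1 y; exact ⟨ρ, hρ⟩)
  refine ⟨a, fun y => ?_, ha⟩
  obtain ⟨ρ, hρ, hρ'⟩ := h1 y
  have h2 : (toK X U a).1 y = f.1.1 y := congrArg (fun t : Γ(kmod X, U) => t.1 y) ha
  rw [toK_apply, ← hρ'] at h2
  have h3 : X.presheaf.germ U y.1 y.2 a = ρ := algebraMap_KStalk_injective y.1 h2
  rw [h3]
  exact hρ

end Effective

end Groth.Agent.Lib.Helper97.MeroLib
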