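import Groth.Agent.Lib.Helper97.MeroLib
import Groth.Agent.Lib.Helper11.TensorBasis
import Groth.Agent.Lib.Helper42.QCohAffineSections
import Mathlib

/-! Helper library (helper97), part 2: the Cartier divisor of a nonzero section of an invertible
module on an integral scheme, and the isomorphism `L ≅ O_X(D)`. -/

set_option autoImplicit false
universe u
open CategoryTheory AlgebraicGeometry TopologicalSpace Opposite
open Groth.Agent.Lib.Helper45 Groth.Agent.Lib.Helper49 Groth.Agent.Lib.Helper11.GenLocus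

namespace Groth.Agent.Lib.Helper97.MeroLib

open Mero ZeroScheme

variable {X : Scheme.{u}}

section KUnit

variable {V : X.Opens}

theorem kLoc_inv (c : regSub X V) :
    (kLoc X).pred (fun y : V => (LocalizedModule.mk 1 (regGerm y c) : KStalk X y.1)) :=
  fun x => ⟨V, x.2, 𝟙 _, 1, c, fun y => mk_congr (map_one _).symm rfl⟩

/-- `1/c` as a section of `K_X`. -/
noncomputable def invK (c : regSub X V) : Γ(kmod X, V) :=
  ⟨fun y => LocalizedModule.mk 1 (regGerm y c), kLoc_inv c⟩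

theorem invK_apply (c : regSub X V) (y : V) : (invK c).1 y = LocalizedModule.mk 1 (regGerm y c) := rfl

theorem toK_mul_invK (c : regSub X V) : toK X V c.1 * invK c = 1 :=
  Subtype.ext (funext fun y => by
    change (LocalizedModule.mk (X.presheaf.germ V y.1 y.2 c.1) 1 : KStalk X y.1) *
      LocalizedModule.mk 1 (regGerm y c) = 1
    exact LocalizedModule.mk_mul_mk.trans
      ((mk_congr (by rw [mul_one]) (by rw [one_mul])).trans (mk_self_eq_one (regGerm y c))))

/-- a regular section as a unit of `Γ(V, K_X)`. -/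
noncomputable def toKUnit (c : regSub X V) : (Γ(kmod X, V))ˣ :=
  ⟨toK X V c.1, invK c, toK_mul_invK c, by rw [mul_comm]; exact toK_mul_invK c⟩

theorem toKUnit_val (c : regSub X V) : (toKUnit c).1 = toK X V c.1 := rfl

theorem toKUnit_inv (c : regSub X V) : ((toKUnit c)⁻¹).1 = invK c := rfl

theorem germOf_toKUnit (c : regSub X V) (y : V) :
    germOf (toKUnit c) y =
      QuotientGroup.mk (IsLocalization.map_units (KStalk X y.1) (regGerm y c)).unit :=
  congrArg _ (Units.ext rfl)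

end KUnit

section Datum

variable (L : X.Modules) (s : Coh.structureModule X ⟶ L)

/-- a local trivialisation of `(L, s)`: a basis `τ` of `L` over `W` and the (regular) coefficient
`c` of `s`. -/
structure Datum where
  W : X.Opens
  τ : Γ(L, W)
  c : Γ(X, W)
  hτ : IsBasisOn L W τ
  hc : c ∈ regSub X W
  hs : sv L s W = c • τ

variable {L s}

theorem mem_regSub_of_ne_zero [IsIntegral X] {W : X.Opens} {c : Γ(X, W)} (hc : c ≠ 0) :
    c ∈ regSub X W := by
  intro y
  apply mem_nonZeroDivisors_of_ne_zero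
  intro h0
  apply hc
  apply germ_injective_of_isIntegral X y.1 y.2
  rw [h0, map_zero]

theorem exists_datum [IsIntegral X] (hL : PicF.IsInvertible L) (hs : s ≠ 0) (y : X) :
    ∃ d : Datum L s, y ∈ d.W := by
  obtain ⟨W, hyW, τ, hτ⟩ := exists_isBasisOn_of_isInvertible hL y
  obtain ⟨c, hc⟩ := hτ.exists_eq_smul (sv L s W)
  refine ⟨⟨W, τ, c, hτ, mem_regSub_of_ne_zero ?_, hc.symm⟩, hyW⟩
  intro h0
  apply hs
  apply eq_zero_of_sv
  apply sv_eq_zero_of hL (V := W) ⟨y, hyW⟩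
  rw [← hc, h0, zero_smul]

/-- two local trivialisations differ by a unit. -/
theorem Datum.exists_unit (d d' : Datum L s) {N : X.Opens} (h : N ≤ d.W) (h' : N ≤ d'.W) :
    ∃ u : Γ(X, N), IsUnit u ∧ mres L h d.τ = u • mres L h' d'.τ ∧
      fres h' d'.c = fres h d.c * u := by
  obtain ⟨u, hu⟩ := (d'.hτ.mono h').exists_eq_smul (mres L h d.τ)
  have hunit : IsUnit u := isUnit_of_isBasisOn_smul (d'.hτ.mono h') u (by rw [hu]; exact d.hτ.mono h)
  refine ⟨u, hunit, hu.symm, ?_⟩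
  apply (d'.hτ.mono h').eq_of_smul_eq
  have h1 : mres L h (sv L s d.W) = mres L h' (sv L s d'.W) := by rw [mres_sv, mres_sv]
  rw [d.hs, d'.hs, mres_smul, mres_smul, ← hu, smul_smul] at h1
  exact h1.symm

/-- coefficients of a common section with respect to two local trivialisations. -/
theorem Datum.cross (d d' : Datum L s) {N : X.Opens} (h : N ≤ d.W) (h' : N ≤ d'.W)
    (r r' : Γ(X, N)) (hr : r • mres L h d.τ = r' • mres L h' d'.τ) :
    r * fres h' d'.c = r' * fres h d.c := by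
  obtain ⟨u, -, hu, hc⟩ := d.exists_unit d' h h'
  have h1 : r' = r * u := by
    apply (d'.hτ.mono h').eq_of_smul_eq
    rw [← hr, hu, smul_smul]
  rw [hc, h1]
  ring

end Datum

section Div

variable {L : X.Modules} {s : Coh.structureModule X ⟶ L}

/-- the class in `K_{X,y}ˣ/O_{X,y}ˣ` of the coefficient of `s`. -/
noncomputable def Datum.cls (d : Datum L s) (y : X) (hy : y ∈ d.W) : Germ X y :=
  QuotientGroup.mk (IsLocalization.map_units (KStalk X y) (regGerm ⟨y, hy⟩ ⟨d.c, d.hc⟩)).unit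

theorem Datum.cls_eq (d d' : Datum L s) (y : X) (hy : y ∈ d.W) (hy' : y ∈ d'.W) :
    d.cls y hy = d'.cls y hy' := by
  obtain ⟨u, hu, -, hc⟩ := d.exists_unit d' (inf_le_left : d.W ⊓ d'.W ≤ d.W) inf_le_right
  have hyN : y ∈ d.W ⊓ d'.W := ⟨hy, hy'⟩
  have h1 := congrArg (X.presheaf.germ (d.W ⊓ d'.W) y hyN) hc
  rw [map_mul, germ_fres, germ_fres] at h1
  have hu' : IsUnit (X.presheaf.germ (d.W ⊓ d'.W) y hyN u) := hu.map (X.presheaf.germ _ y hyN).hom
  unfold Datum.cls
  rw [QuotientGroup.eq]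
  refine ⟨hu'.unit, ?_⟩
  rw [eq_inv_mul_iff_mul_eq]
  apply Units.ext
  change algebraMap (X.presheaf.stalk y) (KStalk X y) (X.presheaf.germ d.W y hy d.c) *
    algebraMap (X.presheaf.stalk y) (KStalk X y) (X.presheaf.germ (d.W ⊓ d'.W) y hyN u) =
    algebraMap (X.presheaf.stalk y) (KStalk X y) (X.presheaf.germ d'.W y hy' d'.c)
  rw [← map_mul, ← h1]

variable [IsIntegral X] (hL : PicF.IsInvertible L) (hs : s ≠ 0)

noncomputable def datumAt (y : X) : Datum L s := Classical.choose (exists_datum hL hs y)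

theorem mem_datumAt (y : X) : y ∈ (datumAt hL hs y).W := Classical.choose_spec (exists_datum hL hs y)

/-- the germs of the Cartier divisor of `s`. -/
noncomputable def divFun (y : X) : Germ X y := (datumAt hL hs y).cls y (mem_datumAt hL hs y)

theorem divFun_eq (d : Datum L s) (y : X) (hy : y ∈ d.W) : divFun hL hs y = d.cls y hy :=
  Datum.cls_eq _ _ y _ hy

/-- the Cartier divisor of the nonzero section `s` of the invertible module `L`. -/
noncomputable def theDiv : Divisor X :=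
  ⟨divFun hL hs, fun x => ⟨(datumAt hL hs x).W, mem_datumAt hL hs x,
    toKUnit ⟨(datumAt hL hs x).c, (datumAt hL hs x).hc⟩, fun y =>
      (divFun_eq hL hs (datumAt hL hs x) y.1 y.2).trans (germOf_toKUnit _ y).symm⟩⟩

theorem theDiv_apply (d : Datum L s) (y : X) (hy : y ∈ d.W) :
    (theDiv hL hs).1 y = d.cls y hy := divFun_eq hL hs d y hy

theorem theDiv_eq_germOf (d : Datum L s) (y : d.W) :
    (theDiv hL hs).1 y.1 = germOf (toKUnit ⟨d.c, d.hc⟩) y :=
  (theDiv_apply hL hs d y.1 y.2).trans (germOf_toKUnit _ y).symm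

theorem isDivOfIdeal_theDiv : IsDivOfIdeal (theDiv hL hs) (PicF2.zeroScheme L s) := by
  intro x
  obtain ⟨d, hxd⟩ := exists_datum hL hs x
  obtain ⟨U, hU, hxU, hUle⟩ := (Opens.isBasis_iff_nbhd.mp X.isBasis_affineOpens) hxd
  have hc : fres hUle d.c ∈ regSub X U := regSub_res (homOfLE hUle) d.hc
  refine ⟨⟨U, hU⟩, hxU, fres hUle d.c, hc, ?_, ?_⟩
  · rw [ideal_zeroScheme L s hL ⟨U, hU⟩]
    refine zI_of_basis (d.hτ.mono hUle) ?_
    rw [← mres_sv L s hUle, d.hs, mres_smul]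
  · intro y
    rw [theDiv_apply hL hs d y.1 (hUle y.2)]
    unfold Datum.cls
    refine congrArg _ (Units.ext ?_)
    change algebraMap (X.presheaf.stalk y.1) (KStalk X y.1) (X.presheaf.germ d.W y.1 (hUle y.2) d.c) =
      algebraMap (X.presheaf.stalk y.1) (KStalk X y.1) (X.presheaf.germ U y.1 y.2 (fres hUle d.c))
    rw [germ_fres]

end Div

section Phi

variable {L : X.Modules} {s : Coh.structureModule X ⟶ L}

/-- the coefficient of `m` with respect to the basis of a local trivialisation. -/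
noncomputable def Datum.coeff (d : Datum L s) {U : X.Opens} (m : Γ(L, U)) : Γ(X, d.W ⊓ U) :=
  Classical.choose ((d.hτ.mono inf_le_left).exists_eq_smul (mres L inf_le_right m))

theorem Datum.coeff_spec (d : Datum L s) {U : X.Opens} (m : Γ(L, U)) :
    d.coeff m • mres L inf_le_left d.τ = mres L inf_le_right m :=
  Classical.choose_spec ((d.hτ.mono inf_le_left).exists_eq_smul (mres L inf_le_right m))

/-- converse of `divCond_mul_mem`. -/
theorem divCond_of_mul_mem (D : Divisor X) {U : X.Opens} (f : (Γ(kmod X, U))ˣ)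
    (hf : ∀ y : U, D.1 y.1 = germOf f y) (y : U) {t : KStalk X y.1}
    (h : t * f.1.1 y ∈ (algebraMap (X.presheaf.stalk y.1) (KStalk X y.1)).range) :
    DivCond D y.1 t := by
  intro g hg
  obtain ⟨u, hu⟩ := exists_unit_of_germ_eq D f hf y g hg
  have h1 : t * g = (t * f.1.1 y) * algebraMap (X.presheaf.stalk y.1) (KStalk X y.1) u := by
    rw [hu, mul_assoc, ← mul_assoc (f.1.1 y), unit_mul_inv_apply, one_mul]
  rw [h1]
  exact mul_mem h ⟨u, rfl⟩

variable [IsIntegral X] (hL : PicF.IsInvertible L) (hs : s ≠ 0)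

/-- the value at `y` of the image of `m` in `K_X`: `r/c` where `m = r τ`, `s = c τ`. -/
noncomputable def φval {U : X.Opens} (m : Γ(L, U)) (y : U) : KStalk X y.1 :=
  LocalizedModule.mk
    (X.presheaf.germ ((datumAt hL hs y.1).W ⊓ U) y.1 ⟨mem_datumAt hL hs y.1, y.2⟩
      ((datumAt hL hs y.1).coeff m))
    (regGerm ⟨y.1, mem_datumAt hL hs y.1⟩ ⟨(datumAt hL hs y.1).c, (datumAt hL hs y.1).hc⟩)

theorem φval_eq_mk {U : X.Opens} (m : Γ(L, U)) (d : Datum L s) {N : X.Opens} (hNd : N ≤ d.W)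
    (hNU : N ≤ U) (y : N) (r : Γ(X, N)) (hr : mres L hNU m = r • mres L hNd d.τ) :
    φval hL hs m ⟨y.1, hNU y.2⟩ =
      LocalizedModule.mk (X.presheaf.germ N y.1 y.2 r) (regGerm ⟨y.1, hNd y.2⟩ ⟨d.c, d.hc⟩) := by
  set d₀ := datumAt hL hs y.1 with hd₀
  have hy₀ : y.1 ∈ d₀.W := mem_datumAt hL hs y.1
  have hN' : N ⊓ (d₀.W ⊓ U) ≤ d.W := inf_le_left.trans hNd
  have hN'₀ : N ⊓ (d₀.W ⊓ U) ≤ d₀.W := inf_le_right.trans inf_le_left
  have hyN' : y.1 ∈ N ⊓ (d₀.W ⊓ U) := ⟨y.2, hy₀, hNU y.2⟩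
  have h1 : fres (inf_le_left : N ⊓ (d₀.W ⊓ U) ≤ N) r • mres L hN' d.τ =
      fres (inf_le_right : N ⊓ (d₀.W ⊓ U) ≤ d₀.W ⊓ U) (d₀.coeff m) • mres L hN'₀ d₀.τ := by
    have e1 := congrArg (mres L (inf_le_left : N ⊓ (d₀.W ⊓ U) ≤ N)) hr
    have e2 := congrArg (mres L (inf_le_right : N ⊓ (d₀.W ⊓ U) ≤ d₀.W ⊓ U)) (d₀.coeff_spec m)
    rw [mres_smul, mres_mres, mres_mres] at e1 e2
    rw [← e1, e2]
  have h2 := d.cross d₀ hN' hN'₀ _ _ h1
  have h3 := congrArg (X.presheaf.germ (N ⊓ (d₀.W ⊓ U)) y.1 hyN') h2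
  rw [map_mul, map_mul, germ_fres, germ_fres, germ_fres, germ_fres] at h3
  unfold φval
  rw [LocalizedModule.mk_eq]
  refine ⟨1, ?_⟩
  simp only [one_smul, Submonoid.smul_def, smul_eq_mul]
  rw [mul_comm, ← h3, mul_comm]

end Phi

section PhiHom

variable {L : X.Modules} {s : Coh.structureModule X ⟶ L}
variable [IsIntegral X] (hL : PicF.IsInvertible L) (hs : s ≠ 0)

/-- `φval` computed with the trivialisation chosen at a point, on the neighbourhood `d.W ⊓ U`. -/
theorem φval_eq_coeff {U : X.Opens} (m : Γ(L, U)) (d : Datum L s) (y : (d.W ⊓ U : X.Opens)) :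
    φval hL hs m ⟨y.1, y.2.2⟩ =
      LocalizedModule.mk (X.presheaf.germ (d.W ⊓ U) y.1 y.2 (d.coeff m))
        (regGerm ⟨y.1, y.2.1⟩ ⟨d.c, d.hc⟩) :=
  φval_eq_mk hL hs m d inf_le_left inf_le_right y (d.coeff m) (d.coeff_spec m).symm

theorem kLoc_φval {U : X.Opens} (m : Γ(L, U)) : (kLoc X).pred (fun y : U => φval hL hs m y) := by
  intro x
  obtain ⟨d, hxd⟩ := exists_datum hL hs x.1
  refine ⟨d.W ⊓ U, ⟨hxd, x.2⟩, homOfLE inf_le_right, d.coeff m,
    ⟨fres inf_le_left d.c, regSub_res (homOfLE inf_le_left) d.hc⟩, fun z => ?_⟩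
  refine (φval_eq_coeff hL hs m d z).trans (mk_congr rfl ?_)
  change X.presheaf.germ d.W z.1 z.2.1 d.c =
    X.presheaf.germ (d.W ⊓ U) z.1 z.2 (fres (inf_le_left : d.W ⊓ U ≤ d.W) d.c)
  rw [germ_fres]

theorem divCond_φval {U : X.Opens} (m : Γ(L, U)) (y : U) :
    DivCond (theDiv hL hs) y.1 (φval hL hs m y) := by
  obtain ⟨d, hyd⟩ := exists_datum hL hs y.1
  refine divCond_of_mul_mem (theDiv hL hs) (toKUnit ⟨d.c, d.hc⟩) (theDiv_eq_germOf hL hs d)
    ⟨y.1, hyd⟩ ?_
  have e : φval hL hs m y * (toKUnit ⟨d.c, d.hc⟩).1.1 ⟨y.1, hyd⟩ =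
      LocalizedModule.mk (X.presheaf.germ (d.W ⊓ U) y.1 ⟨hyd, y.2⟩ (d.coeff m)) 1 := by
    rw [φval_eq_coeff hL hs m d ⟨y.1, hyd, y.2⟩]
    refine LocalizedModule.mk_mul_mk.trans ?_
    rw [LocalizedModule.mk_eq]
    refine ⟨1, ?_⟩
    simp only [one_smul, Submonoid.smul_def, smul_eq_mul, Submonoid.coe_mul, OneMemClass.coe_one,
      mul_one, one_mul]
    exact mul_comm _ _
  exact ⟨_, e.symm⟩

/-- the map `L(U) → O_X(D)(U)`. -/
noncomputable def φfun (U : X.Opens) (m : Γ(L, U)) : Γ(divMod (theDiv hL hs), U) :=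
  ⟨fun y => φval hL hs m y, ⟨kLoc_φval hL hs m, fun y => divCond_φval hL hs m y⟩⟩

theorem φfun_apply (U : X.Opens) (m : Γ(L, U)) (y : U) : (φfun hL hs U m).1 y = φval hL hs m y := rfl

theorem φval_add {U : X.Opens} (m m' : Γ(L, U)) (y : U) :
    φval hL hs (m + m') y = φval hL hs m y + φval hL hs m' y := by
  obtain ⟨d, hyd⟩ := exists_datum hL hs y.1
  have h1 : mres L (inf_le_right : d.W ⊓ U ≤ U) (m + m') =
      (d.coeff m + d.coeff m') • mres L inf_le_left d.τ := by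
    rw [map_add, add_smul, d.coeff_spec, d.coeff_spec]
  rw [φval_eq_mk hL hs (m + m') d inf_le_left inf_le_right ⟨y.1, hyd, y.2⟩ _ h1,
    φval_eq_coeff hL hs m d ⟨y.1, hyd, y.2⟩, φval_eq_coeff hL hs m' d ⟨y.1, hyd, y.2⟩, map_add]
  exact (Localization.add_mk_self _ _ _).symm

theorem φval_smul {U : X.Opens} (a : Γ(X, U)) (m : Γ(L, U)) (y : U) :
    φval hL hs (a • m) y = X.presheaf.germ U y.1 y.2 a • φval hL hs m y := by
  obtain ⟨d, hyd⟩ := exists_datum hL hs y.1
  have h1 : mres L (inf_le_right : d.W ⊓ U ≤ U) (a • m) =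
      (fres inf_le_right a * d.coeff m) • mres L inf_le_left d.τ := by
    rw [mres_smul, mul_smul, d.coeff_spec]
  rw [φval_eq_mk hL hs (a • m) d inf_le_left inf_le_right ⟨y.1, hyd, y.2⟩ _ h1,
    φval_eq_coeff hL hs m d ⟨y.1, hyd, y.2⟩, map_mul, germ_fres, LocalizedModule.smul'_mk]
  rfl

theorem φval_res {U V : X.Opens} (h : V ≤ U) (m : Γ(L, U)) (y : V) :
    φval hL hs (mres L h m) y = φval hL hs m ⟨y.1, h y.2⟩ := by
  obtain ⟨d, hyd⟩ := exists_datum hL hs y.1
  have h1 : mres L ((inf_le_right : d.W ⊓ V ≤ V).trans h) m =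
      d.coeff (mres L h m) • mres L inf_le_left d.τ := by
    rw [d.coeff_spec, mres_mres]
  rw [φval_eq_coeff hL hs (mres L h m) d ⟨y.1, hyd, y.2⟩]
  exact (φval_eq_mk hL hs m d inf_le_left ((inf_le_right : d.W ⊓ V ≤ V).trans h)
    ⟨y.1, hyd, y.2⟩ _ h1).symm

end PhiHom

section PhiMor

variable {L : X.Modules} {s : Coh.structureModule X ⟶ L}
variable [IsIntegral X] (hL : PicF.IsInvertible L) (hs : s ≠ 0)

/-- the additive map `L(U) → O_X(D)(U)`. -/
noncomputable def φadd (U : X.Opens) : Γ(L, U) →+ Γ(divMod (theDiv hL hs), U) :=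
  AddMonoidHom.mk' (φfun hL hs U) (fun m m' => Subtype.ext (funext fun y => φval_add hL hs m m' y))

theorem φadd_apply (U : X.Opens) (m : Γ(L, U)) (y : U) : (φadd hL hs U m).1 y = φval hL hs m y := rfl

/-- the morphism `L ⟶ O_X(D)`, `m ↦ m/s`. -/
noncomputable def φ : L ⟶ divMod (theDiv hL hs) :=
  ⟨PresheafOfModules.homMk (M₁ := L.val) (M₂ := (divMod (theDiv hL hs)).val)
    { app := fun U => AddCommGrpCat.ofHom (φadd hL hs U.unop)
      naturality := fun {U V} i => by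
        ext m
        refine Subtype.ext (funext fun y => ?_)
        exact φval_res hL hs (V := V.unop) (U := U.unop) i.unop.le m y }
    (fun U r m => Subtype.ext (funext fun y => φval_smul hL hs r m y))⟩

theorem φ_app (U : X.Opens) (m : Γ(L, U)) : (φ hL hs).app U m = φadd hL hs U m := rfl

end PhiMor

section PhiIso

theorem isInvertible_divMod (D : Divisor X) : PicF.IsInvertible (divMod D) := by
  apply isInvertible_of_forall_exists_isBasisOn
  intro x
  obtain ⟨U, hx, f, hf⟩ := D.2 x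
  exact ⟨U, hx, _, isBasisOn_invSec D f hf⟩

variable {L : X.Modules} {s : Coh.structureModule X ⟶ L}
variable [IsIntegral X] (hL : PicF.IsInvertible L) (hs : s ≠ 0)

/-- `φ` sends the basis `τ` to the basis `1/c`. -/
theorem φ_app_basis (d : Datum L s) {U : X.Opens} (hUle : U ≤ d.W) :
    (φ hL hs).app U (mres L hUle d.τ) =
      mres (divMod (theDiv hL hs)) hUle
        (invSec (theDiv hL hs) (toKUnit ⟨d.c, d.hc⟩) (theDiv_eq_germOf hL hs d)) := by
  refine Subtype.ext (funext fun y => ?_)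
  have h1 : mres L (le_refl U) (mres L hUle d.τ) = (1 : Γ(X, U)) • mres L hUle d.τ := by
    rw [mres_self, one_smul]
  have h2 := φval_eq_mk hL hs (mres L hUle d.τ) d hUle (le_refl U) y 1 h1
  refine h2.trans (mk_congr (map_one _) rfl)

theorem isIso_φ : IsIso (φ hL hs) := by
  haveI := isQuasicoherent_of_isInvertible hL
  haveI := isQuasicoherent_of_isInvertible (isInvertible_divMod (theDiv hL hs))
  apply Groth.Agent.Lib.Helper42.isIso_of_app_bijective_of_cover
  intro x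
  obtain ⟨d, hxd⟩ := exists_datum hL hs x
  obtain ⟨U, hU, hxU, hUle⟩ := (Opens.isBasis_iff_nbhd.mp X.isBasis_affineOpens) hxd
  refine ⟨U, hU, hxU, ?_⟩
  have hb := d.hτ.mono hUle
  have hb' := (isBasisOn_invSec (theDiv hL hs) (toKUnit ⟨d.c, d.hc⟩)
    (theDiv_eq_germOf hL hs d)).mono hUle
  have key : ∀ r : Γ(X, U), (φ hL hs).app U (r • mres L hUle d.τ) =
      r • mres (divMod (theDiv hL hs)) hUle
        (invSec (theDiv hL hs) (toKUnit ⟨d.c, d.hc⟩) (theDiv_eq_germOf hL hs d)) := by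
    intro r
    rw [Scheme.Modules.Hom.app_smul, φ_app_basis]
  constructor
  · intro m m' hmm'
    obtain ⟨r, rfl⟩ := hb.exists_eq_smul m
    obtain ⟨r', rfl⟩ := hb.exists_eq_smul m'
    rw [key, key] at hmm'
    rw [hb'.eq_of_smul_eq hmm']
  · intro t
    obtain ⟨r, rfl⟩ := hb'.exists_eq_smul t
    exact ⟨r • mres L hUle d.τ, key r⟩

theorem φ_sv_top :
    (divModι (theDiv hL hs)).app ⊤ ((φ hL hs).app ⊤ (SecTwist.val s ⊤)) = 1 := by
  refine Subtype.ext (funext fun y => ?_)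
  obtain ⟨d, hyd⟩ := exists_datum hL hs y.1
  have h1 : mres L (le_top : d.W ≤ ⊤) (sv L s ⊤) = d.c • mres L (le_refl d.W) d.τ := by
    rw [mres_sv, mres_self, d.hs]
  have h2 := φval_eq_mk hL hs (sv L s ⊤) d (le_refl d.W) le_top ⟨y.1, hyd⟩ d.c h1
  refine h2.trans ?_
  exact mk_self_eq_one (regGerm ⟨y.1, hyd⟩ ⟨d.c, d.hc⟩)

end PhiIso

end Groth.Agent.Lib.Helper97.MeroLib
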