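import Groth.Agent.Lib.Helper97.MeroLib2
import Mathlib

/-! Helper library (helper97), part 3: stalks of invertible modules and local fractions of
meromorphic sections of an invertible module; the ideal of denominators. -/

set_option autoImplicit false
universe u
open CategoryTheory AlgebraicGeometry TopologicalSpace Opposite
open Groth.Agent.Lib.Helper45 Groth.Agent.Lib.Helper49 Groth.Agent.Lib.Helper11.GenLocus

namespace Groth.Agent.Lib.Helper97.MeroLib

open Mero ZeroScheme

variable {X : Scheme.{u}} {L : X.Modules}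

section Stalk

theorem germ_mres {V W : X.Opens} (h : V ≤ W) (x : X) (hx : x ∈ V) (m : Γ(L, W)) :
    L.presheaf.germ V x hx (mres L h m) = L.presheaf.germ W x (h hx) m :=
  TopCat.Presheaf.germ_res_apply L.presheaf (homOfLE h) x hx m

/-- the germ of a local basis is torsion-free. -/
theorem eq_zero_of_germ_basis_smul {W : X.Opens} {τ : Γ(L, W)} (hτ : IsBasisOn L W τ) (x : X)
    (hx : x ∈ W) (ρ : X.presheaf.stalk x) (h : ρ • L.presheaf.germ W x hx τ = 0) : ρ = 0 := by
  obtain ⟨N, hxN, r, hr⟩ := TopCat.Presheaf.exists_germ_eq X.presheaf ρ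
  have hx' : x ∈ N ⊓ W := ⟨hxN, hx⟩
  have e : L.presheaf.germ (N ⊓ W) x hx' (fres (inf_le_left : N ⊓ W ≤ N) r • mres L (inf_le_right : N ⊓ W ≤ W) τ) =
      L.presheaf.germ (N ⊓ W) x hx' 0 := by
    rw [Mero.germ_smul, germ_fres, germ_mres, hr, h, map_zero]
  obtain ⟨N', hxN', iU, iV, hUV⟩ := TopCat.Presheaf.germ_eq L.presheaf x hx' hx' _ _ e
  have h1 : mres L iU.le (fres (inf_le_left : N ⊓ W ≤ N) r • mres L (inf_le_right : N ⊓ W ≤ W) τ) = 0 := by
    have h0 : mres L iU.le (fres (inf_le_left : N ⊓ W ≤ N) r • mres L (inf_le_right : N ⊓ W ≤ W) τ) = mres L iU.le 0 := hUV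
    rw [h0, map_zero]
  rw [mres_smul, mres_mres, fres_fres] at h1
  have h2 : fres (iU.le.trans inf_le_left) r = 0 :=
    (hτ.mono (iU.le.trans inf_le_right)).eq_of_smul_eq (by rw [h1, zero_smul])
  rw [← hr, ← germ_fres (iU.le.trans inf_le_left) x hxN' r, h2, map_zero]

/-- the germ of a local basis generates the stalk. -/
theorem exists_germ_basis_smul {W : X.Opens} {τ : Γ(L, W)} (hτ : IsBasisOn L W τ) (x : X)
    (hx : x ∈ W) (μ : L.presheaf.stalk x) :
    ∃ ρ : X.presheaf.stalk x, ρ • L.presheaf.germ W x hx τ = μ := by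
  obtain ⟨N, hxN, m, hm⟩ := TopCat.Presheaf.exists_germ_eq L.presheaf μ
  have hx' : x ∈ N ⊓ W := ⟨hxN, hx⟩
  obtain ⟨r, hr⟩ := (hτ.mono (inf_le_right : N ⊓ W ≤ W)).exists_eq_smul (mres L inf_le_left m)
  refine ⟨X.presheaf.germ (N ⊓ W) x hx' r, ?_⟩
  rw [← hm, ← germ_mres (inf_le_left : N ⊓ W ≤ N) x hx' m, ← hr, Mero.germ_smul, germ_mres]

/-- stalks of an invertible module are torsion-free. -/
theorem eq_zero_of_regular_smul (hL : PicF.IsInvertible L) (x : X) (v : X.presheaf.stalk x)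
    (hv : v ∈ nonZeroDivisors (X.presheaf.stalk x)) (μ : L.presheaf.stalk x) (h : v • μ = 0) :
    μ = 0 := by
  obtain ⟨W, hxW, τ, hτ⟩ := exists_isBasisOn_of_isInvertible hL x
  obtain ⟨ρ, rfl⟩ := exists_germ_basis_smul hτ x hxW μ
  rw [smul_smul] at h
  have h1 := eq_zero_of_germ_basis_smul hτ x hxW _ h
  have hρ : ρ = 0 := (mul_left_mem_nonZeroDivisors_eq_zero_iff hv).mp h1
  rw [hρ, zero_smul]

/-- cross-multiplication in `S_x⁻¹ L_x` for `L` invertible. -/
theorem smul_eq_of_mk_eq (hL : PicF.IsInvertible L) (x : X) {μ μ' : L.presheaf.stalk x}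
    {b b' : regStalk X x} (h : (LocalizedModule.mk μ b : MStalk L x) = LocalizedModule.mk μ' b') :
    (b' : X.presheaf.stalk x) • μ = (b : X.presheaf.stalk x) • μ' := by
  obtain ⟨v, hv⟩ := LocalizedModule.mk_eq.mp h
  simp only [Submonoid.smul_def] at hv
  have h1 : (v : X.presheaf.stalk x) • ((b' : X.presheaf.stalk x) • μ - (b : X.presheaf.stalk x) • μ') = 0 := by
    rw [smul_sub, hv, sub_self]
  have h2 := eq_zero_of_regular_smul hL x v (regStalk_le_nonZeroDivisors x v.2) _ h1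
  exact sub_eq_zero.mp h2

end Stalk

section Frac

variable (s : Γ(Mero.merMod L, ⊤))

/-- `s` is the fraction `m / b` on `V`. -/
def IsFrac (V : X.Opens) (m : Γ(L, V)) (b : regSub X V) : Prop :=
  ∀ y : V, s.1 ⟨y.1, Opens.mem_top y.1⟩ =
    LocalizedModule.mk (L.presheaf.germ V y.1 y.2 m) (regGerm y b)

theorem exists_isFrac (x : X) :
    ∃ (V : X.Opens) (_ : x ∈ V) (m : Γ(L, V)) (b : regSub X V), IsFrac s V m b := by
  obtain ⟨V, hxV, i, m, b, h⟩ := s.2 ⟨x, Opens.mem_top x⟩
  exact ⟨V, hxV, m, b, fun y => h y⟩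

/-- restriction of a regular section. -/
noncomputable def regRes {V W : X.Opens} (h : V ≤ W) (b : regSub X W) : regSub X V :=
  ⟨fres h b.1, regSub_res (homOfLE h) b.2⟩

theorem regRes_val {V W : X.Opens} (h : V ≤ W) (b : regSub X W) : (regRes h b).1 = fres h b.1 := rfl

variable {s}

theorem IsFrac.mono {V W : X.Opens} (h : V ≤ W) {m : Γ(L, W)} {b : regSub X W}
    (H : IsFrac s W m b) : IsFrac s V (mres L h m) (regRes h b) := fun y => by
  rw [H ⟨y.1, h y.2⟩]
  exact mk_congr (germ_mres h y.1 y.2 m).symm (germ_fres h y.1 y.2 b.1).symm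

variable (s)

/-- `f · s = m` at the point `x`. -/
def DenomAt (U : X.Opens) (f : Γ(X, U)) (m : Γ(L, U)) (x : U) : Prop :=
  X.presheaf.germ U x.1 x.2 f • s.1 ⟨x.1, Opens.mem_top x.1⟩ =
    LocalizedModule.mkLinearMap (regStalk X x.1) _ (L.presheaf.germ U x.1 x.2 m)

theorem mem_denomIdeal_iff {U : X.Opens} (f : Γ(X, U)) :
    f ∈ denomIdeal L s U ↔ ∃ m : Γ(L, U), ∀ x : U, DenomAt s U f m x := Iff.rfl

variable {s}

theorem DenomAt.smul {U : X.Opens} {f : Γ(X, U)} {m : Γ(L, U)} {x : U} (h : DenomAt s U f m x)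
    (c : Γ(X, U)) : DenomAt s U (c * f) (c • m) x := by
  unfold DenomAt at h ⊢
  rw [map_mul, mul_smul, h, Mero.germ_smul, map_smul]

theorem denomAt_res {V U : X.Opens} (h : V ≤ U) (f : Γ(X, U)) (m : Γ(L, U)) (x : V) :
    DenomAt s V (fres h f) (mres L h m) x ↔ DenomAt s U f m ⟨x.1, h x.2⟩ := by
  unfold DenomAt
  rw [germ_fres, germ_mres]

/-- Lemma A: on an open where `s = m₀ / b`, the identity `f · s = m` is `f m₀ = b m`. -/
theorem IsFrac.denomAt_iff (hL : PicF.IsInvertible L) {V : X.Opens} {m₀ : Γ(L, V)} {b : regSub X V}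
    (H : IsFrac s V m₀ b) (f : Γ(X, V)) (m : Γ(L, V)) :
    (∀ x : V, DenomAt s V f m x) ↔ f • m₀ = b.1 • m := by
  constructor
  · intro h
    apply section_ext_germ L V
    intro x hx
    have h1 := h ⟨x, hx⟩
    unfold DenomAt at h1
    rw [H ⟨x, hx⟩, LocalizedModule.smul'_mk] at h1
    have h2 := smul_eq_of_mk_eq hL x h1
    rw [Mero.germ_smul, Mero.germ_smul]
    simpa using h2
  · intro h x
    unfold DenomAt
    rw [H x, LocalizedModule.smul'_mk, ← Mero.germ_smul, h, Mero.germ_smul]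
    exact LocalizedModule.mk_cancel (regGerm x b) _

end Frac

section Extend

variable {s : Γ(Mero.merMod L, ⊤)}

theorem exists_affine_isFrac (s : Γ(Mero.merMod L, ⊤)) {U : X.Opens} (x : X) (hx : x ∈ U) :
    ∃ (W : X.Opens) (_ : IsAffineOpen W) (_ : x ∈ W) (_ : W ≤ U) (m : Γ(L, W)) (b : regSub X W),
      IsFrac s W m b := by
  obtain ⟨V, hxV, m₀, b, HF⟩ := exists_isFrac s x
  obtain ⟨W, hW, hxW, hWle⟩ := (Opens.isBasis_iff_nbhd.mp X.isBasis_affineOpens)
    (show x ∈ V ⊓ U from ⟨hxV, hx⟩)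
  exact ⟨W, hW, hxW, hWle.trans inf_le_right, _, _, HF.mono (hWle.trans inf_le_left)⟩

/-- the local step of the extension lemma. -/
theorem exists_pow_denomAt_local (hL : PicF.IsInvertible L) {U W : X.Opens} (hW : IsAffineOpen W)
    (hWU : W ≤ U) {m₁ : Γ(L, W)} {b₁ : regSub X W} (HF : IsFrac s W m₁ b₁)
    (g f : Γ(X, U)) (m : Γ(L, U))
    (H : ∀ x : U, x.1 ∈ X.basicOpen g → DenomAt s U f m x) :
    ∃ n : ℕ, ∀ y : U, y.1 ∈ W → DenomAt s U (g ^ n * f) (g ^ n • m) y := by
  have := isQuasicoherent_of_isInvertible hL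
  have hle : X.basicOpen (fres hWU g) ≤ W := X.basicOpen_le _
  have h0 : mres L hle (fres hWU f • m₁ - b₁.1 • mres L hWU m) = 0 := by
    have h1 := ((HF.mono hle).denomAt_iff hL (fres hle (fres hWU f)) (mres L hle (mres L hWU m))).mp
      (fun y => by
        rw [denomAt_res, denomAt_res]
        apply H
        have h3 : y.1 ∈ W ⊓ X.basicOpen g := basicOpen_fres hWU g ▸ y.2
        exact h3.2)
    rw [map_sub, mres_smul, mres_smul, h1, regRes_val, sub_self]
  obtain ⟨n, hn⟩ := exists_pow_smul_eq_zero_of_isCompact L hW.isCompact (fres hWU g) _ h0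
  refine ⟨n, fun y hy => ?_⟩
  have hn' : (fres hWU g ^ n * fres hWU f) • m₁ = b₁.1 • (fres hWU g ^ n • mres L hWU m) := by
    rw [mul_smul, smul_comm b₁.1]
    exact sub_eq_zero.mp (by rw [← smul_sub]; exact hn)
  have h2 := (HF.denomAt_iff hL _ _).mpr hn' ⟨y.1, hy⟩
  rw [← map_pow, ← map_mul, ← mres_smul, denomAt_res] at h2
  exact h2

/-- the extension lemma: if `f · s = m` on `D(g)`, then `g^M f · s = g^M m` on all of `U`. -/
theorem exists_pow_denomAt (hL : PicF.IsInvertible L) {U : X.Opens} (hU : IsCompact (U : Set X))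
    (g f : Γ(X, U)) (m : Γ(L, U))
    (H : ∀ x : U, x.1 ∈ X.basicOpen g → DenomAt s U f m x) :
    ∃ M : ℕ, ∀ x : U, DenomAt s U (g ^ M * f) (g ^ M • m) x := by
  have key : ∃ M : ℕ, ∀ x : U, x.1 ∈ (U : Set X) → DenomAt s U (g ^ M * f) (g ^ M • m) x := by
    refine hU.induction_on
      (p := fun S => ∃ M : ℕ, ∀ x : U, x.1 ∈ S → DenomAt s U (g ^ M * f) (g ^ M • m) x) ?_ ?_ ?_ ?_
    · exact ⟨0, fun x hx => hx.elim⟩
    · rintro S T hST ⟨M, hM⟩
      exact ⟨M, fun x hx => hM x (hST hx)⟩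
    · rintro S T ⟨M, hM⟩ ⟨M', hM'⟩
      refine ⟨M + M', fun x hx => ?_⟩
      rcases hx with hx | hx
      · have := (hM x hx).smul (g ^ M')
        rw [← mul_assoc, ← pow_add, smul_smul, ← pow_add, add_comm M' M] at this
        exact this
      · have := (hM' x hx).smul (g ^ M)
        rw [← mul_assoc, ← pow_add, smul_smul, ← pow_add] at this
        exact this
    · intro x hx
      obtain ⟨W, hW, hxW, hWU, m₁, b₁, HF⟩ := exists_affine_isFrac s x hx
      obtain ⟨n, hn⟩ := exists_pow_denomAt_local hL hW hWU HF g f m H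
      exact ⟨W.1, mem_nhdsWithin_of_mem_nhds (W.2.mem_nhds hxW), n, hn⟩
  obtain ⟨M, hM⟩ := key
  exact ⟨M, fun x => hM x x.2⟩

end Extend

section IdealSheaf

variable (s : Γ(Mero.merMod L, ⊤))

/-- the ideals of denominators are compatible with passing to basic opens. -/
theorem denomIdeal_map_basicOpen (hL : PicF.IsInvertible L) {U : X.Opens} (hU : IsAffineOpen U)
    (g : Γ(X, U)) :
    (denomIdeal L s U).map (X.presheaf.map (homOfLE (X.basicOpen_le g)).op).hom =
      denomIdeal L s (X.basicOpen g) := by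
  have := isQuasicoherent_of_isInvertible hL
  have hle : X.basicOpen g ≤ U := X.basicOpen_le g
  change (denomIdeal L s U).map (fres hle) = _
  apply le_antisymm
  · rw [Ideal.map_le_iff_le_comap]
    rintro f ⟨m, hm⟩
    exact ⟨mres L hle m, fun x => (denomAt_res hle f m x).mpr (hm ⟨x.1, hle x.2⟩)⟩
  · rintro f' ⟨m', hm'⟩
    have := hU.isLocalization_basicOpen g
    obtain ⟨n, f, hf⟩ := IsLocalization.Away.surj g f'
    obtain ⟨N, m, hm⟩ := exists_restrict_eq_pow_smul_of_qcqs L hU.isCompact hU.isQuasiSeparated g m'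
    have hf' : fres hle f = f' * fres hle g ^ n := hf.symm
    have H : ∀ x : U, x.1 ∈ X.basicOpen g → DenomAt s U (g ^ N * f) (g ^ n • m) x := by
      intro x hx
      rw [← denomAt_res hle _ _ ⟨x.1, hx⟩, map_mul, map_pow, mres_smul, map_pow, hm, hf', smul_smul]
      have h3 := DenomAt.smul (hm' ⟨x.1, hx⟩) (fres hle g ^ N * fres hle g ^ n)
      have e1 : fres hle g ^ N * (f' * fres hle g ^ n) = fres hle g ^ N * fres hle g ^ n * f' := by
        ring
      have e2 : fres hle g ^ n * fres hle g ^ N = fres hle g ^ N * fres hle g ^ n := mul_comm _ _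
      rw [e1, e2]
      exact h3
    obtain ⟨M, hM⟩ := exists_pow_denomAt hL hU.isCompact g _ _ H
    have h1 : fres hle (g ^ M * (g ^ N * f)) ∈ (denomIdeal L s U).map (fres hle) :=
      Ideal.mem_map_of_mem _ ⟨_, hM⟩
    have hunit : IsUnit (fres hle g) := IsLocalization.Away.algebraMap_isUnit g
    have e3 : fres hle (g ^ M * (g ^ N * f)) =
        (fres hle g ^ M * fres hle g ^ N * fres hle g ^ n) * f' := by
      rw [map_mul, map_mul, map_pow, map_pow, hf']
      ring
    rw [e3] at h1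
    exact (Ideal.unit_mul_mem_iff_mem _ (((hunit.pow M).mul (hunit.pow N)).mul (hunit.pow n))).mp h1

/-- the quasi-coherent ideal sheaf of denominators of a meromorphic section of an invertible
module. -/
noncomputable def denomSheaf (hL : PicF.IsInvertible L) : X.IdealSheafData where
  ideal U := denomIdeal L s U.1
  map_ideal_basicOpen U g := denomIdeal_map_basicOpen s hL U.2 g

theorem denomSheaf_ideal (hL : PicF.IsInvertible L) (U : X.affineOpens) :
    (denomSheaf s hL).ideal U = denomIdeal L s U.1 := rfl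

variable {s} in
theorem IsFrac.mem_denomIdeal {W : X.Opens} {m : Γ(L, W)} {b : regSub X W} (HF : IsFrac s W m b) :
    b.1 ∈ denomIdeal L s W :=
  ⟨m, fun y => by
    rw [HF y, LocalizedModule.smul'_mk]
    exact LocalizedModule.mk_cancel (regGerm y b) _⟩

/-- the closed subset cut out by the ideal of denominators is nowhere dense. -/
theorem interior_support_denomSheaf (hL : PicF.IsInvertible L) :
    interior ((denomSheaf s hL).support : Set X) = ∅ := by
  rw [Set.eq_empty_iff_forall_notMem]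
  intro x hx
  rw [mem_interior] at hx
  obtain ⟨N, hN, hNo, hxN⟩ := hx
  obtain ⟨W, hW, hxW, hWN, m, b, HF⟩ := exists_affine_isFrac s (U := ⟨N, hNo⟩) x hxN
  have hb : b.1 ∈ denomIdeal L s W := HF.mem_denomIdeal
  have hbot : X.basicOpen b.1 = ⊥ := by
    rw [eq_bot_iff]
    intro y hy
    have hyW : y ∈ W := X.basicOpen_le _ hy
    have hys : y ∈ (denomSheaf s hL).support := hN (hWN hyW)
    rw [Scheme.IdealSheafData.mem_support_iff_of_mem (U := ⟨W, hW⟩) hyW] at hys
    exact ((Scheme.mem_zeroLocus_iff X _ y).mp hys b.1 hb hy).elim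
  obtain ⟨n, hn⟩ := (Scheme.isNilpotent_iff_basicOpen_eq_bot_of_isCompact hW.isCompact b.1).mpr hbot
  have h1 : X.presheaf.germ W x hxW b.1 ∈ nonZeroDivisors (X.presheaf.stalk x) := b.2 ⟨x, hxW⟩
  have h2 : (X.presheaf.germ W x hxW b.1) ^ n = 0 := by rw [← map_pow, hn, map_zero]
  have h3 := pow_mem h1 n
  rw [h2] at h3
  exact zero_notMem_nonZeroDivisors h3

end IdealSheaf

end Groth.Agent.Lib.Helper97.MeroLib
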