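import Groth.Agent.Lib.Helper97.MeroLib3

/-! Helper library (helper97): on a reduced scheme whose irreducible components are locally finite,
every invertible module has a regular meromorphic section. -/

set_option autoImplicit false
universe u
open CategoryTheory AlgebraicGeometry TopologicalSpace Opposite
open Groth.Agent.Lib.Helper45 Groth.Agent.Lib.Helper49 Groth.Agent.Lib.Helper11.GenLocus

namespace Groth.Agent.Lib.Helper97.MeroLib

open Mero ZeroScheme

variable {X : Scheme.{u}}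

section Gen

/-- generic points of irreducible components. -/
def IsGen (η : X) : Prop := closure ({η} : Set X) ∈ irreducibleComponents X

theorem exists_isGen_specializes (y : X) : ∃ η : X, IsGen η ∧ η ⤳ y := by
  have hirr : IsIrreducible (irreducibleComponent y) := isIrreducible_irreducibleComponent
  have hcl : IsClosed (irreducibleComponent y) := isClosed_irreducibleComponent
  obtain ⟨η, hη⟩ := QuasiSober.sober hirr hcl
  refine ⟨η, ?_, ?_⟩
  · unfold IsGen
    rw [hη.def]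
    exact irreducibleComponent_mem_irreducibleComponents y
  · rw [specializes_iff_mem_closure, hη.def]
    exact mem_irreducibleComponent

theorem IsGen.eq_of_specializes {η ζ : X} (hη : IsGen η) (h : ζ ⤳ η) : ζ = η := by
  have h1 : closure ({η} : Set X) ⊆ closure {ζ} := specializes_iff_closure_subset.mp h
  have h2 : IsIrreducible (closure ({ζ} : Set X)) := isIrreducible_singleton.closure
  have h3 : closure ({η} : Set X) = closure {ζ} := hη.eq_of_le h2 h1
  have g1 : IsGenericPoint η (closure ({η} : Set X)) := rfl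
  have g2 : IsGenericPoint ζ (closure ({η} : Set X)) := h3.symm
  exact g2.eq g1

theorem IsGen.eq_of_mem_closure {η ζ : X} (hη : IsGen η) (h : η ∈ closure ({ζ} : Set X)) :
    ζ = η :=
  hη.eq_of_specializes (specializes_iff_mem_closure.mpr h)

/-- on a reduced scheme, a function vanishing at all generic points is zero. -/
theorem eq_zero_of_germ_isGen [IsReduced X] {V : X.Opens} (g : Γ(X, V))
    (h : ∀ (η : X) (hη : η ∈ V), IsGen η → X.presheaf.germ V η hη g = 0) : g = 0 := by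
  rw [← AlgebraicGeometry.basicOpen_eq_bot_iff, eq_bot_iff]
  intro y hy
  obtain ⟨η, hη, hηy⟩ := exists_isGen_specializes y
  have hηg : η ∈ X.basicOpen g := hηy.mem_open (X.basicOpen g).2 hy
  have hηV : η ∈ V := X.basicOpen_le g hηg
  have hunit : IsUnit (X.presheaf.germ V η hηV g) := (X.mem_basicOpen g η hηV).mp hηg
  rw [h η hηV hη] at hunit
  exact (not_isUnit_zero hunit).elim

/-- at a generic point of a reduced scheme the local ring is a field. -/
theorem germ_eq_zero_of_isGen [IsReduced X] {η : X} (hη : IsGen η) {U : X.Opens} (hηU : η ∈ U)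
    (δ : Γ(X, U)) (h : η ∉ X.basicOpen δ) : X.presheaf.germ U η hηU δ = 0 := by
  have hF := isField_stalk_of_closure_mem_irreducibleComponents (X := X) η hη
  by_contra h0
  apply h
  rw [X.mem_basicOpen δ η hηU]
  obtain ⟨b, hb⟩ := hF.mul_inv_cancel h0
  exact IsUnit.of_mul_eq_one b hb

/-- a function which is a unit at every generic point is a regular section. -/
theorem mem_regSub_of_isUnit_germ_isGen [IsReduced X] {U : X.Opens} (c : Γ(X, U))
    (h : ∀ (ζ : X) (hζ : ζ ∈ U), IsGen ζ → IsUnit (X.presheaf.germ U ζ hζ c)) : c ∈ regSub X U := by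
  intro x
  change X.presheaf.germ U x.1 x.2 c ∈ nonZeroDivisors _
  rw [mem_nonZeroDivisors_iff_right]
  intro ρ hρ
  obtain ⟨N, hxN, r, hr⟩ := TopCat.Presheaf.exists_germ_eq X.presheaf ρ
  have hx' : x.1 ∈ N ⊓ U := ⟨hxN, x.2⟩
  have e : X.presheaf.germ (N ⊓ U) x.1 hx' (fres inf_le_left r * fres inf_le_right c) =
      X.presheaf.germ (N ⊓ U) x.1 hx' 0 := by
    rw [map_mul, germ_fres, germ_fres, hr, hρ, map_zero]
  obtain ⟨N', hxN', iU, iV, hUV⟩ := TopCat.Presheaf.germ_eq X.presheaf x.1 hx' hx' _ _ e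
  have h1 : fres (iU.le.trans inf_le_left) r * fres (iU.le.trans inf_le_right) c = 0 := by
    have h0 : fres iU.le (fres (inf_le_left : N ⊓ U ≤ N) r * fres (inf_le_right : N ⊓ U ≤ U) c) =
        fres iU.le 0 := hUV
    rw [map_mul, fres_fres, fres_fres, map_zero] at h0
    exact h0
  have h2 : fres (iU.le.trans inf_le_left) r = 0 := by
    apply eq_zero_of_germ_isGen
    intro ζ hζ hgen
    have h3 := congrArg (X.presheaf.germ N' ζ hζ) h1
    rw [map_mul, germ_fres, germ_fres, map_zero] at h3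
    rw [germ_fres]
    exact (h ζ _ hgen).mul_left_eq_zero.mp h3
  rw [← hr, ← germ_fres (iU.le.trans inf_le_left) x.1 hxN' r, h2, map_zero]

end Gen

section Coeff

variable {L : X.Modules}

/-- a function on an affine open which is a unit at one generic point and vanishes at the finitely
many others. -/
theorem exists_sep {U : X.Opens} (hU : IsAffineOpen U) (hfin : {η : X | η ∈ U ∧ IsGen η}.Finite)
    {η : X} (hηU : η ∈ U) (hη : IsGen η) :
    ∃ δ : Γ(X, U), η ∈ X.basicOpen δ ∧ ∀ ζ : X, ζ ∈ U → IsGen ζ → ζ ≠ η → ζ ∉ X.basicOpen δ := by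
  let S : Set X := {ζ : X | ζ ∈ U ∧ IsGen ζ ∧ ζ ≠ η}
  have hS : S.Finite := hfin.subset (fun ζ hζ => ⟨hζ.1, hζ.2.1⟩)
  have hcl : IsClosed (⋃ ζ ∈ S, closure ({ζ} : Set X)) :=
    hS.isClosed_biUnion (fun _ _ => isClosed_closure)
  have hηO : η ∈ (U : Set X) ∩ (⋃ ζ ∈ S, closure ({ζ} : Set X))ᶜ := by
    refine ⟨hηU, ?_⟩
    simp only [Set.mem_compl_iff, Set.mem_iUnion, not_exists]
    intro ζ hζ hmem
    exact hζ.2.2 (hη.eq_of_mem_closure hmem)
  let O : X.Opens := ⟨(U : Set X) ∩ (⋃ ζ ∈ S, closure ({ζ} : Set X))ᶜ, U.2.inter hcl.isOpen_compl⟩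
  obtain ⟨δ, hδle, hηδ⟩ := hU.exists_basicOpen_le (V := O) ⟨η, hηO⟩ hηU
  refine ⟨δ, hηδ, fun ζ hζU hζ hne hζδ => ?_⟩
  have h1 : ζ ∈ (⋃ ζ ∈ S, closure ({ζ} : Set X))ᶜ := (hδle hζδ).2
  apply h1
  simp only [Set.mem_iUnion]
  exact ⟨ζ, ⟨hζU, hζ, hne⟩, subset_closure rfl⟩

/-- near a point of an affine open `U`, a local basis of `L` is a fraction of functions on `U`
times a given basis of `L` over `U`. -/
theorem exists_coeff_at {U : X.Opens} (hU : IsAffineOpen U) {t : Γ(L, U)} (ht : IsBasisOn L U t)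
    {W : X.Opens} {τ : Γ(L, W)} (hτ : IsBasisOn L W τ) {η : X} (hηU : η ∈ U) (hηW : η ∈ W) :
    ∃ α β : Γ(X, U), η ∈ X.basicOpen α ∧ η ∈ X.basicOpen β ∧
      X.presheaf.germ U η hηU β • L.presheaf.germ W η hηW τ =
        X.presheaf.germ U η hηU α • L.presheaf.germ U η hηU t := by
  obtain ⟨f, hfle, hηf⟩ := hU.exists_basicOpen_le (V := U ⊓ W) ⟨η, hηU, hηW⟩ hηU
  have hN : X.basicOpen f ≤ U := X.basicOpen_le f
  have hNW : X.basicOpen f ≤ W := hfle.trans inf_le_right
  obtain ⟨u, hu⟩ := (ht.mono hN).exists_eq_smul (mres L hNW τ)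
  have hunit : IsUnit u := isUnit_of_isBasisOn_smul (ht.mono hN) u (by rw [hu]; exact hτ.mono hNW)
  have := hU.isLocalization_basicOpen f
  obtain ⟨k, α, hα⟩ := IsLocalization.Away.surj f u
  have hα' : u * fres hN f ^ k = fres hN α := hα
  have hfunit : IsUnit (X.presheaf.germ U η hηU f) := (X.mem_basicOpen f η hηU).mp hηf
  refine ⟨α, f ^ k, ?_, ?_, ?_⟩
  · rw [X.mem_basicOpen α η hηU, ← germ_fres hN η hηf α, ← hα', map_mul, map_pow, germ_fres]
    exact (hunit.map (X.presheaf.germ _ η hηf).hom).mul (hfunit.pow k)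
  · rw [X.mem_basicOpen (f ^ k) η hηU, map_pow]
    exact hfunit.pow k
  · rw [← germ_mres hNW η hηf τ, ← hu, ← germ_fres hN η hηf (f ^ k), ← germ_fres hN η hηf α,
      ← germ_mres hN η hηf t, ← Mero.germ_smul, ← Mero.germ_smul, smul_smul, ← hα', map_pow,
      mul_comm]

end Coeff

section FracCoeff

variable {L : X.Modules}

theorem exists_frac_coeff [IsReduced X] {U : X.Opens} (hU : IsAffineOpen U)
    (hfin : {η : X | η ∈ U ∧ IsGen η}.Finite) {t : Γ(L, U)} (ht : IsBasisOn L U t)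
    (W : X → X.Opens) (hW : ∀ η, η ∈ W η) (τ : ∀ η, Γ(L, W η))
    (hτ : ∀ η, IsBasisOn L (W η) (τ η)) :
    ∃ a b : regSub X U, ∀ (η : X) (hηU : η ∈ U), IsGen η →
      X.presheaf.germ U η hηU a.1 • L.presheaf.germ U η hηU t =
        X.presheaf.germ U η hηU b.1 • L.presheaf.germ (W η) η (hW η) (τ η) := by
  classical
  choose! δ hδ1 hδ2 using fun (η : X) (h : η ∈ U ∧ IsGen η) => exists_sep hU hfin h.1 h.2
  choose! α β hα hβ hαβ using fun (η : X) (h : η ∈ U) => exists_coeff_at hU ht (hτ η) h (hW η)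
  have key : ∀ (γ : X → Γ(X, U)) (ζ : X) (hζU : ζ ∈ U), IsGen ζ →
      X.presheaf.germ U ζ hζU (∑ η ∈ hfin.toFinset, δ η * γ η) =
        X.presheaf.germ U ζ hζU (δ ζ) * X.presheaf.germ U ζ hζU (γ ζ) := by
    intro γ ζ hζU hζ
    rw [map_sum, Finset.sum_eq_single ζ, map_mul]
    · intro η hηS hne
      have hη : η ∈ U ∧ IsGen η := hfin.mem_toFinset.mp hηS
      rw [map_mul, germ_eq_zero_of_isGen hζ hζU (δ η) (hδ2 η hη ζ hζU hζ hne.symm), zero_mul]
    · intro hζS
      exact (hζS (hfin.mem_toFinset.mpr ⟨hζU, hζ⟩)).elim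
  have hunitδ : ∀ (ζ : X) (hζU : ζ ∈ U), IsGen ζ → IsUnit (X.presheaf.germ U ζ hζU (δ ζ)) :=
    fun ζ hζU hζ => (X.mem_basicOpen (δ ζ) ζ hζU).mp (hδ1 ζ ⟨hζU, hζ⟩)
  have ha : (∑ η ∈ hfin.toFinset, δ η * α η) ∈ regSub X U := by
    apply mem_regSub_of_isUnit_germ_isGen
    intro ζ hζU hζ
    rw [key α ζ hζU hζ]
    exact (hunitδ ζ hζU hζ).mul ((X.mem_basicOpen (α ζ) ζ hζU).mp (hα ζ hζU))
  have hb : (∑ η ∈ hfin.toFinset, δ η * β η) ∈ regSub X U := by
    apply mem_regSub_of_isUnit_germ_isGen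
    intro ζ hζU hζ
    rw [key β ζ hζU hζ]
    exact (hunitδ ζ hζU hζ).mul ((X.mem_basicOpen (β ζ) ζ hζU).mp (hβ ζ hζU))
  refine ⟨⟨_, ha⟩, ⟨_, hb⟩, fun ζ hζU hζ => ?_⟩
  change X.presheaf.germ U ζ hζU (∑ η ∈ hfin.toFinset, δ η * α η) • _ =
    X.presheaf.germ U ζ hζU (∑ η ∈ hfin.toFinset, δ η * β η) • _
  rw [key α ζ hζU hζ, key β ζ hζU hζ, mul_smul, mul_smul, hαβ ζ hζU]

end FracCoeff

section Global

/-- local data for the construction of a regular meromorphic section: a basis `t` of `L` on `U` and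
regular functions `a`, `b` with `a t = b τ_η` at every generic point `η` of `U`. -/
structure RDatum (L : X.Modules) (W : X → X.Opens) (hW : ∀ η, η ∈ W η) (τ : ∀ η, Γ(L, W η)) where
  U : X.Opens
  t : Γ(L, U)
  a : regSub X U
  b : regSub X U
  ht : IsBasisOn L U t
  h : ∀ (η : X) (hηU : η ∈ U), IsGen η →
      X.presheaf.germ U η hηU a.1 • L.presheaf.germ U η hηU t =
        X.presheaf.germ U η hηU b.1 • L.presheaf.germ (W η) η (hW η) (τ η)

variable {L : X.Modules} {W : X → X.Opens} {hW : ∀ η, η ∈ W η} {τ : ∀ η, Γ(L, W η)}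

theorem exists_rdatum [IsReduced X] (hL : PicF.IsInvertible L)
    (hfinX : ∀ x : X, ∃ U : X.Opens, IsAffineOpen U ∧ x ∈ U ∧ {η : X | η ∈ U ∧ IsGen η}.Finite)
    (hτ : ∀ η, IsBasisOn L (W η) (τ η)) (x : X) : ∃ d : RDatum L W hW τ, x ∈ d.U := by
  obtain ⟨U₀, hU₀, hxU₀, hfin₀⟩ := hfinX x
  obtain ⟨W₀, hxW₀, t₀, ht₀⟩ := exists_isBasisOn_of_isInvertible hL x
  obtain ⟨f, hfle, hxf⟩ := hU₀.exists_basicOpen_le (V := U₀ ⊓ W₀) ⟨x, hxU₀, hxW₀⟩ hxU₀
  have hU : IsAffineOpen (X.basicOpen f) := hU₀.basicOpen f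
  have hfin : {η : X | η ∈ X.basicOpen f ∧ IsGen η}.Finite :=
    hfin₀.subset (fun η hη => ⟨X.basicOpen_le f hη.1, hη.2⟩)
  have ht := ht₀.mono (hfle.trans inf_le_right)
  obtain ⟨a, b, hab⟩ := exists_frac_coeff hU hfin ht W hW τ hτ
  exact ⟨⟨X.basicOpen f, _, a, b, ht, hab⟩, hxf⟩

theorem RDatum.indep [IsReduced X] (d d' : RDatum L W hW τ) (y : X) (hy : y ∈ d.U)
    (hy' : y ∈ d'.U) :
    (LocalizedModule.mk (L.presheaf.germ d.U y hy (d.a.1 • d.t)) (regGerm ⟨y, hy⟩ d.b) :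
        MStalk L y) =
      LocalizedModule.mk (L.presheaf.germ d'.U y hy' (d'.a.1 • d'.t)) (regGerm ⟨y, hy'⟩ d'.b) := by
  have hN : d.U ⊓ d'.U ≤ d.U := inf_le_left
  have hN' : d.U ⊓ d'.U ≤ d'.U := inf_le_right
  have key : fres hN' d'.b.1 • (fres hN d.a.1 • mres L hN d.t) =
      fres hN d.b.1 • (fres hN' d'.a.1 • mres L hN' d'.t) := by
    obtain ⟨g, hg⟩ := (d.ht.mono hN).exists_eq_smul
      (fres hN' d'.b.1 • (fres hN d.a.1 • mres L hN d.t) -
        fres hN d.b.1 • (fres hN' d'.a.1 • mres L hN' d'.t))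
    have hg0 : g = 0 := by
      apply eq_zero_of_germ_isGen
      intro η hη hgen
      apply eq_zero_of_germ_basis_smul (d.ht.mono hN) η hη
      rw [← Mero.germ_smul, hg, map_sub, sub_eq_zero, Mero.germ_smul, Mero.germ_smul,
        Mero.germ_smul, Mero.germ_smul, germ_fres, germ_fres, germ_fres, germ_fres, germ_mres,
        germ_mres, d.h η hη.1 hgen, d'.h η hη.2 hgen, smul_smul, smul_smul, mul_comm]
    rw [hg0, zero_smul] at hg
    exact sub_eq_zero.mp hg.symm
  have h1 := congrArg (L.presheaf.germ (d.U ⊓ d'.U) y ⟨hy, hy'⟩) key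
  rw [Mero.germ_smul, Mero.germ_smul, Mero.germ_smul, Mero.germ_smul, germ_fres, germ_fres,
    germ_fres, germ_fres, germ_mres, germ_mres] at h1
  rw [LocalizedModule.mk_eq]
  refine ⟨1, ?_⟩
  rw [one_smul, one_smul, Mero.germ_smul, Mero.germ_smul]
  exact h1

variable [IsReduced X] (hL : PicF.IsInvertible L)
  (hfinX : ∀ x : X, ∃ U : X.Opens, IsAffineOpen U ∧ x ∈ U ∧ {η : X | η ∈ U ∧ IsGen η}.Finite)
  (hτ : ∀ η, IsBasisOn L (W η) (τ η))

noncomputable def rdatumAt (y : X) : RDatum L W hW τ :=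
  Classical.choose (exists_rdatum hL hfinX hτ y)

theorem mem_rdatumAt (y : X) : y ∈ (rdatumAt (hW := hW) hL hfinX hτ y).U :=
  Classical.choose_spec (exists_rdatum hL hfinX hτ y)

/-- the value at `y` of the regular meromorphic section. -/
noncomputable def sval (y : X) : MStalk L y :=
  LocalizedModule.mk
    (L.presheaf.germ _ y (mem_rdatumAt (hW := hW) hL hfinX hτ y)
      ((rdatumAt (hW := hW) hL hfinX hτ y).a.1 • (rdatumAt (hW := hW) hL hfinX hτ y).t))
    (regGerm ⟨y, mem_rdatumAt (hW := hW) hL hfinX hτ y⟩ (rdatumAt (hW := hW) hL hfinX hτ y).b)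

theorem sval_eq (d : RDatum L W hW τ) (y : X) (hy : y ∈ d.U) :
    sval (hW := hW) hL hfinX hτ y =
      LocalizedModule.mk (L.presheaf.germ d.U y hy (d.a.1 • d.t)) (regGerm ⟨y, hy⟩ d.b) :=
  RDatum.indep _ d y _ hy

/-- the regular meromorphic section. -/
noncomputable def sMero : Γ(merMod L, ⊤) :=
  ⟨fun y => sval (hW := hW) hL hfinX hτ y.1, fun y =>
    ⟨(rdatumAt (hW := hW) hL hfinX hτ y.1).U, mem_rdatumAt (hW := hW) hL hfinX hτ y.1,
      homOfLE le_top, _, _,
      fun z => sval_eq (hW := hW) hL hfinX hτ (rdatumAt (hW := hW) hL hfinX hτ y.1) z.1 z.2⟩⟩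

theorem sMero_apply (y : X) :
    (sMero (hW := hW) hL hfinX hτ).1 ⟨y, Opens.mem_top y⟩ = sval (hW := hW) hL hfinX hτ y := rfl

omit [IsReduced X] in
theorem RDatum.regular (d : RDatum L W hW τ) (x : X) (hx : x ∈ d.U) (q : KStalk X x)
    (hq : q • (LocalizedModule.mk (L.presheaf.germ d.U x hx (d.a.1 • d.t))
      (regGerm ⟨x, hx⟩ d.b) : MStalk L x) = 0) : q = 0 := by
  induction q using LocalizedModule.induction_on with
  | h ρ σ =>
    have hq' := (LocalizedModule.mk_smul_mk ρ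
      (L.presheaf.germ d.U x hx (d.a.1 • d.t)) σ (regGerm ⟨x, hx⟩ d.b)).symm.trans hq
    rw [← LocalizedModule.zero_mk 1, LocalizedModule.mk_eq] at hq'
    obtain ⟨v, hv⟩ := hq'
    rw [smul_zero, smul_zero, one_smul, Mero.germ_smul, Submonoid.smul_def, smul_smul, smul_smul] at hv
    have h1 := eq_zero_of_germ_basis_smul d.ht x hx _ hv
    have hv' := regStalk_le_nonZeroDivisors x v.2
    have ha : X.presheaf.germ d.U x hx d.a.1 ∈ nonZeroDivisors (X.presheaf.stalk x) :=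
      d.a.2 ⟨x, hx⟩
    have h2 : ρ * X.presheaf.germ d.U x hx d.a.1 = 0 := by
      rw [mul_assoc] at h1
      exact (mul_left_mem_nonZeroDivisors_eq_zero_iff hv').mp h1
    have h3 : ρ = 0 := (mul_right_mem_nonZeroDivisors_eq_zero_iff ha).mp h2
    rw [h3, LocalizedModule.zero_mk]

theorem isRegularMero_sMero : IsRegularMero L (sMero (hW := hW) hL hfinX hτ) := by
  intro x q hq
  rw [sMero_apply] at hq
  have hx := mem_rdatumAt (hW := hW) hL hfinX hτ x
  rw [sval_eq (hW := hW) hL hfinX hτ (rdatumAt (hW := hW) hL hfinX hτ x) x hx] at hq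
  exact RDatum.regular _ x hx q hq

end Global

section Main

variable {L : X.Modules}

/-- **Main theorem**: on a reduced scheme whose generic points are locally finite, every invertible
module has a regular meromorphic section. -/
theorem hasRegularMero_of_locally_finite_gen [IsReduced X] (hL : PicF.IsInvertible L)
    (hfinX : ∀ x : X, ∃ U : X.Opens, IsAffineOpen U ∧ x ∈ U ∧ {η : X | η ∈ U ∧ IsGen η}.Finite) :
    HasRegularMero L := by
  choose W hW τ hτ using fun η => exists_isBasisOn_of_isInvertible hL η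
  exact ⟨sMero (hW := hW) hL hfinX hτ, isRegularMero_sMero hL hfinX hτ⟩

theorem finite_gen_of_irreducibleComponents_finite (U : X.Opens)
    (h : (irreducibleComponents ↥(U : Scheme.{u})).Finite) : {η : X | η ∈ U ∧ IsGen η}.Finite := by
  apply Set.Finite.of_finite_image
    (f := fun η => (U.ι : ↥(U : Scheme.{u}) → X) ⁻¹' closure ({η} : Set X))
  · apply h.subset
    rintro _ ⟨η, ⟨hηU, hη⟩, rfl⟩
    exact preimage_mem_irreducibleComponents hη U.ι.isOpenEmbedding
      ⟨η, subset_closure rfl, ⟨η, hηU⟩, rfl⟩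
  · rintro η ⟨hηU, hη⟩ η' ⟨hη'U, hη'⟩ heq
    have heq' : (U.ι : ↥(U : Scheme.{u}) → X) ⁻¹' closure ({η} : Set X) =
        (U.ι : ↥(U : Scheme.{u}) → X) ⁻¹' closure ({η'} : Set X) := heq
    have h0 : (⟨η, hηU⟩ : ↥(U : Scheme.{u})) ∈
        (U.ι : ↥(U : Scheme.{u}) → X) ⁻¹' closure ({η} : Set X) := subset_closure rfl
    have h1 : (⟨η, hηU⟩ : ↥(U : Scheme.{u})) ∈
        (U.ι : ↥(U : Scheme.{u}) → X) ⁻¹' closure ({η'} : Set X) := heq' ▸ h0
    exact (hη.eq_of_mem_closure h1).symm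

theorem finite_gen_of_finite_meeting (W : X.Opens)
    (h : {Z : Set X | Z ∈ irreducibleComponents X ∧ (Z ∩ (W : Set X)).Nonempty}.Finite) :
    {η : X | η ∈ W ∧ IsGen η}.Finite := by
  apply Set.Finite.of_finite_image (f := fun η => closure ({η} : Set X))
  · apply h.subset
    rintro _ ⟨η, ⟨hηW, hη⟩, rfl⟩
    exact ⟨hη, η, subset_closure rfl, hηW⟩
  · rintro η ⟨hηU, hη⟩ η' ⟨hη'U, hη'⟩ heq
    have heq' : closure ({η} : Set X) = closure ({η'} : Set X) := heq
    have h1 : η ∈ closure ({η'} : Set X) := heq' ▸ subset_closure rfl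
    exact (hη.eq_of_mem_closure h1).symm

end Main

end Groth.Agent.Lib.Helper97.MeroLib
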