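import Groth.Agent.Lib.Helper97.MeroTest
import Groth.Agent.Lib.Helper97.MeroRed

/-! Helper library (helper97): associated points of a locally Noetherian scheme detect the vanishing
of functions; regular meromorphic sections of invertible modules on locally Noetherian schemes. -/

set_option autoImplicit false
universe u
open CategoryTheory AlgebraicGeometry TopologicalSpace Opposite
open Groth.Agent.Lib.Helper45 Groth.Agent.Lib.Helper49 Groth.Agent.Lib.Helper11.GenLocus

namespace Groth.Agent.Lib.Helper97.MeroLib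

open Mero ZeroScheme

variable {X : Scheme.{u}}

/-- associated points of the structure sheaf. -/
def AssPt (y : X) : Prop :=
  IsAssociatedPrime (IsLocalRing.maximalIdeal (X.presheaf.stalk y)) (X.presheaf.stalk y)

section Affine

variable {U : X.Opens} (hU : IsAffineOpen U)

theorem algebraMap_stalk_eq (y : U) (f : Γ(X, U)) :
    algebraMap Γ(X, U) (X.presheaf.stalk y.1) f = X.presheaf.germ U y.1 y.2 f := rfl

include hU in
theorem germ_eq_zero_iff (y : U) (f : Γ(X, U)) :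
    X.presheaf.germ U y.1 y.2 f = 0 ↔ ∃ σ : Γ(X, U), σ ∉ (hU.primeIdealOf y).asIdeal ∧ σ * f = 0 := by
  have := hU.isLocalization_stalk y
  rw [← algebraMap_stalk_eq, IsLocalization.map_eq_zero_iff (hU.primeIdealOf y).asIdeal.primeCompl]
  constructor
  · rintro ⟨m, hm⟩
    exact ⟨m.1, m.2, hm⟩
  · rintro ⟨σ, hσ, h⟩
    exact ⟨⟨σ, hσ⟩, h⟩

include hU in
theorem isUnit_germ_iff (y : U) (f : Γ(X, U)) :
    IsUnit (X.presheaf.germ U y.1 y.2 f) ↔ f ∉ (hU.primeIdealOf y).asIdeal := by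
  have := hU.isLocalization_stalk y
  rw [← algebraMap_stalk_eq]
  exact IsLocalization.AtPrime.isUnit_to_map_iff _ (hU.primeIdealOf y).asIdeal f

include hU in
theorem assPt_iff [IsNoetherianRing Γ(X, U)] (y : U) :
    AssPt y.1 ↔ (hU.primeIdealOf y).asIdeal ∈ associatedPrimes Γ(X, U) Γ(X, U) := by
  have hloc := hU.isLocalization_stalk y
  have hlm : IsLocalizedModule (hU.primeIdealOf y).asIdeal.primeCompl
      (Algebra.linearMap Γ(X, U) (X.presheaf.stalk y.1)) :=
    (isLocalizedModule_iff_isLocalization' _ _).mpr hloc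
  have hunder : (IsLocalRing.maximalIdeal (X.presheaf.stalk y.1)).comap
      (algebraMap Γ(X, U) (X.presheaf.stalk y.1)) = (hU.primeIdealOf y).asIdeal :=
    IsLocalization.AtPrime.under_maximalIdeal _ _
  constructor
  · intro h
    have := Module.associatedPrimes.comap_mem_associatedPrimes_of_mem_associatedPrimes_of_isLocalizedModule_of_fg
      (hU.primeIdealOf y).asIdeal.primeCompl
      (Algebra.linearMap Γ(X, U) (X.presheaf.stalk y.1))
      (IsLocalRing.maximalIdeal (X.presheaf.stalk y.1)) h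
      ((isNoetherianRing_iff_ideal_fg _).mp inferInstance _)
    rwa [hunder] at this
  · intro h
    rw [← hunder] at h
    exact Module.associatedPrimes.mem_associatedPrimes_of_comap_mem_associatedPrimes_of_isLocalizedModule
      (hU.primeIdealOf y).asIdeal.primeCompl
      (Algebra.linearMap Γ(X, U) (X.presheaf.stalk y.1))
      (IsLocalRing.maximalIdeal (X.presheaf.stalk y.1)) h

end Affine

section Detect

theorem detects_assPt [IsLocallyNoetherian X] : Detects (AssPt (X := X)) := by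
  intro V g h
  apply TopCat.Presheaf.section_ext X.sheaf V
  intro x hx
  change X.presheaf.germ V x hx g = X.presheaf.germ V x hx 0
  rw [map_zero]
  obtain ⟨V', hV', hxV', hV'V⟩ := (Opens.isBasis_iff_nbhd.mp X.isBasis_affineOpens) hx
  have : IsNoetherianRing Γ(X, V') := IsLocallyNoetherian.component_noetherian ⟨V', hV'⟩
  rw [← germ_fres hV'V x hxV' g]
  by_contra hne
  have hg' : fres hV'V g ≠ 0 := fun h0 => hne (by rw [h0, map_zero])
  obtain ⟨P, hP, hle⟩ := exists_le_isAssociatedPrime_of_isNoetherianRing Γ(X, V') (fres hV'V g) hg'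
  obtain ⟨y, hy⟩ := exists_primeIdealOf_eq hV' ⟨P, hP.isPrime⟩
  have hass : AssPt y.1 := (assPt_iff hV' y).mpr (by rw [hy]; exact hP)
  have h0 := h y.1 (hV'V y.2) hass
  rw [← germ_fres hV'V y.1 y.2 g, germ_eq_zero_iff hV' y] at h0
  obtain ⟨σ, hσ, hσg⟩ := h0
  apply hσ
  rw [hy]
  apply hle
  rw [Submodule.mem_colon_singleton]
  simpa using hσg

end Detect

section NoEmb

variable {U : X.Opens} (hU : IsAffineOpen U)

include hU in
theorem specializes_of_primeIdealOf_le (y z : U)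
    (h : (hU.primeIdealOf z).asIdeal ≤ (hU.primeIdealOf y).asIdeal) : z.1 ⤳ y.1 := by
  have h1 : hU.primeIdealOf z ⤳ hU.primeIdealOf y :=
    (PrimeSpectrum.le_iff_specializes _ _).mp h
  have h2 := h1.map hU.fromSpec.continuous
  rwa [hU.fromSpec_primeIdealOf, hU.fromSpec_primeIdealOf] at h2

include hU in
theorem primeIdealOf_injective : Function.Injective hU.primeIdealOf := by
  intro y z h
  apply Subtype.ext
  rw [← hU.fromSpec_primeIdealOf y, ← hU.fromSpec_primeIdealOf z, h]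

include hU in
theorem finite_assPt [IsNoetherianRing Γ(X, U)] : {ζ : X | ζ ∈ U ∧ AssPt ζ}.Finite := by
  have h1 : {ζ : U | AssPt ζ.1}.Finite := by
    apply Set.Finite.of_finite_image (f := fun ζ : U => (hU.primeIdealOf ζ).asIdeal)
    · apply (associatedPrimes.finite Γ(X, U) Γ(X, U)).subset
      rintro _ ⟨ζ, hζ, rfl⟩
      exact (assPt_iff hU ζ).mp hζ
    · intro y _ z _ h
      exact primeIdealOf_injective hU (PrimeSpectrum.ext h)
  apply (h1.image Subtype.val).subset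
  rintro ζ ⟨hζU, hζ⟩
  exact ⟨⟨ζ, hζU⟩, hζ, rfl⟩

variable (hinc : ∀ η ζ : X, AssPt η → AssPt ζ → ζ ⤳ η → ζ = η)

include hU hinc in
/-- without embedded points, the associated points are the generic points. -/
theorem primeIdealOf_mem_minimalPrimes [IsNoetherianRing Γ(X, U)] (ζ : U) (hζ : AssPt ζ.1) :
    (hU.primeIdealOf ζ).asIdeal ∈ minimalPrimes Γ(X, U) := by
  obtain ⟨p', hp'min, hp'le⟩ :=
    Ideal.exists_minimalPrimes_le (bot_le : (⊥ : Ideal Γ(X, U)) ≤ (hU.primeIdealOf ζ).asIdeal)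
  have hp'ass : p' ∈ associatedPrimes Γ(X, U) Γ(X, U) := by
    apply Module.associatedPrimes.minimalPrimes_annihilator_subset_associatedPrimes Γ(X, U) Γ(X, U)
    have e : Module.annihilator Γ(X, U) Γ(X, U) = ⊥ := by
      rw [eq_bot_iff]
      intro a ha
      have := Module.mem_annihilator.mp ha 1
      simpa using this
    rw [e]
    exact hp'min
  obtain ⟨ζ', hζ'⟩ := exists_primeIdealOf_eq hU ⟨p', hp'min.1.1⟩
  have hass' : AssPt ζ'.1 := (assPt_iff hU ζ').mpr (by rw [hζ']; exact hp'ass)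
  have hsp : ζ'.1 ⤳ ζ.1 := specializes_of_primeIdealOf_le hU ζ ζ' (by rw [hζ']; exact hp'le)
  have heq : ζ' = ζ := Subtype.ext (hinc ζ.1 ζ'.1 hζ hass' hsp)
  rw [← heq, hζ']
  exact hp'min

include hU hinc in
theorem isNilpotent_germ_of_not_isUnit [IsNoetherianRing Γ(X, U)] (ζ : U) (hζ : AssPt ζ.1)
    (f : Γ(X, U)) (hf : ¬ IsUnit (X.presheaf.germ U ζ.1 ζ.2 f)) :
    IsNilpotent (X.presheaf.germ U ζ.1 ζ.2 f) := by
  have hmin := primeIdealOf_mem_minimalPrimes hU hinc ζ hζ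
  have := hU.isLocalization_stalk ζ
  have := Ring.KrullDimLE.of_isLocalization (hU.primeIdealOf ζ).asIdeal hmin (X.presheaf.stalk ζ.1)
  rw [Ring.KrullDimLE.isNilpotent_iff_mem_maximalIdeal]
  exact hf

end NoEmb

section Sep

/-- topological separation of finitely many pairwise non-specialising points by a function. -/
theorem exists_sep_of_finite {P : X → Prop} {U : X.Opens} (hU : IsAffineOpen U)
    (hfin : {η : X | η ∈ U ∧ P η}.Finite) {η : X} (hηU : η ∈ U)
    (hinc : ∀ ζ : X, ζ ∈ U → P ζ → η ∈ closure ({ζ} : Set X) → ζ = η) :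
    ∃ δ : Γ(X, U), η ∈ X.basicOpen δ ∧ ∀ ζ : X, ζ ∈ U → P ζ → ζ ≠ η → ζ ∉ X.basicOpen δ := by
  let S : Set X := {ζ : X | ζ ∈ U ∧ P ζ ∧ ζ ≠ η}
  have hS : S.Finite := hfin.subset (fun ζ hζ => ⟨hζ.1, hζ.2.1⟩)
  have hcl : IsClosed (⋃ ζ ∈ S, closure ({ζ} : Set X)) :=
    hS.isClosed_biUnion (fun _ _ => isClosed_closure)
  have hηO : η ∈ (U : Set X) ∩ (⋃ ζ ∈ S, closure ({ζ} : Set X))ᶜ := by
    refine ⟨hηU, ?_⟩
    simp only [Set.mem_compl_iff, Set.mem_iUnion, not_exists]
    intro ζ hζ hmem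
    exact hζ.2.2 (hinc ζ hζ.1 hζ.2.1 hmem)
  let O : X.Opens := ⟨(U : Set X) ∩ (⋃ ζ ∈ S, closure ({ζ} : Set X))ᶜ, U.2.inter hcl.isOpen_compl⟩
  obtain ⟨δ, hδle, hηδ⟩ := hU.exists_basicOpen_le (V := O) ⟨η, hηO⟩ hηU
  refine ⟨δ, hηδ, fun ζ hζU hζ hne hζδ => ?_⟩
  have h1 : ζ ∈ (⋃ ζ ∈ S, closure ({ζ} : Set X))ᶜ := (hδle hζδ).2
  apply h1
  simp only [Set.mem_iUnion]
  exact ⟨ζ, ⟨hζU, hζ, hne⟩, subset_closure rfl⟩

variable [IsLocallyNoetherian X] (hinc : ∀ η ζ : X, AssPt η → AssPt ζ → ζ ⤳ η → ζ = η)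

include hinc in
/-- without embedded points: a function which is a unit at one associated point and vanishes at
the other associated points of an affine open. -/
theorem exists_sep_assPt {U : X.Opens} (hU : IsAffineOpen U) {η : X} (hηU : η ∈ U) (hη : AssPt η) :
    ∃ δ : Γ(X, U), IsUnit (X.presheaf.germ U η hηU δ) ∧
      ∀ (ζ : X) (hζU : ζ ∈ U), AssPt ζ → ζ ≠ η → X.presheaf.germ U ζ hζU δ = 0 := by
  classical
  have : IsNoetherianRing Γ(X, U) := IsLocallyNoetherian.component_noetherian ⟨U, hU⟩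
  have hfin := finite_assPt hU
  obtain ⟨δ', hδ'1, hδ'2⟩ := exists_sep_of_finite (P := AssPt) hU hfin hηU
    (fun ζ _ hζ hmem => hinc η ζ hη hζ (specializes_iff_mem_closure.mpr hmem))
  have nilp : ∀ (ζ : X) (h : ζ ∈ U ∧ AssPt ζ ∧ ζ ≠ η),
      ∃ n : ℕ, (X.presheaf.germ U ζ h.1 δ') ^ n = 0 := by
    intro ζ h
    apply isNilpotent_germ_of_not_isUnit hU hinc ⟨ζ, h.1⟩ h.2.1 δ'
    intro hunit
    exact hδ'2 ζ h.1 h.2.1 h.2.2 ((X.mem_basicOpen δ' ζ h.1).mpr hunit)
  choose! n hn using nilp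
  refine ⟨δ' ^ (∑ ζ ∈ hfin.toFinset, n ζ), ?_, ?_⟩
  · rw [map_pow]
    exact ((X.mem_basicOpen δ' η hηU).mp hδ'1).pow _
  · intro ζ hζU hζ hne
    rw [map_pow]
    have hmem : ζ ∈ hfin.toFinset := hfin.mem_toFinset.mpr ⟨hζU, hζ⟩
    exact pow_eq_zero_of_le (Finset.single_le_sum (f := n) (fun _ _ => Nat.zero_le _) hmem)
      (hn ζ ⟨hζU, hζ, hne⟩)

end Sep

section NoEmbMain

variable [IsLocallyNoetherian X] (hinc : ∀ η ζ : X, AssPt η → AssPt ζ → ζ ⤳ η → ζ = η)
variable {L : X.Modules}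

include hinc in
theorem exists_frac_coeff_assPt {U : X.Opens} (hU : IsAffineOpen U) {t : Γ(L, U)}
    (ht : IsBasisOn L U t) (W : X → X.Opens) (hW : ∀ η, η ∈ W η) (τ : ∀ η, Γ(L, W η))
    (hτ : ∀ η, IsBasisOn L (W η) (τ η)) :
    ∃ a b : regSub X U, ∀ (η : X) (hηU : η ∈ U), AssPt η →
      X.presheaf.germ U η hηU a.1 • L.presheaf.germ U η hηU t =
        X.presheaf.germ U η hηU b.1 • L.presheaf.germ (W η) η (hW η) (τ η) := by
  classical
  have : IsNoetherianRing Γ(X, U) := IsLocallyNoetherian.component_noetherian ⟨U, hU⟩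
  have hfin := finite_assPt hU
  choose! δ hδ1 hδ2 using fun (η : X) (h : η ∈ U ∧ AssPt η) => exists_sep_assPt hinc hU h.1 h.2
  choose! α β hα hβ hαβ using fun (η : X) (h : η ∈ U) => exists_coeff_at hU ht (hτ η) h (hW η)
  have key : ∀ (γ : X → Γ(X, U)) (ζ : X) (hζU : ζ ∈ U), AssPt ζ →
      X.presheaf.germ U ζ hζU (∑ η ∈ hfin.toFinset, δ η * γ η) =
        X.presheaf.germ U ζ hζU (δ ζ) * X.presheaf.germ U ζ hζU (γ ζ) := by
    intro γ ζ hζU hζ
    rw [map_sum, Finset.sum_eq_single ζ, map_mul]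
    · intro η hηS hne
      have hη : η ∈ U ∧ AssPt η := hfin.mem_toFinset.mp hηS
      rw [map_mul, hδ2 η hη ζ hζU hζ hne.symm, zero_mul]
    · intro hζS
      exact (hζS (hfin.mem_toFinset.mpr ⟨hζU, hζ⟩)).elim
  have ha : (∑ η ∈ hfin.toFinset, δ η * α η) ∈ regSub X U := by
    apply mem_regSub_of_isUnit_germ detects_assPt
    intro ζ hζU hζ
    rw [key α ζ hζU hζ]
    exact (hδ1 ζ ⟨hζU, hζ⟩).mul ((X.mem_basicOpen (α ζ) ζ hζU).mp (hα ζ hζU))
  have hb : (∑ η ∈ hfin.toFinset, δ η * β η) ∈ regSub X U := by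
    apply mem_regSub_of_isUnit_germ detects_assPt
    intro ζ hζU hζ
    rw [key β ζ hζU hζ]
    exact (hδ1 ζ ⟨hζU, hζ⟩).mul ((X.mem_basicOpen (β ζ) ζ hζU).mp (hβ ζ hζU))
  refine ⟨⟨_, ha⟩, ⟨_, hb⟩, fun ζ hζU hζ => ?_⟩
  change X.presheaf.germ U ζ hζU (∑ η ∈ hfin.toFinset, δ η * α η) • _ =
    X.presheaf.germ U ζ hζU (∑ η ∈ hfin.toFinset, δ η * β η) • _
  rw [key α ζ hζU hζ, key β ζ hζU hζ, mul_smul, mul_smul, hαβ ζ hζU]

include hinc in
/-- **Main theorem (no embedded points)**: on a locally Noetherian scheme without embedded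
associated points every invertible module has a regular meromorphic section. -/
theorem hasRegularMero_of_no_embedded (hL : PicF.IsInvertible L) : HasRegularMero L := by
  choose W hW τ hτ using fun η => exists_isBasisOn_of_isInvertible hL η
  apply hasRegularMero_of_tdatum (P := AssPt) (W := W) (hW := fun η _ => hW η) (τ := τ)
    detects_assPt
  intro x
  obtain ⟨W₀, hxW₀, t₀, ht₀⟩ := exists_isBasisOn_of_isInvertible hL x
  obtain ⟨U, hU, hxU, hUW₀⟩ := (Opens.isBasis_iff_nbhd.mp X.isBasis_affineOpens) hxW₀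
  obtain ⟨a, b, hab⟩ := exists_frac_coeff_assPt hinc hU (ht₀.mono hUW₀) W hW τ hτ
  exact ⟨⟨U, _, a, b, ht₀.mono hUW₀, fun η hηU hP => hab η hηU hP⟩, hxU⟩

end NoEmbMain

section StructStalk

/-- ring-level associated points are associated points of the structure module. -/
theorem isAssPoint_of_assPt {y : X} (h : AssPt y) : Curv2.IsAssPoint (Coh.structureModule X) y := by
  have hb := isBasisOn_one (X := X) (⊤ : X.Opens)
  let φ : X.presheaf.stalk y →ₗ[X.presheaf.stalk y] (Coh.structureModule X).presheaf.stalk y :=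
    LinearMap.toSpanSingleton _ _
      ((Coh.structureModule X).presheaf.germ ⊤ y (Opens.mem_top y) (toO ⊤ 1))
  have hinj : Function.Injective φ := by
    rw [← LinearMap.ker_eq_bot, LinearMap.ker_eq_bot']
    intro ρ hρ
    exact eq_zero_of_germ_basis_smul hb y (Opens.mem_top y) ρ hρ
  have hsurj : Function.Surjective φ := fun μ => exists_germ_basis_smul hb y (Opens.mem_top y) μ
  exact (LinearEquiv.ofBijective φ ⟨hinj, hsurj⟩).isAssociatedPrime_iff.mp h

end StructStalk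

end Groth.Agent.Lib.Helper97.MeroLib
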