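import Groth.Agent.Lib.Helper97.MeroLib3

/-! Helper library (helper97): the canonical regular meromorphic section of a module isomorphic to
`O_X(D)`. -/

set_option autoImplicit false
universe u
open CategoryTheory AlgebraicGeometry TopologicalSpace Opposite
open Groth.Agent.Lib.Helper45 Groth.Agent.Lib.Helper49 Groth.Agent.Lib.Helper11.GenLocus

namespace Groth.Agent.Lib.Helper97.MeroLib

open Mero ZeroScheme

variable {X : Scheme.{u}}

section FromIso

/-- a local equation of a divisor. -/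
structure DDatum (D : Divisor X) where
  U : X.Opens
  f : (Γ(kmod X, U))ˣ
  hf : ∀ y : U, D.1 y.1 = germOf f y

theorem exists_ddatum (D : Divisor X) (x : X) : ∃ d : DDatum D, x ∈ d.U := by
  obtain ⟨U, hx, f, hf⟩ := D.2 x
  exact ⟨⟨U, f, hf⟩, hx⟩

variable {L : X.Modules} {D : Divisor X} (e : L ≅ divMod D)

theorem hom_inv_app (U : X.Opens) (z : Γ(divMod D, U)) : e.hom.app U (e.inv.app U z) = z := by
  have h : (e.inv ≫ e.hom).app U = 𝟙 _ := by rw [e.inv_hom_id]; rfl
  exact ConcreteCategory.congr_hom h z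

/-- the basis of `L` over `d.U` corresponding to `1/f`. -/
noncomputable def DDatum.t (d : DDatum D) : Γ(L, d.U) := e.inv.app d.U (invSec D d.f d.hf)

theorem DDatum.isBasisOn_t (d : DDatum D) : IsBasisOn L d.U (d.t e) :=
  isBasisOn_app e.inv (isBasisOn_invSec D d.f d.hf)

theorem DDatum.hom_t (d : DDatum D) : e.hom.app d.U (d.t e) = invSec D d.f d.hf :=
  hom_inv_app e d.U _

/-- the value `f · t` of the canonical meromorphic section. -/
noncomputable def DDatum.val (d : DDatum D) (y : X) (hy : y ∈ d.U) : MStalk L y :=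
  (d.f.1.1 ⟨y, hy⟩ : KStalk X y) • (LocalizedModule.mk (L.presheaf.germ d.U y hy (d.t e)) 1 : MStalk L y)

theorem DDatum.val_eq (d d' : DDatum D) (y : X) (hy : y ∈ d.U) (hy' : y ∈ d'.U) :
    d.val e y hy = d'.val e y hy' := by
  have hN : d.U ⊓ d'.U ≤ d.U := inf_le_left
  have hN' : d.U ⊓ d'.U ≤ d'.U := inf_le_right
  have hyN : y ∈ d.U ⊓ d'.U := ⟨hy, hy'⟩
  obtain ⟨ω, hω⟩ := ((d.isBasisOn_t e).mono hN).exists_eq_smul (mres L hN' (d'.t e))
  -- apply `e.hom` and evaluate at `y`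
  have h1 := congrArg (e.hom.app (d.U ⊓ d'.U)) hω
  rw [Scheme.Modules.Hom.app_smul, ← app_mres, ← app_mres, d.hom_t e, d'.hom_t e] at h1
  have h2 := congrArg (fun z : Γ(divMod D, d.U ⊓ d'.U) => z.1 ⟨y, hyN⟩) h1
  have h3 : X.presheaf.germ (d.U ⊓ d'.U) y hyN ω • (d.f⁻¹).1.1 ⟨y, hy⟩ = (d'.f⁻¹).1.1 ⟨y, hy'⟩ := h2
  -- `f(y) = ω_y f'(y)`
  have h4 : d.f.1.1 ⟨y, hy⟩ =
      (LocalizedModule.mk (X.presheaf.germ (d.U ⊓ d'.U) y hyN ω) 1 : KStalk X y) * d'.f.1.1 ⟨y, hy'⟩ := by
    have h5 := congrArg (fun κ => d.f.1.1 ⟨y, hy⟩ * (κ * d'.f.1.1 ⟨y, hy'⟩)) h3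
    simp only [Algebra.smul_def, algebraMap_eq_mk] at h5
    rw [unit_inv_mul_apply d'.f ⟨y, hy'⟩, mul_one] at h5
    have h6 := unit_mul_inv_apply d.f ⟨y, hy⟩
    calc d.f.1.1 ⟨y, hy⟩ = _ := h5.symm
      _ = (d.f.1.1 ⟨y, hy⟩ * (d.f⁻¹).1.1 ⟨y, hy⟩) *
          ((LocalizedModule.mk (X.presheaf.germ (d.U ⊓ d'.U) y hyN ω) 1 : KStalk X y) *
            d'.f.1.1 ⟨y, hy'⟩) := by ring
      _ = _ := by rw [h6, one_mul]
  unfold DDatum.val
  rw [h4, mul_comm, mul_smul]
  congr 1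
  rw [← germ_mres hN' y hyN (d'.t e), ← hω, Mero.germ_smul, germ_mres]
  exact (LocalizedModule.mk_smul_mk _ _ 1 1).trans (mk_congr rfl (by rw [one_mul]))

end FromIso

section Canon

variable {L : X.Modules} {D : Divisor X} (e : L ≅ divMod D)

noncomputable def ddatumAt (D : Divisor X) (y : X) : DDatum D := Classical.choose (exists_ddatum D y)

theorem mem_ddatumAt (D : Divisor X) (y : X) : y ∈ (ddatumAt D y).U :=
  Classical.choose_spec (exists_ddatum D y)

/-- the value at `y` of the canonical meromorphic section. -/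
noncomputable def cval (y : X) : MStalk L y := (ddatumAt D y).val e y (mem_ddatumAt D y)

theorem cval_eq (d : DDatum D) (y : X) (hy : y ∈ d.U) : cval e y = d.val e y hy :=
  DDatum.val_eq e _ d y _ hy

theorem mLoc_cval : (mLoc L).pred (fun y : (⊤ : X.Opens) => cval e y.1) := by
  intro x
  obtain ⟨d, hxd⟩ := exists_ddatum D x.1
  obtain ⟨V, hxV, i, a, b, hab⟩ := d.f.1.2 ⟨x.1, hxd⟩
  refine ⟨V, hxV, homOfLE le_top, a • mres L i.le (d.t e), b, fun z => ?_⟩
  change cval e z.1 = _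
  rw [cval_eq e d z.1 (i.le z.2)]
  unfold DDatum.val
  have h1 : d.f.1.1 ⟨z.1, i.le z.2⟩ =
      LocalizedModule.mk (X.presheaf.germ V z.1 z.2 a) (regGerm z b) := hab z
  rw [h1]
  refine (LocalizedModule.mk_smul_mk _ _ _ 1).trans (mk_congr ?_ (by rw [mul_one]))
  rw [Mero.germ_smul, germ_mres]

/-- the canonical meromorphic section of `L ≅ O_X(D)` (corresponding to `1 ∈ K_X`). -/
noncomputable def canonSec : Γ(merMod L, ⊤) := ⟨fun y => cval e y.1, mLoc_cval e⟩

theorem isRegularMero_canonSec : IsRegularMero L (canonSec e) := by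
  intro x q hq
  obtain ⟨d, hxd⟩ := exists_ddatum D x
  change q • cval e x = 0 at hq
  rw [cval_eq e d x hxd] at hq
  unfold DDatum.val at hq
  rw [← mul_smul] at hq
  have key : ∀ κ : KStalk X x,
      κ • (LocalizedModule.mk (L.presheaf.germ d.U x hxd (d.t e)) 1 : MStalk L x) = 0 → κ = 0 := by
    intro κ hκ
    induction κ using LocalizedModule.induction_on with
    | h ρ σ =>
      have hκ' := (LocalizedModule.mk_smul_mk ρ (L.presheaf.germ d.U x hxd (d.t e)) σ 1).symm.trans hκ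
      rw [← LocalizedModule.zero_mk 1, LocalizedModule.mk_eq] at hκ'
      obtain ⟨v, hv⟩ := hκ'
      rw [smul_zero, smul_zero, one_smul, Submonoid.smul_def, smul_smul] at hv
      have h1 := eq_zero_of_germ_basis_smul (d.isBasisOn_t e) x hxd _ hv
      have h3 : ρ = 0 :=
        (mul_left_mem_nonZeroDivisors_eq_zero_iff (regStalk_le_nonZeroDivisors x v.2)).mp h1
      rw [h3, LocalizedModule.zero_mk]
  have h2 := key _ hq
  have h3 := congrArg (fun κ => κ * (d.f⁻¹).1.1 ⟨x, hxd⟩) h2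
  simp only [mul_assoc, zero_mul] at h3
  rw [unit_mul_inv_apply d.f ⟨x, hxd⟩, mul_one] at h3
  exact h3

include e in
theorem hasRegularMero_of_iso : HasRegularMero L := ⟨canonSec e, isRegularMero_canonSec e⟩

end Canon

end Groth.Agent.Lib.Helper97.MeroLib
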