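import Groth.Agent.Lib.Helper97.MeroLib3

/-! Helper library (helper97): construction of a regular meromorphic section of an invertible
module from local data which agree at a family of "test points" detecting vanishing of functions
(generic points of a reduced scheme, associated points of a locally Noetherian scheme). -/

set_option autoImplicit false
universe u
open CategoryTheory AlgebraicGeometry TopologicalSpace Opposite
open Groth.Agent.Lib.Helper45 Groth.Agent.Lib.Helper49 Groth.Agent.Lib.Helper11.GenLocus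

namespace Groth.Agent.Lib.Helper97.MeroLib

open Mero ZeroScheme

variable {X : Scheme.{u}}

/-- the points satisfying `P` detect the vanishing of functions. -/
def Detects (P : X → Prop) : Prop :=
  ∀ (V : X.Opens) (g : Γ(X, V)),
    (∀ (η : X) (hη : η ∈ V), P η → X.presheaf.germ V η hη g = 0) → g = 0

/-- a function which is a unit at every test point is a regular section. -/
theorem mem_regSub_of_isUnit_germ {P : X → Prop} (hP : Detects P) {U : X.Opens} (c : Γ(X, U))
    (h : ∀ (ζ : X) (hζ : ζ ∈ U), P ζ → IsUnit (X.presheaf.germ U ζ hζ c)) : c ∈ regSub X U := by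
  intro x
  change X.presheaf.germ U x.1 x.2 c ∈ nonZeroDivisors _
  rw [mem_nonZeroDivisors_iff_right]
  intro ρ hρ
  obtain ⟨N, hxN, r, hr⟩ := TopCat.Presheaf.exists_germ_eq X.presheaf ρ
  have hx' : x.1 ∈ N ⊓ U := ⟨hxN, x.2⟩
  have e : X.presheaf.germ (N ⊓ U) x.1 hx' (fres inf_le_left r * fres inf_le_right c) =
      X.presheaf.germ (N ⊓ U) x.1 hx' 0 := by
    rw [map_mul, germ_fres, germ_fres, hr, hρ, map_zero]
  obtain ⟨N', hxN', iU, iV, hUV⟩ := TopCat.Presheaf.germ_eq X.presheaf x.1 hx' hx' _ _ e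
  have h1 : fres (iU.le.trans inf_le_left) r * fres (iU.le.trans inf_le_right) c = 0 := by
    have h0 : fres iU.le (fres (inf_le_left : N ⊓ U ≤ N) r * fres (inf_le_right : N ⊓ U ≤ U) c) =
        fres iU.le 0 := hUV
    rw [map_mul, fres_fres, fres_fres, map_zero] at h0
    exact h0
  have h2 : fres (iU.le.trans inf_le_left) r = 0 := by
    apply hP
    intro ζ hζ hgen
    have h3 := congrArg (X.presheaf.germ N' ζ hζ) h1
    rw [map_mul, germ_fres, germ_fres, map_zero] at h3
    rw [germ_fres]
    exact (h ζ _ hgen).mul_left_eq_zero.mp h3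
  rw [← hr, ← germ_fres (iU.le.trans inf_le_left) x.1 hxN' r, h2, map_zero]

section Global

/-- local data for the construction of a regular meromorphic section: a basis `t` of `L` on `U` and
regular functions `a`, `b` with `a t = b τ_η` at every test point `η` of `U`. -/
structure TDatum (L : X.Modules) (P : X → Prop) (W : X → X.Opens) (hW : ∀ η, P η → η ∈ W η)
    (τ : ∀ η, Γ(L, W η)) where
  U : X.Opens
  t : Γ(L, U)
  a : regSub X U
  b : regSub X U
  ht : IsBasisOn L U t
  h : ∀ (η : X) (hηU : η ∈ U) (hP : P η),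
      X.presheaf.germ U η hηU a.1 • L.presheaf.germ U η hηU t =
        X.presheaf.germ U η hηU b.1 • L.presheaf.germ (W η) η (hW η hP) (τ η)

variable {L : X.Modules} {P : X → Prop} {W : X → X.Opens} {hW : ∀ η, P η → η ∈ W η}
  {τ : ∀ η, Γ(L, W η)}

theorem TDatum.indep (hP : Detects P) (d d' : TDatum L P W hW τ) (y : X) (hy : y ∈ d.U)
    (hy' : y ∈ d'.U) :
    (LocalizedModule.mk (L.presheaf.germ d.U y hy (d.a.1 • d.t)) (regGerm ⟨y, hy⟩ d.b) :
        MStalk L y) =
      LocalizedModule.mk (L.presheaf.germ d'.U y hy' (d'.a.1 • d'.t)) (regGerm ⟨y, hy'⟩ d'.b) := by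
  have hN : d.U ⊓ d'.U ≤ d.U := inf_le_left
  have hN' : d.U ⊓ d'.U ≤ d'.U := inf_le_right
  have key : fres hN' d'.b.1 • (fres hN d.a.1 • mres L hN d.t) =
      fres hN d.b.1 • (fres hN' d'.a.1 • mres L hN' d'.t) := by
    obtain ⟨g, hg⟩ := (d.ht.mono hN).exists_eq_smul
      (fres hN' d'.b.1 • (fres hN d.a.1 • mres L hN d.t) -
        fres hN d.b.1 • (fres hN' d'.a.1 • mres L hN' d'.t))
    have hg0 : g = 0 := by
      apply hP
      intro η hη hgen
      apply eq_zero_of_germ_basis_smul (d.ht.mono hN) η hη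
      rw [← Mero.germ_smul, hg, map_sub, sub_eq_zero, Mero.germ_smul, Mero.germ_smul,
        Mero.germ_smul, Mero.germ_smul, germ_fres, germ_fres, germ_fres, germ_fres, germ_mres,
        germ_mres, d.h η hη.1 hgen, d'.h η hη.2 hgen, smul_smul, smul_smul, mul_comm]
    rw [hg0, zero_smul] at hg
    exact sub_eq_zero.mp hg.symm
  have h1 := congrArg (L.presheaf.germ (d.U ⊓ d'.U) y ⟨hy, hy'⟩) key
  rw [Mero.germ_smul, Mero.germ_smul, Mero.germ_smul, Mero.germ_smul, germ_fres, germ_fres,
    germ_fres, germ_fres, germ_mres, germ_mres] at h1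
  rw [LocalizedModule.mk_eq]
  refine ⟨1, ?_⟩
  rw [one_smul, one_smul, Mero.germ_smul, Mero.germ_smul]
  exact h1

theorem TDatum.regular (d : TDatum L P W hW τ) (x : X) (hx : x ∈ d.U) (q : KStalk X x)
    (hq : q • (LocalizedModule.mk (L.presheaf.germ d.U x hx (d.a.1 • d.t))
      (regGerm ⟨x, hx⟩ d.b) : MStalk L x) = 0) : q = 0 := by
  induction q using LocalizedModule.induction_on with
  | h ρ σ =>
    have hq' := (LocalizedModule.mk_smul_mk ρ
      (L.presheaf.germ d.U x hx (d.a.1 • d.t)) σ (regGerm ⟨x, hx⟩ d.b)).symm.trans hq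
    rw [← LocalizedModule.zero_mk 1, LocalizedModule.mk_eq] at hq'
    obtain ⟨v, hv⟩ := hq'
    rw [smul_zero, smul_zero, one_smul, Mero.germ_smul, Submonoid.smul_def, smul_smul, smul_smul] at hv
    have h1 := eq_zero_of_germ_basis_smul d.ht x hx _ hv
    have hv' := regStalk_le_nonZeroDivisors x v.2
    have ha : X.presheaf.germ d.U x hx d.a.1 ∈ nonZeroDivisors (X.presheaf.stalk x) :=
      d.a.2 ⟨x, hx⟩
    have h2 : ρ * X.presheaf.germ d.U x hx d.a.1 = 0 := by
      rw [mul_assoc] at h1
      exact (mul_left_mem_nonZeroDivisors_eq_zero_iff hv').mp h1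
    have h3 : ρ = 0 := (mul_right_mem_nonZeroDivisors_eq_zero_iff ha).mp h2
    rw [h3, LocalizedModule.zero_mk]

variable (hP : Detects P) (hex : ∀ x : X, ∃ d : TDatum L P W hW τ, x ∈ d.U)

noncomputable def tdatumAt (y : X) : TDatum L P W hW τ := Classical.choose (hex y)

theorem mem_tdatumAt (y : X) : y ∈ (tdatumAt hex y).U := Classical.choose_spec (hex y)

/-- the value at `y` of the regular meromorphic section. -/
noncomputable def tval (y : X) : MStalk L y :=
  LocalizedModule.mk
    (L.presheaf.germ _ y (mem_tdatumAt hex y) ((tdatumAt hex y).a.1 • (tdatumAt hex y).t))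
    (regGerm ⟨y, mem_tdatumAt hex y⟩ (tdatumAt hex y).b)

include hP in
theorem tval_eq (d : TDatum L P W hW τ) (y : X) (hy : y ∈ d.U) :
    tval hex y =
      LocalizedModule.mk (L.presheaf.germ d.U y hy (d.a.1 • d.t)) (regGerm ⟨y, hy⟩ d.b) :=
  TDatum.indep hP _ d y _ hy

/-- the regular meromorphic section. -/
noncomputable def tMero : Γ(merMod L, ⊤) :=
  ⟨fun y => tval hex y.1, fun y =>
    ⟨(tdatumAt hex y.1).U, mem_tdatumAt hex y.1, homOfLE le_top, _, _,
      fun z => tval_eq hP hex (tdatumAt hex y.1) z.1 z.2⟩⟩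

theorem tMero_apply (y : X) : (tMero hP hex).1 ⟨y, Opens.mem_top y⟩ = tval hex y := rfl

theorem isRegularMero_tMero : IsRegularMero L (tMero hP hex) := by
  intro x q hq
  rw [tMero_apply] at hq
  have hx := mem_tdatumAt hex x
  rw [tval_eq hP hex (tdatumAt hex x) x hx] at hq
  exact TDatum.regular _ x hx q hq

include hP hex in
/-- existence of a regular meromorphic section from local data at test points. -/
theorem hasRegularMero_of_tdatum : HasRegularMero L :=
  ⟨tMero hP hex, isRegularMero_tMero hP hex⟩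

end Global

end Groth.Agent.Lib.Helper97.MeroLib
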