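import Groth.Agent.Lib.Helper11.GlobalGen
import Groth.Agent.Lib.Helper11.TensorBasis
import Groth.Agent.Lib.Helper45.CoprimarySheaf

/-!
# Associated points are invariant under twisting by an invertible module (helper97)
-/

set_option autoImplicit false
set_option linter.style.haveILetI false
universe u
open AlgebraicGeometry CategoryTheory Limits TopologicalSpace Opposite

namespace Groth.Agent.Lib.Helper97.NegTwist

open Groth.Agent.Lib.Helper45 Groth.Agent.Lib.Helper49 Groth.Agent.Lib.Helper11.GenLocus

variable {X : Scheme.{u}}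

/-- Twisting by an invertible module does not change the associated points. -/
theorem isAssPoint_tensorMod_iff [IsLocallyNoetherian X] (G P : X.Modules) [G.IsQuasicoherent]
    (hP : PicF.IsInvertible P) (y : X) :
    Curv2.IsAssPoint (CohB1.tensorMod G P) y ↔ Curv2.IsAssPoint G y := by
  obtain ⟨V, hyV, e, he⟩ := exists_isBasisOn_of_isInvertible hP y
  obtain ⟨_, ⟨W, hW, rfl⟩, hyW, hWV⟩ :=
    X.isBasis_affineOpens.exists_subset_of_mem_open hyV V.isOpen
  have hWV' : W ≤ V := hWV
  haveI : (CohB1.tensorMod G P).IsQuasicoherent := isQuasicoherent_tensorMod_of_isInvertible G P hP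
  rw [CoprimarySheaf.isAssPoint_iff_of_isAffineOpen hW (CohB1.tensorMod G P) ⟨y, hyW⟩,
    CoprimarySheaf.isAssPoint_iff_of_isAffineOpen hW G ⟨y, hyW⟩]
  let ψ : Γ(G, W) →ₗ[Γ(X, W)] Γ(CohB1.tensorMod G P, W) :=
    { toFun := fun m => tm G P W m (mres P hWV' e)
      map_add' := fun m m' => tm_add_left G P W m m' _
      map_smul' := fun r m => tm_smul_left G P W r m _ }
  have hψ : Function.Bijective ψ := tm_basis_bijective G P V e he W hWV'
  rw [LinearEquiv.AssociatedPrimes.eq (LinearEquiv.ofBijective ψ hψ)]

end Groth.Agent.Lib.Helper97.NegTwist
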