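import Mathlib

/-!
# Closed subsets of a proper scheme over a field contained in an affine open (helper97)

`isClosed_singleton_of_mem_of_subset_affine`: if `X` is proper over a field `k`, `Z ⊆ X` is closed
and contained in an affine open `U`, then every point of `Z` is a closed point of `X`.
-/

set_option autoImplicit false
set_option linter.style.haveILetI false
universe u
open AlgebraicGeometry CategoryTheory Limits TopologicalSpace Opposite

namespace Groth.Agent.Lib.Helper97.ProperAffineClosed

theorem isClosed_singleton_of_mem_of_subset_affine (k : Type u) [Field k] {X : Scheme.{u}}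
    (f : X ⟶ Spec (CommRingCat.of k)) [IsProper f] {U : X.Opens} (hU : IsAffineOpen U)
    {Z : Set X} (hZ : IsClosed Z) (hZU : Z ⊆ (U : Set X)) {y : X} (hy : y ∈ Z) :
    IsClosed ({y} : Set X) := by
  -- the closed subset of `Spec Γ(X, U)` corresponding to `Z`
  set Z' : Set (Spec Γ(X, U)) := hU.fromSpec ⁻¹' Z with hZ'
  have hZ'c : IsClosed Z' := hZ.preimage hU.fromSpec.continuous
  set I : Ideal Γ(X, U) := PrimeSpectrum.vanishingIdeal Z' with hI
  have hzl : PrimeSpectrum.zeroLocus (I : Set Γ(X, U)) = Z' := by
    rw [hI, PrimeSpectrum.zeroLocus_vanishingIdeal_eq_closure]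
    exact hZ'c.closure_eq
  let q : Spec (CommRingCat.of (Γ(X, U) ⧸ I)) ⟶ Spec Γ(X, U) :=
    Spec.map (CommRingCat.ofHom (Ideal.Quotient.mk I))
  haveI : IsClosedImmersion q :=
    IsClosedImmersion.spec_of_surjective _ Ideal.Quotient.mk_surjective
  let j : Spec (CommRingCat.of (Γ(X, U) ⧸ I)) ⟶ X := q ≫ hU.fromSpec
  have hrange : Set.range j = Z := by
    have h1 : Set.range q = Z' := by
      have := _root_.range_comap_of_surjective (Γ(X, U) ⧸ I) (Ideal.Quotient.mk I)
        Ideal.Quotient.mk_surjective
      rw [Ideal.mk_ker] at this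
      rw [← hzl]
      exact this
    have h2 : Set.range j = hU.fromSpec '' Set.range q := by
      change Set.range (q ≫ hU.fromSpec) = _
      rw [Scheme.Hom.comp_base, TopCat.coe_comp, Set.range_comp]
    rw [h2, h1, hZ', Set.image_preimage_eq_inter_range, hU.range_fromSpec]
    exact Set.inter_eq_left.mpr hZU
  haveI : IsClosedImmersion j := IsClosedImmersion.of_isPreimmersion j (hrange ▸ hZ)
  haveI : IsProper (j ≫ f) := inferInstance
  haveI : IsAffineHom (j ≫ f) := inferInstance
  haveI : IsFinite (j ≫ f) := IsFinite.iff_isProper_and_isAffineHom.mpr ⟨inferInstance, inferInstance⟩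
  haveI : IsLocallyArtinian (Spec (CommRingCat.of k)) := by
    rw [Scheme.isLocallyArtinianScheme_Spec]
    infer_instance
  haveI : IsLocallyArtinian (Spec (CommRingCat.of (Γ(X, U) ⧸ I))) :=
    IsLocallyArtinian.of_locallyQuasiFinite (j ≫ f)
  obtain ⟨z, rfl⟩ : y ∈ Set.range j := hrange ▸ hy
  have h3 : IsClosed ({z} : Set (Spec (CommRingCat.of (Γ(X, U) ⧸ I)))) := isClosed_discrete _
  have h4 := j.isClosedEmbedding.isClosedMap _ h3
  rwa [Set.image_singleton] at h4

end Groth.Agent.Lib.Helper97.ProperAffineClosed
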