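import Groth.Agent.Lib.Helper97.NegTwistTower
import Groth.Agent.Lib.Helper97.ProperAffineClosed
import Groth.Agent.Lib.Helper17.HZero
import Groth.Agent.Lib.Helper49.PullbackSupport
import Groth.Agent.S0002

/-!
# Vanishing of global sections along a tower of twists (helper97)
-/

set_option autoImplicit false
set_option linter.style.haveILetI false
universe u
open AlgebraicGeometry CategoryTheory Limits TopologicalSpace Opposite

namespace Groth.Agent.Lib.Helper97.NegTwist

open Groth.Agent.Lib.Helper45 Groth.Agent.Lib.Helper49 Groth.Agent.Lib.Helper11.GenLocus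
  Groth.Agent.Lib.Helper38.MulBySection

variable {X : Scheme.{u}}

/-- the support of a global section is closed. -/
theorem isClosed_sectionSupport (H : X.Modules) (τ : Γ(H, ⊤)) :
    IsClosed {y : X | H.presheaf.germ ⊤ y trivial τ ≠ 0} := by
  rw [← isOpen_compl_iff, isOpen_iff_forall_mem_open]
  intro y hy
  have hy0 : H.presheaf.germ ⊤ y trivial τ = 0 := by
    by_contra h
    exact hy h
  have hy0' : H.presheaf.germ ⊤ y trivial τ = H.presheaf.germ ⊤ y trivial 0 := by
    rw [hy0, map_zero]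
  obtain ⟨W, hyW, i, i', hi⟩ := TopCat.Presheaf.germ_eq H.presheaf y
    (show y ∈ (⊤ : X.Opens) from trivial) (show y ∈ (⊤ : X.Opens) from trivial) _ _ hy0'
  rw [map_zero] at hi
  refine ⟨(W : Set X), ?_, W.2, hyW⟩
  intro v hv hne
  apply hne
  rw [← TopCat.Presheaf.germ_res_apply H.presheaf i v hv τ, hi, map_zero]

attribute [local instance] Groth.Agent.Lib.Helper45.stalkModuleSections in
/-- **T5**: on a proper scheme over a field, a global section of a quasi-coherent module without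
closed associated points whose support lies in an affine open vanishes. -/
theorem eq_zero_of_germ_eq_zero_off_affine (k : Type u) [Field k]
    (f : X ⟶ Spec (CommRingCat.of k)) [IsProper f] [IsLocallyNoetherian X]
    (H : X.Modules) [H.IsQuasicoherent] {U : X.Opens} (hU : IsAffineOpen U)
    (hcl : ∀ y : X, IsClosed ({y} : Set X) → ¬ Curv2.IsAssPoint H y)
    (τ : Γ(H, ⊤)) (hτ : ∀ y : X, y ∉ U → H.presheaf.germ ⊤ y trivial τ = 0) : τ = 0 := by
  by_contra hne
  have hZc := isClosed_sectionSupport H τ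
  have hZU : {y : X | H.presheaf.germ ⊤ y trivial τ ≠ 0} ⊆ (U : Set X) := by
    intro y hy
    by_contra hyU
    exact hy (hτ y hyU)
  obtain ⟨y, hy⟩ : ∃ y : X, H.presheaf.germ ⊤ y trivial τ ≠ 0 := by
    by_contra hall
    push Not at hall
    apply hne
    apply section_ext_germ H ⊤ τ 0
    intro x hx
    rw [map_zero]
    exact hall x
  obtain ⟨_, ⟨V, hV : IsAffineOpen V, rfl⟩, hyV, -⟩ :=
    X.isBasis_affineOpens.exists_subset_of_mem_open (Set.mem_univ y) isOpen_univ
  haveI : IsNoetherianRing Γ(X, V) := IsLocallyNoetherian.component_noetherian ⟨V, hV⟩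
  set t : Γ(H, V) := mres H (le_top : V ≤ ⊤) τ with ht
  have htne : t ≠ 0 := by
    intro h0
    apply hy
    rw [← TopCat.Presheaf.germ_res_apply H.presheaf (homOfLE (le_top : V ≤ ⊤)) y hyV τ]
    change H.presheaf.germ V y hyV t = 0
    rw [h0, map_zero]
  obtain ⟨P, hP, hPle⟩ := exists_le_isAssociatedPrime_of_isNoetherianRing Γ(X, V) t htne
  obtain ⟨y', hy'⟩ := exists_primeIdealOf_eq hV ⟨P, hP.isPrime⟩
  have hass : Curv2.IsAssPoint H (y' : X) := by
    rw [CoprimarySheaf.isAssPoint_iff_of_isAffineOpen hV H y', hy']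
    exact hP
  have hy'Z : H.presheaf.germ ⊤ (y' : X) trivial τ ≠ 0 := by
    intro h0
    have h1 : germₗ H y' t = 0 := by
      rw [germₗ_apply]
      change H.presheaf.germ V y' y'.2 (H.presheaf.map (homOfLE (le_top : V ≤ ⊤)).op τ) = 0
      rw [TopCat.Presheaf.germ_res_apply]
      exact h0
    haveI := isLocalizedModule_germₗ hV H y'
    obtain ⟨s, hs⟩ := (IsLocalizedModule.eq_zero_iff (hV.primeIdealOf y').asIdeal.primeCompl
      (germₗ H y')).mp h1
    have h2 : (s : Γ(X, V)) ∈ P := hPle (by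
      rw [Submodule.mem_colon_singleton]
      exact hs)
    have h3 : (s : Γ(X, V)) ∉ (hV.primeIdealOf y').asIdeal := s.2
    have h5 : (hV.primeIdealOf y').asIdeal = P := congrArg PrimeSpectrum.asIdeal hy'
    exact h3 (h5 ▸ h2)
  exact hcl y' (ProperAffineClosed.isClosed_singleton_of_mem_of_subset_affine k f hU hZc hZU hy'Z)
    hass

/-- global sections of a coherent module on a proper scheme over a field form an Artinian module
over the ring of global functions. -/
theorem isArtinian_sections (k : Type u) [Field k] [X.Over (Spec (CommRingCat.of k))]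
    [IsProper (X ↘ Spec (CommRingCat.of k))] (H : X.Modules) (hH : Coh.IsCoh H) :
    IsArtinian Γ(X, ⊤) Γ(H, ⊤) := by
  let ρ : k →+* Γ(X, ⊤) := Coh.toGlobal (X ↘ Spec (CommRingCat.of k))
  letI : Algebra k Γ(X, ⊤) := ρ.toAlgebra
  letI : Module k Γ(H, ⊤) := Module.compHom Γ(H, ⊤) ρ
  haveI : IsScalarTower k Γ(X, ⊤) Γ(H, ⊤) := ⟨fun c r m => by
    change (ρ c * r) • m = ρ c • (r • m)
    rw [mul_smul]⟩
  have hfin : Module.Finite k (Coh.HH X H 0) := Groth.Agent.S0002.result k X H hH 0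
  let lin : Coh.HH X H 0 ≃ₗ[k] Γ(H, ⊤) :=
    { Groth.Agent.Lib.Helper17.HZero.hh0Equiv H with
      map_smul' := fun c x => Groth.Agent.Lib.Helper17.HZero.hh0Equiv_smul H (ρ c) x }
  haveI : Module.Finite k Γ(H, ⊤) := Module.Finite.equiv lin
  haveI : IsArtinian k Γ(H, ⊤) := inferInstance
  exact isArtinian_of_tower k inferInstance

variable {N : X.Modules} (T : Tower N) (σ : Coh.structureModule X ⟶ N)

/-- **Tower theorem**. -/
theorem Tower.exists_subsingleton_sections (k : Type u) [Field k]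
    [X.Over (Spec (CommRingCat.of k))] [IsProper (X ↘ Spec (CommRingCat.of k))]
    (hN : PicF.IsInvertible N) (hU : IsAffineOpen (CohB1.genLocus N σ))
    (hcoh : ∀ j, Coh.IsCoh (T.H j))
    (hass : ∀ j y, Curv2.IsAssPoint (T.H j) y → y ∈ CohB1.genLocus N σ)
    (hcl : ∀ y : X, IsClosed ({y} : Set X) → ¬ Curv2.IsAssPoint (T.H 0) y) :
    ∃ j₀ : ℕ, ∀ j : ℕ, j₀ ≤ j → Subsingleton Γ(T.H j, ⊤) := by
  haveI : IsLocallyNoetherian X :=
    LocallyOfFiniteType.isLocallyNoetherian (X ↘ Spec (CommRingCat.of k))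
  have hq : ∀ j, (T.H j).IsQuasicoherent := fun j => (hcoh j).1
  haveI := isArtinian_sections k (T.H 0) (hcoh 0)
  let F : ∀ j, Γ(T.H j, ⊤) →ₗ[Γ(X, ⊤)] Γ(T.H 0, ⊤) := fun j =>
    Groth.Agent.Lib.Helper45.appₗ (T.Φ σ j) ⊤
  have hanti : ∀ j, LinearMap.range (F (j + 1)) ≤ LinearMap.range (F j) := by
    rintro j _ ⟨s, rfl⟩
    exact ⟨(T.φ σ j).app ⊤ s, rfl⟩
  let f : ℕ →o (Submodule Γ(X, ⊤) Γ(T.H 0, ⊤))ᵒᵈ :=
    ⟨fun j => OrderDual.toDual (LinearMap.range (F j)), monotone_nat_of_le_succ fun j => hanti j⟩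
  obtain ⟨j₀, hj₀⟩ := IsArtinian.monotone_stabilizes f
  have hstab : ∀ j, j₀ ≤ j → LinearMap.range (F j₀) = LinearMap.range (F j) := fun j hj =>
    congrArg OrderDual.ofDual (hj₀ j hj)
  have hall : ∀ j, LinearMap.range (F j₀) ≤ LinearMap.range (F j) := by
    intro j
    rcases le_total j j₀ with h | h
    · exact f.monotone h
    · exact (hstab j h).le
  have hzero : LinearMap.range (F j₀) = ⊥ := by
    rw [eq_bot_iff]
    intro τ hτ
    rw [Submodule.mem_bot]
    haveI := hq 0
    apply eq_zero_of_germ_eq_zero_off_affine k (X ↘ Spec (CommRingCat.of k)) (T.H 0) hU hcl τ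
    intro y hy
    haveI : Module.Finite (X.presheaf.stalk y) ((T.H 0).presheaf.stalk y) :=
      finite_stalk_of_isFiniteType (T.H 0) (hcoh 0).2 y
    have hkr := Ideal.iInf_pow_smul_eq_bot_of_isLocalRing (M := (T.H 0).presheaf.stalk y)
      (IsLocalRing.maximalIdeal (X.presheaf.stalk y)) (Ideal.IsPrime.ne_top inferInstance)
    have hmem : (T.H 0).presheaf.germ ⊤ y trivial τ ∈
        (⨅ i : ℕ, (IsLocalRing.maximalIdeal (X.presheaf.stalk y)) ^ i •
          (⊤ : Submodule (X.presheaf.stalk y) ((T.H 0).presheaf.stalk y))) := by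
      rw [Submodule.mem_iInf]
      intro j
      obtain ⟨s, rfl⟩ := hall j hτ
      have h1 := T.stalkMap_Φ_mem σ hN y hy j ((T.H j).presheaf.germ ⊤ y trivial s)
      rw [stalkMap_germ] at h1
      exact h1
    rw [hkr] at hmem
    exact hmem
  refine ⟨j₀, fun j hj => ⟨fun a b => ?_⟩⟩
  haveI := T.mono_Φ σ hN hq hass j
  apply Groth.Agent.Lib.Helper45.app_injective_of_mono (T.Φ σ j) ⊤
  have ha : F j a ∈ LinearMap.range (F j₀) := by
    rw [hstab j hj]
    exact ⟨a, rfl⟩
  have hb : F j b ∈ LinearMap.range (F j₀) := by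
    rw [hstab j hj]
    exact ⟨b, rfl⟩
  rw [hzero, Submodule.mem_bot] at ha hb
  exact ha.trans hb.symm

end Groth.Agent.Lib.Helper97.NegTwist
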