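import Groth.Agent.Lib.Helper97.NegTwistMain
import Groth.Agent.Lib.Helper97.NegTwistVanish

/-!
# `Γ(X, F ⊗ L^{-n}) = 0` for `n ≫ 0`: the induction on the number of associated points (helper97)
-/

set_option autoImplicit false
set_option linter.style.haveILetI false
universe u
open AlgebraicGeometry CategoryTheory Limits TopologicalSpace Opposite

namespace Groth.Agent.Lib.Helper97.NegTwist

open Groth.Agent.Lib.Helper45 Groth.Agent.Lib.Helper49 Groth.Agent.Lib.Helper11.GenLocus
  Groth.Agent.Lib.Helper38.MulBySection Groth.Agent.Lib.Helper11.TensorMap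

variable {X : Scheme.{u}}

/-- **Lemma A**: the case of a single, non-closed associated point. -/
theorem exists_vanish_of_ass_singleton (k : Type u) [Field k] [X.Over (Spec (CommRingCat.of k))]
    [IsProper (X ↘ Spec (CommRingCat.of k))] (L : X.Modules) (hL : CohB1.IsAmple L) (M : X.Modules)
    (ε : CohB1.tensorMod L M ≅ Coh.structureModule X)
    (G : X.Modules) (hG : Coh.IsCoh G) (x : X) (hAss : ∀ y, Curv2.IsAssPoint G y → y = x)
    (hx : ¬ IsClosed ({x} : Set X)) :
    ∃ n₀ : ℕ, ∀ n : ℕ, n₀ ≤ n →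
      Subsingleton Γ(CohB1.tensorMod G (CohB1.tensorPow M n), ⊤) := by
  haveI : IsLocallyNoetherian X :=
    LocallyOfFiniteType.isLocallyNoetherian (X ↘ Spec (CommRingCat.of k))
  haveI : G.IsQuasicoherent := hG.1
  have hMinv : PicF.IsInvertible M := isInvertible_of_isInverseOf hL.1 ε
  obtain ⟨m', σ, hxσ, hU⟩ := hL.2.2 x
  have hN : PicF.IsInvertible (CohB1.tensorPow L (m' + 1)) := isInvertible_tensorPow hL.1 (m' + 1)
  have hPinv : ∀ a, PicF.IsInvertible (CohB1.tensorPow M a) := fun a =>
    isInvertible_tensorPow hMinv a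
  let T : ℕ → Tower (CohB1.tensorPow L (m' + 1)) := fun r =>
    { H := fun j => CohB1.tensorMod G (CohB1.tensorPow M (r + (m' + 1) * j))
      e := fun j => tensorModCongr (tensorModCongr (Iso.refl G)
          (eqToIso (congrArg (CohB1.tensorPow M)
            (show r + (m' + 1) * (j + 1) = (r + (m' + 1) * j) + (m' + 1) by ring))))
          (Iso.refl _) ≪≫ twistIso G L M ε (r + (m' + 1) * j) (m' + 1) }
  have key : ∀ r, ∃ j₀ : ℕ, ∀ j : ℕ, j₀ ≤ j → Subsingleton Γ((T r).H j, ⊤) := by
    intro r
    apply Tower.exists_subsingleton_sections (T r) σ k hN hU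
    · intro j
      exact isCoh_tensorMod_of_isInvertible hG (hPinv _)
    · intro j y hy
      have h1 := (isAssPoint_tensorMod_iff G _ (hPinv _) y).mp hy
      rw [hAss y h1]
      exact hxσ
    · intro y hyc hy
      have h1 := (isAssPoint_tensorMod_iff G _ (hPinv _) y).mp hy
      rw [hAss y h1] at hyc
      exact hx hyc
  choose j₀ hj₀ using key
  refine ⟨(Finset.range (m' + 1)).sup (fun r => r + (m' + 1) * j₀ r), fun n hn => ?_⟩
  have hmpos : 0 < m' + 1 := Nat.succ_pos m'
  have hr : n % (m' + 1) < m' + 1 := Nat.mod_lt n hmpos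
  have h1 : n % (m' + 1) + (m' + 1) * j₀ (n % (m' + 1)) ≤ n :=
    le_trans (Finset.le_sup (f := fun r => r + (m' + 1) * j₀ r) (Finset.mem_range.mpr hr)) hn
  have h3 : n % (m' + 1) + (m' + 1) * (n / (m' + 1)) = n := Nat.mod_add_div n (m' + 1)
  have h2 : j₀ (n % (m' + 1)) ≤ n / (m' + 1) := by
    have h5 : (m' + 1) * j₀ (n % (m' + 1)) ≤ (m' + 1) * (n / (m' + 1)) := by omega
    exact Nat.le_of_mul_le_mul_left h5 hmpos
  have h4 : Subsingleton Γ(CohB1.tensorMod G
      (CohB1.tensorPow M (n % (m' + 1) + (m' + 1) * (n / (m' + 1)))), ⊤) :=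
    hj₀ (n % (m' + 1)) (n / (m' + 1)) h2
  rwa [h3] at h4

/-- the induction on the number of associated points. -/
theorem exists_vanish (k : Type u) [Field k] [X.Over (Spec (CommRingCat.of k))]
    [IsProper (X ↘ Spec (CommRingCat.of k))] (L : X.Modules) (hL : CohB1.IsAmple L) (M : X.Modules)
    (ε : CohB1.tensorMod L M ≅ Coh.structureModule X) :
    ∀ (c : ℕ) (F : X.Modules), Coh.IsCoh F →
      (∀ x : X, IsClosed ({x} : Set X) → ¬ Curv2.IsAssPoint F x) →
      (AssSch.Ass F).ncard ≤ c →
      ∃ n₀ : ℕ, ∀ n : ℕ, n₀ ≤ n →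
        Subsingleton Γ(CohB1.tensorMod F (CohB1.tensorPow M n), ⊤) := by
  haveI : IsLocallyNoetherian X :=
    LocallyOfFiniteType.isLocallyNoetherian (X ↘ Spec (CommRingCat.of k))
  haveI : CompactSpace X := hL.2.1
  have hMinv : PicF.IsInvertible M := isInvertible_of_isInverseOf hL.1 ε
  have hPinv : ∀ a, PicF.IsInvertible (CohB1.tensorPow M a) := fun a =>
    isInvertible_tensorPow hMinv a
  intro c
  induction c with
  | zero =>
    intro F hF hcl hc
    haveI : F.IsQuasicoherent := hF.1
    have hfin : (AssSch.Ass F).Finite := by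
      have h1 := Groth.Agent.S1576.result X F hF ⊤ (by
        rw [Opens.coe_top]
        exact isCompact_univ)
      refine h1.subset ?_
      intro y hy
      exact ⟨trivial, hy⟩
    have hempty : AssSch.Ass F = ∅ := (Set.ncard_eq_zero hfin).mp (Nat.le_zero.mp hc)
    refine ⟨0, fun n _ => ?_⟩
    have hq : (CohB1.tensorMod F (CohB1.tensorPow M n)).IsQuasicoherent :=
      isQuasicoherent_tensorMod_of_isInvertible F _ (hPinv n)
    have hz : IsZero (CohB1.tensorMod F (CohB1.tensorPow M n)) := by
      rw [Groth.Agent.S1704.result X _ hq]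
      intro y hy
      have h1 : y ∈ AssSch.Ass F := (isAssPoint_tensorMod_iff F _ (hPinv n) y).mp hy
      rw [hempty] at h1
      exact h1
    exact (isZero_iff_sections_subsingleton _).mp hz ⊤
  | succ c ih =>
    intro F hF hcl hc
    haveI hFq : F.IsQuasicoherent := hF.1
    have hfin : (AssSch.Ass F).Finite := by
      have h1 := Groth.Agent.S1576.result X F hF ⊤ (by
        rw [Opens.coe_top]
        exact isCompact_univ)
      refine h1.subset ?_
      intro y hy
      exact ⟨trivial, hy⟩
    by_cases hempty : AssSch.Ass F = ∅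
    · exact ih F hF hcl (by rw [hempty, Set.ncard_empty]; exact Nat.zero_le c)
    · obtain ⟨x, hx⟩ := Set.nonempty_iff_ne_empty.mpr hempty
      obtain ⟨G, q, hqe, hGc, hGa, hKx⟩ :=
        CoprimarySheaf.exists_coprimary_quotient_sheaf F hF x hx
      haveI := hqe
      haveI hGq : G.IsQuasicoherent := hGc.1
      haveI hKq : (kernel q).IsQuasicoherent := isQuasicoherent_kernel q hFq hGq
      have hKc : Coh.IsCoh (kernel q) := ⟨hKq, isFiniteType_of_mono (kernel.ι q) hF.2⟩
      have hsub : AssSch.Ass (kernel q) ⊆ AssSch.Ass F :=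
        (Groth.Agent.S2542.result _ (CoprimarySheaf.shortExact_kernel q) hKq hFq hGq).1
      have hsub' : AssSch.Ass (kernel q) ⊆ AssSch.Ass F \ {x} := by
        intro y hy
        refine ⟨hsub hy, ?_⟩
        rintro rfl
        exact hKx hy
      have hcard : (AssSch.Ass (kernel q)).ncard ≤ c := by
        have h1 := Set.ncard_le_ncard hsub' (hfin.sdiff)
        have h2 := Set.ncard_sdiff_singleton_of_mem hx
        omega
      obtain ⟨n₁, hn₁⟩ := ih (kernel q) hKc (fun y hyc hy => hcl y hyc (hsub hy)) hcard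
      obtain ⟨n₂, hn₂⟩ := exists_vanish_of_ass_singleton k L hL M ε G hGc x
        (fun y hy => by
          have h1 : y ∈ AssSch.Ass G := hy
          rw [hGa] at h1
          exact h1)
        (fun hxc => hcl x hxc hx)
      refine ⟨max n₁ n₂, fun n hn => ?_⟩
      exact subsingleton_sections_of_kernel q _ (hPinv n)
        (hn₁ n (le_trans (le_max_left _ _) hn)) (hn₂ n (le_trans (le_max_right _ _) hn))

end Groth.Agent.Lib.Helper97.NegTwist
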