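import Groth.Agent.Lib.Helper97.NegTwistAss
import Groth.Agent.Lib.Helper38.MulBySection
import Groth.Agent.Lib.Helper11.AmpleBasis
import Groth.Agent.Lib.Helper11.NegPowers
import Groth.Agent.Lib.Helper11.AffineCrit
import Groth.Agent.Lib.Helper45.CoprimarySheaf
import Groth.Agent.S1576
import Groth.Agent.S2542

/-!
# `Γ(X, F ⊗ L^{-n}) = 0` for `n ≫ 0` when `F` has no closed associated point (helper97)
-/

set_option autoImplicit false
set_option linter.style.haveILetI false
universe u
open AlgebraicGeometry CategoryTheory Limits TopologicalSpace Opposite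

namespace Groth.Agent.Lib.Helper97.NegTwist

open Groth.Agent.Lib.Helper45 Groth.Agent.Lib.Helper49 Groth.Agent.Lib.Helper11.GenLocus
  Groth.Agent.Lib.Helper38.MulBySection Groth.Agent.Lib.Helper11.TensorMap

variable {X : Scheme.{u}}

/-- `(G ⊗ M^{n+m}) ⊗ L^m ≅ G ⊗ M^n` when `L ⊗ M ≅ O`. -/
noncomputable def twistIso (G L M : X.Modules)
    (ε : CohB1.tensorMod L M ≅ Coh.structureModule X) (n m : ℕ) :
    CohB1.tensorMod (CohB1.tensorMod G (CohB1.tensorPow M (n + m))) (CohB1.tensorPow L m) ≅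
      CohB1.tensorMod G (CohB1.tensorPow M n) :=
  tensorModAssoc G _ _ ≪≫ tensorModCongr (Iso.refl G)
    (tensorModCongr (tensorPowAdd M n m) (Iso.refl _) ≪≫ tensorModAssoc _ _ _ ≪≫
      tensorModCongr (Iso.refl _)
        (tensorPowTensor M L m ≪≫ tensorPowCongr (tensorModBraid M L ≪≫ ε) m ≪≫
          tensorPowUnitIso X m) ≪≫
      tensorUnitIso _)

/-- an inverse of an invertible module is invertible. -/
theorem isInvertible_of_isInverseOf {L M : X.Modules} (hL : PicF.IsInvertible L)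
    (ε : CohB1.tensorMod L M ≅ Coh.structureModule X) : PicF.IsInvertible M := by
  obtain ⟨M', hM', ⟨ε'⟩⟩ := Groth.Agent.Lib.Helper11.NegPowers.exists_inverse hL
  refine isInvertible_of_iso ?_ hM'
  exact (tensorUnitIso M').symm ≪≫ tensorModCongr (Iso.refl M') ε.symm ≪≫
    (tensorModAssoc M' L M).symm ≪≫ tensorModCongr ε' (Iso.refl M) ≪≫ unitTensorIso M

theorem isCoh_tensorMod_of_isInvertible {G P : X.Modules} (hG : Coh.IsCoh G)
    (hP : PicF.IsInvertible P) : Coh.IsCoh (CohB1.tensorMod G P) := by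
  haveI : G.IsQuasicoherent := hG.1
  exact ⟨isQuasicoherent_tensorMod_of_isInvertible G P hP,
    isFiniteType_tensorMod_of_isInvertible G P hG.2 hP⟩

/-- left exactness of `Γ(X, - ⊗ P)` for invertible `P`, in the form needed. -/
theorem subsingleton_sections_of_kernel {F G : X.Modules} (q : F ⟶ G) [Epi q] (P : X.Modules)
    (hP : PicF.IsInvertible P)
    (hK : Subsingleton Γ(CohB1.tensorMod (kernel q) P, ⊤))
    (hG : Subsingleton Γ(CohB1.tensorMod G P, ⊤)) :
    Subsingleton Γ(CohB1.tensorMod F P, ⊤) := by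
  haveI : Mono (tensorModMap (kernel.ι q) (𝟙 P)) := mono_tensorModMap (kernel.ι q) hP
  suffices h : ∀ t : Γ(CohB1.tensorMod F P, ⊤), t = 0 from
    ⟨fun a b => (h a).trans (h b).symm⟩
  intro t
  choose V hxV e he using fun x => exists_isBasisOn_of_isInvertible hP x
  have hcov : (⊤ : X.Opens) ≤ iSup V := fun x _ => Opens.mem_iSup.mpr ⟨x, hxV x⟩
  obtain ⟨s, hs⟩ := Groth.Agent.Lib.Helper11.AffineCrit.exists_section_of_locally
    (tensorModMap (kernel.ι q) (𝟙 P)) ⊤ t V (fun _ => le_top) hcov (fun x => by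
      obtain ⟨f, hf⟩ := tm_basis_surjective F P (V x) (e x) (he x) (V x) le_rfl
        (mres _ (le_top : V x ≤ ⊤) t)
      have hq0 : (tensorModMap q (𝟙 P)).app ⊤ t = 0 := hG.elim _ _
      have h1 : tm G P (V x) (q.app (V x) f) (mres P le_rfl (e x)) = 0 := by
        rw [← tensorModMap_tm_id q (V x) f (mres P le_rfl (e x)), hf, app_mres, hq0, map_zero]
      have h2 : q.app (V x) f = 0 :=
        tm_basis_injective G P (V x) (e x) (he x) (V x) le_rfl _ 0 (by rw [h1, tm_zero_left])
      obtain ⟨f', hf'⟩ := (app_exact_of_shortExact _ (CoprimarySheaf.shortExact_kernel q)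
        (V x) f).mp h2
      refine ⟨tm (kernel q) P (V x) f' (mres P le_rfl (e x)), ?_⟩
      rw [tensorModMap_tm_id]
      have hf'' : (kernel.ι q).app (V x) f' = f := hf'
      rw [hf'', hf])
  rw [← hs, hK.elim s 0, map_zero]

end Groth.Agent.Lib.Helper97.NegTwist
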