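import Groth.Agent.Lib.Helper38.MulBySection
import Groth.Agent.Lib.Helper45.QCohStalk

/-!
# Multiplication by a section on stalks outside the non-vanishing locus (helper97)

For `σ : O_X ⟶ N` with `N` invertible and `y ∉ X_σ`, the stalk map of `mulBy H σ : H ⟶ H ⊗ N`
at `y` has image inside `𝔪_y • (H ⊗ N)_y`.
-/

set_option autoImplicit false
set_option linter.style.haveILetI false
universe u
open AlgebraicGeometry CategoryTheory Limits TopologicalSpace Opposite

namespace Groth.Agent.Lib.Helper97.NegTwist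

open Groth.Agent.Lib.Helper45 Groth.Agent.Lib.Helper49 Groth.Agent.Lib.Helper11.GenLocus
  Groth.Agent.Lib.Helper38.MulBySection

variable {X : Scheme.{u}}

/-- the coefficient of a section vanishing at `y` lies in the maximal ideal. -/
theorem germ_coeff_mem_maximalIdeal {N : X.Modules} (σ : Coh.structureModule X ⟶ N) (y : X)
    (hy : y ∉ CohB1.genLocus N σ) (V : X.Opens) (hyV : y ∈ V) (e : Γ(N, V))
    (he : IsBasisOn N V e) (g : Γ(X, V)) (hg : g • e = sec σ V) :
    X.presheaf.germ V y hyV g ∈ IsLocalRing.maximalIdeal (X.presheaf.stalk y) := by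
  rw [IsLocalRing.mem_maximalIdeal, mem_nonunits_iff]
  intro hu
  have hyb : y ∈ X.basicOpen g := (X.mem_basicOpen g y hyV).mpr hu
  apply hy
  have hle : X.basicOpen g ≤ V := X.basicOpen_le g
  have hb : IsBasisOn N (X.basicOpen g) (sec σ (X.basicOpen g)) := by
    rw [← sec_mres σ hle, ← hg, mres_smul]
    exact (he.mono hle).smul_unit _ (isUnit_res_of_le_basicOpen g le_rfl)
  exact (le_genLocus_iff_isBasisOn σ _).mpr hb hyb

/-- outside `X_σ`, multiplication by `σ` maps the stalk into `𝔪_y` times the stalk. -/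
theorem stalkMap_mulBy_mem (H : X.Modules) {N : X.Modules} (hN : PicF.IsInvertible N)
    (σ : Coh.structureModule X ⟶ N) (y : X) (hy : y ∉ CohB1.genLocus N σ)
    (a : H.presheaf.stalk y) :
    (stalkMap (mulBy H σ) y).hom a ∈
      (IsLocalRing.maximalIdeal (X.presheaf.stalk y)) •
        (⊤ : Submodule (X.presheaf.stalk y) ((CohB1.tensorMod H N).presheaf.stalk y)) := by
  obtain ⟨V, hyV, e, he⟩ := exists_isBasisOn_of_isInvertible hN y
  obtain ⟨g, hg⟩ := he.exists_eq_smul (sec σ V)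
  have hgm := germ_coeff_mem_maximalIdeal σ y hy V hyV e he g hg
  obtain ⟨W, hyW, m, rfl⟩ := TopCat.Presheaf.exists_germ_eq H.presheaf a
  have hyWV : y ∈ W ⊓ V := ⟨hyW, hyV⟩
  rw [← TopCat.Presheaf.germ_res_apply H.presheaf (homOfLE (inf_le_left : W ⊓ V ≤ W)) y hyWV m,
    stalkMap_germ]
  have h1 : (mulBy H σ).app (W ⊓ V) (mres H (inf_le_left : W ⊓ V ≤ W) m) =
      fres (inf_le_right : W ⊓ V ≤ V) g •
        tm H N (W ⊓ V) (mres H (inf_le_left : W ⊓ V ≤ W) m)
          (mres N (inf_le_right : W ⊓ V ≤ V) e) := by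
    have h2 := mulBy_app H σ (W ⊓ V) (mres H (inf_le_left : W ⊓ V ≤ W) m)
    rw [← sec_mres σ (inf_le_right : W ⊓ V ≤ V), ← hg, mres_smul, tm_smul_right] at h2
    exact h2
  have h3 : (CohB1.tensorMod H N).presheaf.germ (W ⊓ V) y hyWV
      ((mulBy H σ).app (W ⊓ V) ((H.presheaf.map (homOfLE (inf_le_left : W ⊓ V ≤ W)).op) m)) =
      X.presheaf.germ (W ⊓ V) y hyWV (fres (inf_le_right : W ⊓ V ≤ V) g) •
        (CohB1.tensorMod H N).presheaf.germ (W ⊓ V) y hyWV
          (tm H N (W ⊓ V) (mres H (inf_le_left : W ⊓ V ≤ W) m)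
            (mres N (inf_le_right : W ⊓ V ≤ V) e)) := by
    rw [← germ_smul]
    exact congrArg _ h1
  rw [h3]
  refine Submodule.smul_mem_smul ?_ Submodule.mem_top
  have h4 : X.presheaf.germ (W ⊓ V) y hyWV (fres (inf_le_right : W ⊓ V ≤ V) g) =
      X.presheaf.germ V y hyV g :=
    TopCat.Presheaf.germ_res_apply X.presheaf (homOfLE (inf_le_right : W ⊓ V ≤ V)) y hyWV g
  rw [h4]
  exact hgm

end Groth.Agent.Lib.Helper97.NegTwist
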