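import Groth.Agent.Lib.Helper97.NegTwistStalk
import Groth.Agent.Lib.Helper97.NegTwistAss
import Groth.Agent.S1704

/-!
# Towers of twists and vanishing of global sections (helper97)

A *tower* over an invertible module `N` is a sequence of modules `H j` with isomorphisms
`H (j+1) ⊗ N ≅ H j`.  A section `σ` of `N` gives maps `φ j : H (j+1) ⟶ H j`.  On a proper scheme
over a field, if all associated points of the `H j` lie in the affine open `X_σ` and `H 0` has no
closed associated point, then `Γ(X, H j) = 0` for `j ≫ 0`.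
-/

set_option autoImplicit false
set_option linter.style.haveILetI false
universe u
open AlgebraicGeometry CategoryTheory Limits TopologicalSpace Opposite

namespace Groth.Agent.Lib.Helper97.NegTwist

open Groth.Agent.Lib.Helper45 Groth.Agent.Lib.Helper49 Groth.Agent.Lib.Helper11.GenLocus
  Groth.Agent.Lib.Helper38.MulBySection

variable {X : Scheme.{u}}

/-- a tower of twists. -/
structure Tower (N : X.Modules) where
  H : ℕ → X.Modules
  e : ∀ j, CohB1.tensorMod (H (j + 1)) N ≅ H j

variable {N : X.Modules} (T : Tower N) (σ : Coh.structureModule X ⟶ N)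

/-- the transition maps of a tower defined by a section. -/
noncomputable def Tower.φ (j : ℕ) : T.H (j + 1) ⟶ T.H j :=
  mulBy (T.H (j + 1)) σ ≫ (T.e j).hom

/-- the composite transition maps. -/
noncomputable def Tower.Φ : ∀ j : ℕ, T.H j ⟶ T.H 0
  | 0 => 𝟙 _
  | j + 1 => T.φ σ j ≫ Tower.Φ j

theorem Tower.Φ_succ (j : ℕ) : T.Φ σ (j + 1) = T.φ σ j ≫ T.Φ σ j := rfl

section Alg

variable {R A B : Type*} [CommRing R] [AddCommGroup A] [Module R A] [AddCommGroup B] [Module R B]

theorem map_mem_smul_of_forall_mem (f : A →ₗ[R] B) (I : Ideal R) (S : Submodule R B)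
    (hf : ∀ a, f a ∈ S) {x : A} (hx : x ∈ I • (⊤ : Submodule R A)) : f x ∈ I • S := by
  have h1 : f x ∈ (I • (⊤ : Submodule R A)).map f := Submodule.mem_map_of_mem hx
  rw [Submodule.map_smul''] at h1
  refine Submodule.smul_mono le_rfl ?_ h1
  rintro _ ⟨a, -, rfl⟩
  exact hf a

end Alg

/-- **T1**: outside `X_σ` the composite transition map `H j ⟶ H 0` has image in `𝔪^j`. -/
theorem Tower.stalkMap_Φ_mem (hN : PicF.IsInvertible N) (y : X) (hy : y ∉ CohB1.genLocus N σ) :
    ∀ (j : ℕ) (a : (T.H j).presheaf.stalk y),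
      (stalkMap (T.Φ σ j) y).hom a ∈
        (IsLocalRing.maximalIdeal (X.presheaf.stalk y)) ^ j •
          (⊤ : Submodule (X.presheaf.stalk y) ((T.H 0).presheaf.stalk y))
  | 0, a => by
    rw [pow_zero, Ideal.one_eq_top, Submodule.top_smul]
    exact Submodule.mem_top
  | j + 1, a => by
    rw [Tower.Φ_succ, stalkMap_comp_apply']
    have h1 : (stalkMap (T.φ σ j) y).hom a ∈
        (IsLocalRing.maximalIdeal (X.presheaf.stalk y)) •
          (⊤ : Submodule (X.presheaf.stalk y) ((T.H j).presheaf.stalk y)) := by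
      change (stalkMap (mulBy (T.H (j + 1)) σ ≫ (T.e j).hom) y).hom a ∈ _
      rw [stalkMap_comp_apply']
      have h2 := stalkMap_mulBy_mem (T.H (j + 1)) hN σ y hy a
      have h3 := map_mem_smul_of_forall_mem (stalkMapLinear (T.e j).hom y)
        (IsLocalRing.maximalIdeal (X.presheaf.stalk y)) ⊤ (fun _ => Submodule.mem_top) h2
      exact h3
    have h4 := map_mem_smul_of_forall_mem (stalkMapLinear (T.Φ σ j) y)
      (IsLocalRing.maximalIdeal (X.presheaf.stalk y)) _
      (fun b => Tower.stalkMap_Φ_mem hN y hy j b) h1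
    rw [pow_succ', Submodule.mul_smul]
    exact h4

/-- **T2**: multiplication by `σ` is injective if all associated points lie in `X_σ`. -/
theorem mono_mulBy_of_ass [IsLocallyNoetherian X] (H : X.Modules) [H.IsQuasicoherent]
    (hN : PicF.IsInvertible N)
    (hass : ∀ y, Curv2.IsAssPoint H y → y ∈ CohB1.genLocus N σ) : Mono (mulBy H σ) := by
  haveI hHN : (CohB1.tensorMod H N).IsQuasicoherent :=
    isQuasicoherent_tensorMod_of_isInvertible H N hN
  have hKq : (kernel (mulBy H σ)).IsQuasicoherent := isQuasicoherent_kernel _ inferInstance hHN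
  have hK0 : IsZero (kernel (mulBy H σ)) := by
    rw [Groth.Agent.S1704.result X _ hKq]
    intro y hy
    have h1 : Curv2.IsAssPoint H y :=
      IsAssociatedPrime.map_of_injective (f := stalkMapLinear (kernel.ι (mulBy H σ)) y) hy
        (stalkMap_injective_of_mono (kernel.ι (mulBy H σ)) y)
    have h2 : y ∈ CohB1.support (kernel (mulBy H σ)) := by
      intro hs
      exact not_isAssociatedPrime_of_subsingleton hy
    exact (support_kernel_mulBy_subset H σ h2).2 (hass y h1)
  exact Preadditive.mono_of_kernel_zero (hK0.eq_of_src _ _)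

theorem Tower.mono_φ [IsLocallyNoetherian X] (hN : PicF.IsInvertible N)
    (hq : ∀ j, (T.H j).IsQuasicoherent)
    (hass : ∀ j y, Curv2.IsAssPoint (T.H j) y → y ∈ CohB1.genLocus N σ) (j : ℕ) :
    Mono (T.φ σ j) := by
  haveI := hq (j + 1)
  haveI := mono_mulBy_of_ass σ (T.H (j + 1)) hN (hass (j + 1))
  exact mono_comp _ _

theorem Tower.mono_Φ [IsLocallyNoetherian X] (hN : PicF.IsInvertible N)
    (hq : ∀ j, (T.H j).IsQuasicoherent)
    (hass : ∀ j y, Curv2.IsAssPoint (T.H j) y → y ∈ CohB1.genLocus N σ) :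
    ∀ j : ℕ, Mono (T.Φ σ j)
  | 0 => inferInstanceAs (Mono (𝟙 _))
  | j + 1 => by
    haveI := T.mono_φ σ hN hq hass j
    haveI := Tower.mono_Φ hN hq hass j
    rw [Tower.Φ_succ]
    exact mono_comp _ _

end Groth.Agent.Lib.Helper97.NegTwist
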