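import Groth.Agent.Lib.Helper12.QuasiFlat
import Groth.Agent.Lib.Helper16.FlatPull.BaseChange
import Groth.Agent.Lib.Helper49.PullbackSupport
import Groth.Agent.Lib.Helper11.SupportTensor

/-!
# Quasi-flat morphisms and base change; generization inside fibres of a base change (helper97)
-/

set_option autoImplicit false
set_option linter.style.haveILetI false
universe u

open AlgebraicGeometry CategoryTheory CategoryTheory.Limits TopologicalSpace

namespace Groth.Agent.Lib.Helper97.QuasiFlatBC

variable {X Y Y' : Scheme.{u}} (f : X ⟶ Y) (g : Y' ⟶ Y)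

/-- Quasi-flat morphisms are stable under base change. -/
theorem isQuasiFlat_pullback_fst (hg : FDesc.IsQuasiFlat g) :
    FDesc.IsQuasiFlat (pullback.fst f g) := by
  obtain ⟨M, ⟨hMq, hMft⟩, hMfl, hMnt⟩ := hg
  haveI : M.IsQuasicoherent := hMq
  refine ⟨(Scheme.Modules.pullback (pullback.snd f g)).obj M,
    ⟨Groth.Agent.Lib.Helper16.FlatPull.isQuasicoherent_pullback _ M,
      Groth.Agent.Lib.Helper11.SupportTensor.isFiniteType_pullback_of_isFiniteType _ M hMft⟩,
    fun ξ' => ?_, fun ξ' => ?_⟩
  · exact Groth.Agent.Lib.Helper16.FlatPull.isFlatOverAt_baseChange g (pullback.fst f g)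
      (pullback.snd f g) f (IsPullback.of_hasPullback f g).flip M ξ' (hMfl _)
  · rw [← not_subsingleton_iff_nontrivial,
      Groth.Agent.Lib.Helper49.subsingleton_stalk_pullback_iff (pullback.snd f g) M hMft ξ',
      not_subsingleton_iff_nontrivial]
    exact hMnt _

/-- The map on spectra of residue fields is flat. -/
instance flat_SpecMap_residueFieldMap (x : X) : Flat (Spec.map (f.residueFieldMap x)) := by
  rw [HasRingHomProperty.Spec_iff (P := @Flat)]
  algebraize [(f.residueFieldMap x).hom]
  change Module.Flat _ _
  infer_instance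

/-- In a base change `X ×_Y Y' → Y'`, generizations inside a fibre of `Y' → Y` lift. -/
theorem exists_specializes_of_fiber (ξ' : ↥(pullback f g)) (y'₁ : Y')
    (hsp : y'₁ ⤳ pullback.snd f g ξ') (hgy : g y'₁ = g (pullback.snd f g ξ')) :
    ∃ ξ'₁ : ↥(pullback f g), ξ'₁ ⤳ ξ' ∧ pullback.snd f g ξ'₁ = y'₁ := by
  have h : IsPullback (pullback.snd f g) (pullback.fst f g) g f :=
    (IsPullback.of_hasPullback f g).flip
  obtain ⟨x, hx⟩ : ∃ x : X, pullback.fst f g ξ' = x := ⟨_, rfl⟩
  have hpb := isPullback_fiberToSpecResidueField_of_isPullback h x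
  set m := pullback.map (pullback.fst f g) (X.fromSpecResidueField x) g
    (Y.fromSpecResidueField (f x)) (pullback.snd f g)
    (Spec.map (f.residueFieldMap x)) f h.w.symm (by simp) with hm
  have hflat : Flat m := MorphismProperty.of_isPullback hpb.flip inferInstance
  have hmι : m ≫ pullback.fst g (Y.fromSpecResidueField (f x)) =
      pullback.fst (pullback.fst f g) (X.fromSpecResidueField x) ≫ pullback.snd f g := by
    rw [hm]
    exact pullback.lift_fst _ _ _
  have hcond : g (pullback.snd f g ξ') = f x := by
    have := congrArg (fun φ : pullback f g ⟶ Y => φ ξ') (pullback.condition (f := f) (g := g))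
    rw [← hx]
    simpa using this.symm
  have hrx : Set.range (pullback.fst (pullback.fst f g) (X.fromSpecResidueField x)) =
      (pullback.fst f g) ⁻¹' {x} := (pullback.fst f g).range_fiberι x
  have hry : Set.range (pullback.fst g (Y.fromSpecResidueField (f x))) = g ⁻¹' {f x} :=
    g.range_fiberι (f x)
  have hemb : Topology.IsEmbedding (pullback.fst g (Y.fromSpecResidueField (f x))) :=
    (g.fiberι (f x)).isEmbedding
  -- the point of the fibre over `ξ'`
  obtain ⟨w, hw⟩ : ∃ w, pullback.fst (pullback.fst f g) (X.fromSpecResidueField x) w = ξ' := by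
    have : ξ' ∈ Set.range (pullback.fst (pullback.fst f g) (X.fromSpecResidueField x)) := by
      rw [hrx]; exact hx
    exact this
  obtain ⟨v₁, hv₁⟩ : ∃ v₁, pullback.fst g (Y.fromSpecResidueField (f x)) v₁ = y'₁ := by
    have : y'₁ ∈ Set.range (pullback.fst g (Y.fromSpecResidueField (f x))) := by
      rw [hry]
      simp only [Set.mem_preimage, Set.mem_singleton_iff]
      rw [hgy, hcond]
    exact this
  have hmw : pullback.fst g (Y.fromSpecResidueField (f x)) (m w) = pullback.snd f g ξ' := by
    rw [← Scheme.Hom.comp_apply, hmι, Scheme.Hom.comp_apply, hw]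
  have hv : v₁ ⤳ m w := by
    rw [← hemb.isInducing.specializes_iff, hv₁, hmw]
    exact hsp
  obtain ⟨w₁, hw₁, hmw₁⟩ := (Flat.generalizingMap m) hv
  refine ⟨pullback.fst (pullback.fst f g) (X.fromSpecResidueField x) w₁, ?_, ?_⟩
  · rw [← hw]
    exact hw₁.map (pullback.fst (pullback.fst f g) (X.fromSpecResidueField x)).continuous
  · rw [← Scheme.Hom.comp_apply, ← hmι, Scheme.Hom.comp_apply, hmw₁, hv₁]

section Top

variable {α : Type*} [TopologicalSpace α]

/-- The generic point of an irreducible component has no proper generization. -/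
theorem eq_of_specializes_of_isGenericPoint [T0Space α] {Z : Set α}
    (hZ : Z ∈ irreducibleComponents α) {ξ : α} (hξ : IsGenericPoint ξ Z) {z : α} (hz : z ⤳ ξ) :
    z = ξ := by
  have h1 : closure {ξ} ⊆ closure {z} := specializes_iff_closure_subset.mp hz
  have h2 : IsIrreducible (closure ({z} : Set α)) := isIrreducible_singleton.closure
  have h3 : closure {z} ⊆ Z := hZ.le_of_ge h2 (by rw [← hξ.def]; exact h1)
  have h4 : closure ({z} : Set α) = closure {ξ} := by
    apply le_antisymm
    · rw [hξ.def]; exact h3
    · exact h1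
  exact (inseparable_iff_closure_eq.mpr h4).eq

/-- A point without proper generizations is the generic point of an irreducible component. -/
theorem closure_singleton_mem_irreducibleComponents [QuasiSober α] [T0Space α] {x : α}
    (hx : ∀ z : α, z ⤳ x → z = x) : closure ({x} : Set α) ∈ irreducibleComponents α := by
  have h2 : IsIrreducible (closure ({x} : Set α)) := isIrreducible_singleton.closure
  obtain ⟨u, hu, hxu⟩ := exists_mem_irreducibleComponents_subset_of_isIrreducible _ h2
  obtain ⟨ζ, hζ⟩ := QuasiSober.sober hu.1 (isClosed_of_mem_irreducibleComponents _ hu)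
  have h3 : ζ ⤳ x := by
    rw [specializes_iff_mem_closure, hζ.def]
    exact hxu (subset_closure rfl)
  rw [← hx ζ h3, hζ.def]
  exact hu

/-- If the closure of a point is an irreducible component, the point has no proper generization. -/
theorem eq_of_specializes_of_closure_mem [T0Space α] {y : α}
    (hy : closure ({y} : Set α) ∈ irreducibleComponents α) {z : α} (hz : z ⤳ y) : z = y :=
  eq_of_specializes_of_isGenericPoint hy isGenericPoint_closure hz

end Top

/-- EGA IV 2.3.7 (ii): if every irreducible component of `X` dominates one of `Y` and `g` is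
quasi-flat, every irreducible component of `X ×_Y Y'` dominates one of `Y'`. -/
theorem closure_image_snd_mem_irreducibleComponents
    (hf : ∀ Z ∈ irreducibleComponents ↥X, closure (⇑f '' Z) ∈ irreducibleComponents ↥Y)
    (hg : FDesc.IsQuasiFlat g) (Z' : Set ↥(pullback f g))
    (hZ' : Z' ∈ irreducibleComponents ↥(pullback f g)) :
    closure (⇑(pullback.snd f g) '' Z') ∈ irreducibleComponents ↥Y' := by
  obtain ⟨ξ', hξ'⟩ := QuasiSober.sober hZ'.1 (isClosed_of_mem_irreducibleComponents _ hZ')
  have hξ'max : ∀ z, z ⤳ ξ' → z = ξ' := fun z hz =>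
    eq_of_specializes_of_isGenericPoint hZ' hξ' hz
  have hp : GeneralizingMap (pullback.fst f g) :=
    Groth.Agent.Lib.Helper12.QuasiFlat.generalizingMap_of_isQuasiFlat _
      (isQuasiFlat_pullback_fst f g hg)
  have hxmax : ∀ z, z ⤳ pullback.fst f g ξ' → z = pullback.fst f g ξ' := by
    intro z hz
    obtain ⟨ξ'₁, h1, h2⟩ := hp hz
    rw [← h2, hξ'max _ h1]
  have hy := hf _ (closure_singleton_mem_irreducibleComponents hxmax)
  rw [closure_image_closure f.continuous, Set.image_singleton] at hy
  have hcond : g (pullback.snd f g ξ') = f (pullback.fst f g ξ') := by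
    have := congrArg (fun φ : pullback f g ⟶ Y => φ ξ') (pullback.condition (f := f) (g := g))
    simpa using this.symm
  have hy'max : ∀ z, z ⤳ pullback.snd f g ξ' → z = pullback.snd f g ξ' := by
    intro z hz
    have h1 : g z ⤳ g (pullback.snd f g ξ') := hz.map g.continuous
    have h2 : g z = g (pullback.snd f g ξ') := by
      rw [hcond] at h1 ⊢
      exact eq_of_specializes_of_closure_mem hy h1
    obtain ⟨ξ'₁, h3, h4⟩ := exists_specializes_of_fiber f g ξ' z hz h2
    rw [← h4, hξ'max _ h3]
  have himg : closure (⇑(pullback.snd f g) '' Z') = closure {pullback.snd f g ξ'} := by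
    rw [← hξ'.def, closure_image_closure (pullback.snd f g).continuous, Set.image_singleton]
  rw [himg]
  exact closure_singleton_mem_irreducibleComponents hy'max

end Groth.Agent.Lib.Helper97.QuasiFlatBC
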