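import Groth.Agent.Lib.Helper97.RedModBC
import Groth.Agent.Lib.Helper97.AssFibreLength
import Groth.Agent.Lib.Helper11.SupportTensor
import Groth.Agent.Lib.Helper49.PullbackSupport

/-!
# Reduced modules on a product over a field (helper97)

`F` geometrically reduced on `X`, `G` reduced on `Y` ⟹ `F ⊗_k G` reduced on `X ×_k Y`.
-/

set_option autoImplicit false
set_option linter.style.haveILetI false
set_option linter.unusedSectionVars false
universe u

open AlgebraicGeometry CategoryTheory TensorProduct TopologicalSpace Limits

namespace Groth.Agent.Lib.Helper97.AssFibre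

open Groth.Agent.Lib.Helper97.StalkTensor Groth.Agent.Lib.Helper16.FlatPull

theorem isReducedMod_congr {Z : Scheme.{u}} [IsLocallyNoetherian Z] {M N : Z.Modules}
    [M.IsQuasicoherent] [N.IsQuasicoherent] (e : M ≅ N) (h : AssSch.IsReducedMod M) :
    AssSch.IsReducedMod N := by
  constructor
  · intro x hx y hy hspec
    exact h.1 x ((isAssPoint_congr e x).mpr hx) y ((isAssPoint_congr e y).mpr hy) hspec
  · intro x hx
    rw [← length_stalk_congr e x]
    exact h.2 x ((isAssPoint_congr e x).mpr hx)

/-- Every module on a scheme over a field is flat over the field. -/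
theorem isFlatOver_of_field {k : Type u} [Field k] {Y : Scheme.{u}}
    (g : Y ⟶ Spec (CommRingCat.of k)) (G : Y.Modules) : FlatMod.IsFlatOver g G := by
  intro y
  letI : Module ((Spec (CommRingCat.of k)).presheaf.stalk (g.base y)) (G.presheaf.stalk y) :=
    FlatMod.moduleStalkOver g G y
  haveI : Subsingleton ↥(Spec (CommRingCat.of k)) :=
    (inferInstance : Subsingleton (PrimeSpectrum k))
  have : Module.Flat ((Spec (CommRingCat.of k)).presheaf.stalk (g.base y))
      (G.presheaf.stalk y) :=
    flat_of_isField (Groth.Agent.Lib.Helper54.isField_stalk_of_forall_specializes_eq _ _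
      (fun y' _ => Subsingleton.elim _ _))
  exact this

theorem length_quot_of_eq {X Y : Scheme.{u}} (p : X ⟶ Y) (M : X.Modules) {z z' : X} (h : z = z') :
    Module.length (X.presheaf.stalk z)
      (M.presheaf.stalk z ⧸
        ((IsLocalRing.maximalIdeal (Y.presheaf.stalk (p z))).map (p.stalkMap z).hom) •
        (⊤ : Submodule (X.presheaf.stalk z) (M.presheaf.stalk z))) =
    Module.length (X.presheaf.stalk z')
      (M.presheaf.stalk z' ⧸
        ((IsLocalRing.maximalIdeal (Y.presheaf.stalk (p z'))).map (p.stalkMap z').hom) •
        (⊤ : Submodule (X.presheaf.stalk z') (M.presheaf.stalk z'))) := by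
  subst h
  rfl

variable {k : Type u} [Field k] {X Y : Scheme.{u}} [IsLocallyNoetherian X] [IsLocallyNoetherian Y]
  (f : X ⟶ Spec (CommRingCat.of k)) (g : Y ⟶ Spec (CommRingCat.of k))
  [IsLocallyNoetherian (pullback f g)]

/-- The restriction of `q^* G` to the fibre of `X ×_k Y → X` over `x` is a reduced module when `G`
is reduced and `κ(x) ⊗_k κ(y)` is reduced for all associated points `y` of `G`. -/
theorem isReducedMod_fiber_snd (G : Y.Modules) [G.IsQuasicoherent] (hGr : AssSch.IsReducedMod G)
    (x : X)
    (hx : ∀ y ∈ AssSch.Ass G, (letI := resAlg g y; FibRed f (Y.residueField y) x)) :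
    AssSch.IsReducedMod ((Scheme.Modules.pullback ((pullback.fst f g).fiberι x)).obj
      ((Scheme.Modules.pullback (pullback.snd f g)).obj G)) := by
  letI := resAlg f x
  have hsq : IsPullback ((pullback.fst f g).fiberι x ≫ pullback.snd f g)
      ((pullback.fst f g).fiberToSpecResidueField x) g
      (Spec.map (CommRingCat.ofHom (algebraMap k (X.residueField x)))) := by
    have h0 := (IsPullback.of_hasPullback (pullback.fst f g)
      (X.fromSpecResidueField x)).paste_horiz (IsPullback.of_hasPullback f g).flip
    rw [← spec_map_algebraMap_resAlg f x] at h0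
    exact h0
  haveI := isQuasicoherent_pullback (pullback.snd f g) G
  haveI := isQuasicoherent_pullback ((pullback.fst f g).fiberι x)
    ((Scheme.Modules.pullback (pullback.snd f g)).obj G)
  haveI := isQuasicoherent_pullback ((pullback.fst f g).fiberι x ≫ pullback.snd f g) G
  have h1 : AssSch.IsReducedMod ((Scheme.Modules.pullback
      ((pullback.fst f g).fiberι x ≫ pullback.snd f g)).obj G) := by
    refine isReducedMod_pullback_of_fibRed (K := X.residueField x) g _ _ hsq G hGr.1 hGr.2
      (fun y hy => ?_)
    have h2 := hx y hy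
    unfold FibRed at h2 ⊢
    letI := resAlg g y
    haveI : IsReduced ((X.residueField x) ⊗[k] (Y.residueField y)) := h2
    exact isReduced_of_injective
      (Algebra.TensorProduct.comm k (Y.residueField y) (X.residueField x))
      (Algebra.TensorProduct.comm k (Y.residueField y) (X.residueField x)).injective
  exact isReducedMod_congr
    ((Scheme.Modules.pullbackComp ((pullback.fst f g).fiberι x) (pullback.snd f g)).app G).symm h1

/-- `F ⊗_k G` is reduced when `F` is geometrically reduced and `G` is reduced. -/
theorem isReducedMod_tensor_of_geomRed (F : X.Modules) (hF : Coh.IsCoh F) (G : Y.Modules)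
    (hG : Coh.IsCoh G) (hNE : AssSch.NoEmbedded F)
    (hFl : ∀ x ∈ AssSch.Ass F,
      Module.length (X.presheaf.stalk x) (F.presheaf.stalk x) = 1 ∧
        ∀ (K : Type u) [Field K] [Algebra k K], FibRed f K x)
    (hGr : AssSch.IsReducedMod G) :
    AssSch.IsReducedMod (CohB1.tensorMod ((Scheme.Modules.pullback (pullback.fst f g)).obj F)
      ((Scheme.Modules.pullback (pullback.snd f g)).obj G)) := by
  haveI : F.IsQuasicoherent := hF.1
  haveI : G.IsQuasicoherent := hG.1
  have hGfl := isFlatOver_of_field g G
  haveI := isQuasicoherent_pullback (pullback.snd f g) G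
  haveI := isQuasicoherent_pullback (pullback.fst f g) F
  have hqG : Coh.IsCoh ((Scheme.Modules.pullback (pullback.snd f g)).obj G) :=
    ⟨inferInstance, Groth.Agent.Lib.Helper11.SupportTensor.isFiniteType_pullback_of_isFiniteType
      _ G hG.2⟩
  have hpF : Coh.IsCoh ((Scheme.Modules.pullback (pullback.fst f g)).obj F) :=
    ⟨inferInstance, Groth.Agent.Lib.Helper11.SupportTensor.isFiniteType_pullback_of_isFiniteType
      _ F hF.2⟩
  have hfib : ∀ x ∈ AssSch.Ass F, AssSch.IsReducedMod
      ((Scheme.Modules.pullback ((pullback.fst f g).fiberι x)).obj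
        ((Scheme.Modules.pullback (pullback.snd f g)).obj G)) := fun x hx =>
    isReducedMod_fiber_snd f g G hGr x (fun y _ => by
      letI := resAlg g y
      exact (hFl x hx).2 (Y.residueField y))
  have key : ∀ z : ↥(pullback f g),
      Curv2.IsAssPoint (CohB1.tensorMod ((Scheme.Modules.pullback (pullback.fst f g)).obj F)
        ((Scheme.Modules.pullback (pullback.snd f g)).obj G)) z →
      Curv2.IsAssPoint F (pullback.fst f g z) ∧
        ∃ w : ↥((pullback.fst f g).fiber (pullback.fst f g z)),
          (pullback.fst f g).fiberι (pullback.fst f g z) w = z ∧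
          Curv2.IsAssPoint ((Scheme.Modules.pullback
            ((pullback.fst f g).fiberι (pullback.fst f g z))).obj
              ((Scheme.Modules.pullback (pullback.snd f g)).obj G)) w := by
    intro z hz
    obtain ⟨h1, h2⟩ := (isAssPoint_tensorS_iff f g F G hGfl z).mp hz
    obtain ⟨w, hw⟩ := exists_fiberι_eq (pullback.fst f g) (pullback.fst f g z) z rfl
    refine ⟨h1, w, hw, ?_⟩
    rw [isAssPoint_fiber_iff (pullback.fst f g) _ (pullback.fst f g z) w, hw]
    exact h2
  constructor
  · intro z hz z' hz' hspec
    obtain ⟨hx, w, hw, hwA⟩ := key z hz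
    have hx' := (key z' hz').1
    have hxx : pullback.fst f g z = pullback.fst f g z' :=
      hNE _ hx _ hx' (hspec.map (pullback.fst f g).continuous)
    obtain ⟨w', hw'⟩ := exists_fiberι_eq (pullback.fst f g) (pullback.fst f g z) z' hxx.symm
    have hw'A : Curv2.IsAssPoint ((Scheme.Modules.pullback
        ((pullback.fst f g).fiberι (pullback.fst f g z))).obj
          ((Scheme.Modules.pullback (pullback.snd f g)).obj G)) w' := by
      rw [isAssPoint_fiber_iff (pullback.fst f g) _ (pullback.fst f g z) w', hw']
      exact ((isAssPoint_tensorS_iff f g F G hGfl z').mp hz').2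
    have hww : w' ⤳ w := by
      rw [← ((pullback.fst f g).fiberι _).isEmbedding.isInducing.specializes_iff, hw, hw']
      exact hspec
    have := (hfib _ hx).1 w hwA w' hw'A hww
    rw [← hw, ← hw', this]
  · intro z hz
    obtain ⟨hx, w, hw, hwA⟩ := key z hz
    have hsupp : z ∈ CohB1.support ((Scheme.Modules.pullback (pullback.snd f g)).obj G) := by
      have h0 := Groth.Agent.Lib.Helper45.NowhereDense.mem_support_of_isAssPoint _ hz
      rw [Groth.Agent.Lib.Helper11.SupportTensor.support_tensorMod _ _ hpF.2 hqG.2] at h0
      exact h0.2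
    rw [length_stalk_pullback_tensor (pullback.fst f g) F _ hqG z
      (isFlatOverAt_baseChange g (pullback.fst f g) (pullback.snd f g) f
        (IsPullback.of_hasPullback f g).flip G z (hGfl _)) hsupp, (hFl _ hx).1, one_mul,
      length_quot_of_eq (pullback.fst f g) _ hw.symm,
      ← length_stalk_fiber (pullback.fst f g) _ (pullback.fst f g z) w]
    exact (hfib _ hx).2 w hwA

end Groth.Agent.Lib.Helper97.AssFibre
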