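import Groth.Agent.Lib.Helper97.MeroLib3
import Groth.Agent.Lib.Helper5.StalkFlat
import Groth.Agent.Lib.Helper28.SiteKFlatSymm
import Groth.Agent.Lib.Helper83.DerivedLES
import Groth.Agent.Lib.Helper83.ModCoh
import Groth.Prelude.Def_KRR
import Groth.Prelude.Def_FlatMod2

/-! Helper library (helper97): tensoring with an invertible module is exact; long exact sequence of
higher direct images of the underlying abelian sheaves; Castelnuovo–Mumford regular sheaves on
`P^n_T` in short exact sequences. -/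

set_option autoImplicit false
universe u
open CategoryTheory CategoryTheory.Limits AlgebraicGeometry TopologicalSpace Opposite
open Groth.Agent.Lib.Helper45 Groth.Agent.Lib.Helper49

namespace Groth.Agent.Lib.Helper97.RegSheaf

open Groth.Agent.Lib.Helper97.MeroLib

variable {X : Scheme.{u}}

/-- invertible modules are flat (stalkwise). -/
theorem isFlat_of_isInvertible {L : X.Modules} (hL : PicF.IsInvertible L) : FlatMod.IsFlat L := by
  intro x
  obtain ⟨W, hxW, t, ht⟩ := exists_isBasisOn_of_isInvertible hL x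
  have hbij : Function.Bijective
      (LinearMap.toSpanSingleton (X.presheaf.stalk x) (L.presheaf.stalk x)
        (L.presheaf.germ W x hxW t)) := by
    constructor
    · rw [← LinearMap.ker_eq_bot, LinearMap.ker_eq_bot']
      intro ρ hρ
      exact eq_zero_of_germ_basis_smul ht x hxW ρ hρ
    · intro μ
      obtain ⟨ρ, hρ⟩ := exists_germ_basis_smul ht x hxW μ
      exact ⟨ρ, hρ⟩
  exact Module.Flat.of_linearEquiv (LinearEquiv.ofBijective _ hbij).symm

/-- tensoring (on the left) with a flat module is exact. -/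
theorem shortExact_map_tensorBi_obj {L : X.Modules} (hL : FlatMod.IsFlat L)
    (S : ShortComplex X.Modules) (hS : S.ShortExact) :
    (S.map ((DCoh.tensorBi (X := X)).obj L)).ShortExact := by
  have hflat : ModSite.IsFlat (O := X.sheaf) L :=
    Groth.Agent.Lib.Helper5.StalkFlat.isFlat_of_stalks X.sheaf L (fun x => hL x)
  have e : (DCoh.tensorBi (X := X)).obj L ≅ (ModSite.tensorBi X.sheaf).flip.obj L :=
    (Groth.Agent.Lib.Helper28.SiteKFlatSymm.tensorBiSymmIso X.sheaf).app L
  have h1 : PreservesFiniteLimits ((DCoh.tensorBi (X := X)).obj L) :=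
    @preservesFiniteLimits_of_natIso _ _ _ _ _ _ e.symm hflat.1
  have h2 : PreservesFiniteColimits ((DCoh.tensorBi (X := X)).obj L) :=
    @preservesFiniteColimits_of_natIso _ _ _ _ _ _ e.symm hflat.2
  exact hS.map_of_exact _

section LES

variable {Y : Scheme.{u}} (f : X ⟶ Y)
  (S' : ShortComplex (Sheaf (Opens.grothendieckTopology X) AddCommGrpCat.{u})) (hS' : S'.ShortExact)
include hS'

theorem isZero_RpushAb_mid (i : ℕ) (h1 : IsZero ((Coh.RpushAb f i).obj S'.X₁))
    (h3 : IsZero ((Coh.RpushAb f i).obj S'.X₃)) : IsZero ((Coh.RpushAb f i).obj S'.X₂) :=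
  ((Groth.Agent.Lib.Helper83.derivedLES (Coh.pushAb f)).exact₂ S' hS' i).isZero_of_both_zeros
    (h1.eq_of_src _ _) (h3.eq_of_tgt _ _)

theorem isZero_RpushAb_right (i : ℕ) (h2 : IsZero ((Coh.RpushAb f i).obj S'.X₂))
    (h1 : IsZero ((Coh.RpushAb f (i + 1)).obj S'.X₁)) : IsZero ((Coh.RpushAb f i).obj S'.X₃) :=
  ((Groth.Agent.Lib.Helper83.derivedLES (Coh.pushAb f)).exact₃ S' hS' i (i + 1) rfl).isZero_of_both_zeros
    (h2.eq_of_src _ _) (h1.eq_of_tgt _ _)

theorem isZero_RpushAb_left (i : ℕ) (h3 : IsZero ((Coh.RpushAb f i).obj S'.X₃))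
    (h2 : IsZero ((Coh.RpushAb f (i + 1)).obj S'.X₂)) :
    IsZero ((Coh.RpushAb f (i + 1)).obj S'.X₁) :=
  ((Groth.Agent.Lib.Helper83.derivedLES (Coh.pushAb f)).exact₁ S' hS' i (i + 1) rfl).isZero_of_both_zeros
    (h3.eq_of_src _ _) (h2.eq_of_tgt _ _)

end LES

/-- the underlying abelian sheaves of a short exact sequence of modules. -/
theorem shortExact_map_toSheaf (S : ShortComplex (SheafOfModules.{u} X.ringCatSheaf))
    (hS : S.ShortExact) :
    (S.map (SheafOfModules.toSheaf.{u} X.ringCatSheaf)).ShortExact :=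
  hS.map_of_exact _


/-- middle term: vanishing of `R^i f_*` of the outer terms of a short exact sequence of modules. -/
theorem isZero_RpushAb_toAb_mid {Y : Scheme.{u}} (f : X ⟶ Y) (S : ShortComplex X.Modules)
    (hS : S.ShortExact) (i : ℕ) (h1 : IsZero ((Coh.RpushAb f i).obj (Coh.toAb S.X₁)))
    (h3 : IsZero ((Coh.RpushAb f i).obj (Coh.toAb S.X₃))) :
    IsZero ((Coh.RpushAb f i).obj (Coh.toAb S.X₂)) :=
  isZero_RpushAb_mid f _ (shortExact_map_toSheaf S hS) i h1 h3

theorem isZero_RpushAb_toAb_right {Y : Scheme.{u}} (f : X ⟶ Y) (S : ShortComplex X.Modules)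
    (hS : S.ShortExact) (i : ℕ) (h2 : IsZero ((Coh.RpushAb f i).obj (Coh.toAb S.X₂)))
    (h1 : IsZero ((Coh.RpushAb f (i + 1)).obj (Coh.toAb S.X₁))) :
    IsZero ((Coh.RpushAb f i).obj (Coh.toAb S.X₃)) :=
  isZero_RpushAb_right f _ (shortExact_map_toSheaf S hS) i h2 h1

theorem isZero_RpushAb_toAb_left {Y : Scheme.{u}} (f : X ⟶ Y) (S : ShortComplex X.Modules)
    (hS : S.ShortExact) (i : ℕ) (h3 : IsZero ((Coh.RpushAb f i).obj (Coh.toAb S.X₃)))
    (h2 : IsZero ((Coh.RpushAb f (i + 1)).obj (Coh.toAb S.X₂))) :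
    IsZero ((Coh.RpushAb f (i + 1)).obj (Coh.toAb S.X₁)) :=
  isZero_RpushAb_left f _ (shortExact_map_toSheaf S hS) i h3 h2

end Groth.Agent.Lib.Helper97.RegSheaf
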