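import Groth.Agent.Lib.Helper97.RegSheaf
import Groth.Agent.Lib.Helper17.PnSections
import Groth.Agent.Lib.Helper17.TwistTensor
import Groth.Agent.Lib.Helper11.PullbackTensor

/-! Helper library (helper97): the twisting sheaves `O(d)` on `P^n_T` are invertible; regular sheaves
in short exact sequences. -/

set_option autoImplicit false
universe u
open CategoryTheory CategoryTheory.Limits AlgebraicGeometry TopologicalSpace Opposite

namespace Groth.Agent.Lib.Helper97.RegSheaf

open Groth.Agent.Lib.Helper17.PnSections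

theorem iSup_basicOpen_deg_one (n : ℕ) (R : Type u) [CommRing R] :
    (⨆ f : CohB1.polyGrading n R 1, Proj.basicOpen (CohB1.polyGrading n R)
      (f : MvPolynomial (Fin (n + 1)) R)) = ⊤ := by
  rw [eq_top_iff]
  intro y _
  obtain ⟨i, hi⟩ := exists_T_not_mem n R y
  exact Opens.mem_iSup.mpr ⟨⟨T n R i, T_mem n R i⟩, hi⟩

theorem isInvertible_twistProjSpace (n : ℕ) (R : Type u) [CommRing R] (d : ℤ) :
    PicF.IsInvertible (Twist.twistProjSpace n R d) :=
  Groth.Agent.Lib.Helper17.TwistTensor.isInvertible_twist (CohB1.polyGrading n R)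
    (iSup_basicOpen_deg_one n R) d

theorem isInvertible_twistOver (n : ℕ) (T : Scheme.{u}) (d : ℤ) :
    PicF.IsInvertible (Twist.twistOver n T d) :=
  Groth.Agent.Lib.Helper11.PullbackTensor.isInvertible_pullback _
    (isInvertible_twistProjSpace n (ULift.{u} ℤ) d)

/-- twisting is exact. -/
theorem shortExact_map_twF (n : ℕ) (T : Scheme.{u}) (d : ℤ) (S : ShortComplex (KRR.PY n T).Modules)
    (hS : S.ShortExact) :
    (S.map ((DCoh.tensorBi (X := KRR.PY n T)).obj (Twist.twistOver n T d))).ShortExact :=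
  shortExact_map_tensorBi_obj (isFlat_of_isInvertible (isInvertible_twistOver n T d)) S hS

/-- an extension of regular sheaves is regular. -/
theorem isRegSheaf_mid (n : ℕ) (T : Scheme.{u}) (S : ShortComplex (KRR.PY n T).Modules)
    (hS : S.ShortExact) (hreg₁ : KRR.IsRegSheaf n T S.X₁) (hreg₃ : KRR.IsRegSheaf n T S.X₃) :
    KRR.IsRegSheaf n T S.X₂ := fun i hi =>
  isZero_RpushAb_toAb_mid (KRR.pr n T) _ (shortExact_map_twF n T (-(i : ℤ)) S hS) i
    (hreg₁ i hi) (hreg₃ i hi)

end Groth.Agent.Lib.Helper97.RegSheaf
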