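import Groth.Agent.Lib.Helper97.RegSheaf2
import Groth.Agent.Lib.Helper30.ModAssoc
import Groth.Agent.Lib.Helper11.CounitEpi
import Groth.Agent.Lib.Helper11.GenLocus

/-! Helper library (helper97): twisting by `O(a)` then `O(b)` on `P^n_T`; regular sheaves in short
exact sequences (the two remaining cases). -/

set_option autoImplicit false
universe u
open CategoryTheory CategoryTheory.Limits AlgebraicGeometry TopologicalSpace Opposite

namespace Groth.Agent.Lib.Helper97.RegSheaf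

variable {X : Scheme.{u}}

/-- associativity `A ⊗ (B ⊗ F) ≅ (A ⊗ B) ⊗ F`. -/
noncomputable def tensorBiAssoc (A B F : X.Modules) :
    ((DCoh.tensorBi (X := X)).obj A).obj (((DCoh.tensorBi (X := X)).obj B).obj F) ≅
      ((DCoh.tensorBi (X := X)).obj (((DCoh.tensorBi (X := X)).obj A).obj B)).obj F :=
  (Groth.Agent.Lib.Helper30.ModAssoc.assocIso X.sheaf B F).app A

theorem nonempty_twistOver_tensor_iso (n : ℕ) (T : Scheme.{u}) (a b : ℤ) :
    Nonempty (CohB1.tensorMod (Twist.twistOver n T a) (Twist.twistOver n T b) ≅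
      Twist.twistOver n T (a + b)) := by
  obtain ⟨e⟩ := Groth.Agent.Lib.Helper17.TwistTensor.nonempty_tensor_iso
    (CohB1.polyGrading n (ULift.{u} ℤ)) a b (iSup_basicOpen_deg_one n (ULift.{u} ℤ))
  exact ⟨(Groth.Agent.Lib.Helper11.PullbackTensor.pullbackTensorIso _ _ _
    (isInvertible_twistProjSpace n (ULift.{u} ℤ) a)
    (isInvertible_twistProjSpace n (ULift.{u} ℤ) b)).symm ≪≫
    (Scheme.Modules.pullback _).mapIso e⟩

theorem nonempty_twistOver_zero_iso (n : ℕ) (T : Scheme.{u}) :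
    Nonempty (Twist.twistOver n T 0 ≅ Coh.structureModule (KRR.PY n T)) := by
  obtain ⟨e⟩ := Groth.Agent.Lib.Helper17.TwistTensor.nonempty_twist_zero_iso
    (CohB1.polyGrading n (ULift.{u} ℤ))
  exact ⟨(Scheme.Modules.pullback _).mapIso e ≪≫ Groth.Agent.Lib.Helper11.CounitEpi.pullbackUnitIso _⟩

theorem nonempty_twF_twF_iso (n : ℕ) (T : Scheme.{u}) (a b : ℤ) (F : (KRR.PY n T).Modules) :
    Nonempty (KRR.twF n T a (KRR.twF n T b F) ≅ KRR.twF n T (a + b) F) := by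
  obtain ⟨e⟩ := nonempty_twistOver_tensor_iso n T a b
  exact ⟨tensorBiAssoc _ _ _ ≪≫ ((DCoh.tensorBi (X := KRR.PY n T)).mapIso e).app F⟩

theorem nonempty_twF_zero_iso (n : ℕ) (T : Scheme.{u}) (F : (KRR.PY n T).Modules) :
    Nonempty (KRR.twF n T 0 F ≅ F) := by
  obtain ⟨e⟩ := nonempty_twistOver_zero_iso n T
  exact ⟨((DCoh.tensorBi (X := KRR.PY n T)).mapIso e).app F ≪≫
    Groth.Agent.Lib.Helper11.GenLocus.unitTensorIso F⟩

theorem isZero_Rpush_iff_of_iso {Y : Scheme.{u}} (f : X ⟶ Y) {F G : X.Modules} (e : F ≅ G) (i : ℕ) :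
    IsZero ((Coh.RpushAb f i).obj (Coh.toAb F)) ↔ IsZero ((Coh.RpushAb f i).obj (Coh.toAb G)) :=
  Iso.isZero_iff ((Coh.RpushAb f i).mapIso ((SheafOfModules.toSheaf X.ringCatSheaf).mapIso e))

theorem isZero_succ_of_isRegSheaf_tw1 (n : ℕ) (T : Scheme.{u}) (F : (KRR.PY n T).Modules)
    (hreg : KRR.IsRegSheaf n T (KRR.twF n T 1 F)) (j : ℕ) :
    IsZero ((Coh.RpushAb (KRR.pr n T) (j + 1)).obj (Coh.toAb (KRR.twF n T (-(j : ℤ)) F))) := by
  have h := hreg (j + 1) (by omega)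
  obtain ⟨e⟩ := nonempty_twF_twF_iso n T (-((j + 1 : ℕ) : ℤ)) 1 F
  have hcast : -((j + 1 : ℕ) : ℤ) + 1 = -(j : ℤ) := by push_cast; ring
  rw [hcast] at e
  exact (isZero_Rpush_iff_of_iso _ e (j + 1)).mp h

/-- quotient of a regular sheaf by a sheaf with regular twist `F'(1)` is regular. -/
theorem isRegSheaf_right (n : ℕ) (T : Scheme.{u}) (S : ShortComplex (KRR.PY n T).Modules)
    (hS : S.ShortExact) (hreg₂ : KRR.IsRegSheaf n T S.X₂)
    (hreg₁ : KRR.IsRegSheaf n T (KRR.twF n T 1 S.X₁)) : KRR.IsRegSheaf n T S.X₃ := fun i hi =>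
  isZero_RpushAb_toAb_right (KRR.pr n T) _ (shortExact_map_twF n T (-(i : ℤ)) S hS) i
    (hreg₂ i hi) (isZero_succ_of_isRegSheaf_tw1 n T S.X₁ hreg₁ i)

theorem epi_toSheaf_map {Y : Scheme.{u}} {M N : SheafOfModules.{u} Y.ringCatSheaf} (g : M ⟶ N)
    (hg : Epi g) : Epi ((SheafOfModules.toSheaf.{u} Y.ringCatSheaf).map g) := inferInstance

theorem isZero_R1_of_epi {Y : Scheme.{u}} (f : X ⟶ Y) (S : ShortComplex X.Modules)
    (hS : S.ShortExact) (hepi : Epi ((Scheme.Modules.pushforward f).map S.g))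
    (h2 : IsZero ((Coh.RpushAb f 1).obj (Coh.toAb S.X₂))) :
    IsZero ((Coh.RpushAb f 1).obj (Coh.toAb S.X₁)) := by
  have hS' := shortExact_map_toSheaf S hS
  have hl' : PreservesFiniteLimits (Coh.pushAb f) := by
    have h : PreservesLimitsOfSize.{0, 0} (Coh.pushAb f) :=
      (TopCat.Sheaf.pullbackPushforwardAdjunction AddCommGrpCat.{u} f.base).rightAdjoint_preservesLimits
    exact PreservesLimitsOfSize.preservesFiniteLimits _
  let Δ := Groth.Agent.Lib.Helper83.derivedLES (Coh.pushAb f)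
  have ex₁ := Δ.exact₁ _ hS' 0 1 rfl
  have hδepi : Epi (Δ.δ _ hS' 0 1 rfl) := ex₁.epi_f (h2.eq_of_tgt _ _)
  have hgepi : Epi ((Coh.pushAb f).map ((SheafOfModules.toSheaf.{u} X.ringCatSheaf).map S.g)) := by
    exact epi_toSheaf_map ((Scheme.Modules.pushforward f).map S.g) hepi
  have hR0 : Epi (((Coh.pushAb f).rightDerived 0).map
      ((SheafOfModules.toSheaf.{u} X.ringCatSheaf).map S.g)) := by
    let e := (Coh.pushAb f).rightDerivedZeroIsoSelf
    have hnat := e.hom.naturality ((SheafOfModules.toSheaf.{u} X.ringCatSheaf).map S.g)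
    have h3 : ((Coh.pushAb f).rightDerived 0).map ((SheafOfModules.toSheaf.{u} X.ringCatSheaf).map S.g) =
        e.hom.app _ ≫ (Coh.pushAb f).map ((SheafOfModules.toSheaf.{u} X.ringCatSheaf).map S.g) ≫
          e.inv.app _ := by
      rw [← Category.assoc, ← hnat, Category.assoc, ← NatTrans.comp_app, e.hom_inv_id,
        NatTrans.id_app, Category.comp_id]
    rw [h3]
    infer_instance
  have hδ0 : Δ.δ _ hS' 0 1 rfl = 0 := by
    have hc := Δ.comp_δ _ hS' 0 1 rfl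
    exact (cancel_epi (((Coh.pushAb f).rightDerived 0).map
      ((SheafOfModules.toSheaf.{u} X.ringCatSheaf).map S.g))).mp (hc.trans comp_zero.symm)
  exact @IsZero.of_epi_eq_zero _ _ _ _ _ (Δ.δ _ hS' 0 1 rfl) hδepi hδ0

/-- kernel: if `F(1)` and `F''` are regular and `p_* F → p_* F''` is onto then `F'(1)` is regular. -/
theorem isRegSheaf_left (n : ℕ) (T : Scheme.{u}) (S : ShortComplex (KRR.PY n T).Modules)
    (hS : S.ShortExact) (hreg₂ : KRR.IsRegSheaf n T (KRR.twF n T 1 S.X₂))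
    (hreg₃ : KRR.IsRegSheaf n T S.X₃)
    (hepi : Epi ((Scheme.Modules.pushforward (KRR.pr n T)).map S.g)) :
    KRR.IsRegSheaf n T (KRR.twF n T 1 S.X₁) := by
  intro i hi
  obtain ⟨j, rfl⟩ : ∃ j, i = j + 1 := ⟨i - 1, by omega⟩
  obtain ⟨e⟩ := nonempty_twF_twF_iso n T (-((j + 1 : ℕ) : ℤ)) 1 S.X₁
  rw [isZero_Rpush_iff_of_iso _ e]
  have hcast : -((j + 1 : ℕ) : ℤ) + 1 = -(j : ℤ) := by push_cast; ring
  rw [hcast]
  rcases Nat.eq_zero_or_pos j with rfl | hj
  · have h0 : (-((0 : ℕ) : ℤ)) = 0 := by simp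
    rw [h0]
    obtain ⟨e1⟩ := nonempty_twF_zero_iso n T S.X₁
    obtain ⟨e2⟩ := nonempty_twF_zero_iso n T S.X₂
    rw [isZero_Rpush_iff_of_iso _ e1]
    have h2 := isZero_succ_of_isRegSheaf_tw1 n T S.X₂ hreg₂ 0
    rw [h0, isZero_Rpush_iff_of_iso _ e2] at h2
    exact isZero_R1_of_epi (KRR.pr n T) S hS hepi h2
  · exact isZero_RpushAb_toAb_left (KRR.pr n T) _ (shortExact_map_twF n T (-(j : ℤ)) S hS) j
      (hreg₃ j hj) (isZero_succ_of_isRegSheaf_tw1 n T S.X₂ hreg₂ j)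

end Groth.Agent.Lib.Helper97.RegSheaf
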