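import Groth.Prelude.Def_HopfRep
import Groth.Prelude.Def_Hoch
import Groth.Prelude.Def_ComodSub
import Groth.Agent.H40.Comod
import Groth.Agent.Lib.Helper93.Comod

/-! Helper lemmas (helper97): invariants of comodules over a linearly reductive Hopf algebra and
the Reynolds operator. -/

set_option autoImplicit false
universe u v w w'

open TensorProduct
open Groth.Agent.Lib.Helper93.Comod

namespace Groth.Agent.Lib.Helper97.Reynolds

section Fixed

variable {k : Type u} [Field k] {A : Type v} [CommRing A] [Bialgebra k A]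
variable {V : Type w} [AddCommGroup V] [Module k V] [HopfRep.Comod k A V]
variable {W : Type w'} [AddCommGroup W] [Module k W] [HopfRep.Comod k A W]

/-- A vector is fixed iff every linear form `φ` acts on it by the scalar `φ 1`. -/
theorem mem_fixedPts_iff (v : V) :
    v ∈ HopfRep.fixedPts k A V ↔ ∀ φ : A →ₗ[k] k, dualAct A V φ v = φ 1 • v := by
  constructor
  · intro hv φ
    have hv' : HopfRep.Comod.coact (k := k) (A := A) v = v ⊗ₜ[k] (1 : A) := hv
    rw [dualAct_apply, hv']
    simp
  · intro h
    show HopfRep.Comod.coact (k := k) (A := A) v = v ⊗ₜ[k] (1 : A)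
    rw [← sub_eq_zero]
    apply eq_zero_of_forall_lTensor_eq_zero
    intro φ
    have := h φ
    rw [dualAct_apply] at this
    rw [map_sub, map_sub, this]
    simp

/-- A comodule map sends fixed vectors to fixed vectors. -/
theorem map_mem_fixedPts (f : V →ₗ[k] W) (hf : Hoch.IsComodHom A f) (v : V)
    (hv : v ∈ HopfRep.fixedPts k A V) : f v ∈ HopfRep.fixedPts k A W := by
  rw [mem_fixedPts_iff] at hv ⊢
  intro φ
  rw [dualAct_comm_of_isComodHom f hf, hv φ, map_smul]

theorem isComodHom_comp {X : Type*} [AddCommGroup X] [Module k X] [HopfRep.Comod k A X]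
    (f : V →ₗ[k] W) (hf : Hoch.IsComodHom A f) (g : W →ₗ[k] X) (hg : Hoch.IsComodHom A g) :
    Hoch.IsComodHom A (g ∘ₗ f) := by
  rw [isComodHom_iff] at hf hg ⊢
  intro φ u
  rw [LinearMap.comp_apply, hg, hf, LinearMap.comp_apply]

end Fixed

section Reductive

variable {k : Type u} [Field k] {A : Type u} [CommRing A] [Bialgebra k A]
variable {V : Type u} [AddCommGroup V] [Module k V] [cV : HopfRep.Comod k A V]
variable {W : Type w'} [AddCommGroup W] [Module k W] [HopfRep.Comod k A W]

/-- Key lemma: over a linearly reductive bialgebra, a comodule map `g` into the invariants kills the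
kernel of any comodule endomorphism `E` fixing the invariant vectors. -/
theorem eq_zero_of_range_fixed (hG : HopfRep.IsLinearlyReductive k A)
    (E : V →ₗ[k] V) (hE₁ : Hoch.IsComodHom A E)
    (hE₃ : ∀ x : V, x ∈ HopfRep.fixedPts k A V → E x = x)
    (g : V →ₗ[k] W) (hg : Hoch.IsComodHom A g) (hgf : ∀ x, g x ∈ HopfRep.fixedPts k A W)
    (z : V) (hz : E z = 0) : g z = 0 := by
  classical
  obtain ⟨M₀, hfin, hzM₀, hM₀⟩ := Groth.Agent.H40.exists_finite_subcomod_mem (k := k) (C := A) z
  set M : Submodule k V := M₀ ⊓ LinearMap.ker E with hMdef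
  have hM : HopfRep.IsSubcomod (k := k) (A := A) M :=
    isSubcomod_inf _ _ hM₀ (isSubcomod_ker E hE₁)
  haveI : Module.Finite k M₀ := hfin
  haveI : Module.Finite k M := Submodule.finiteDimensional_of_le (inf_le_left : M ≤ M₀)
  letI cM : HopfRep.Comod k A M := ComodSub.Comod.restr cV M hM
  have hsub : Hoch.IsComodHom A M.subtype := ComodSub.isComodHom_subtype cV M hM
  have hss : HopfRep.IsSemisimpleComod k A M := hG M inferInstance
  set gM : M →ₗ[k] W := g ∘ₗ M.subtype with hgM
  have hgMhom : Hoch.IsComodHom A gM := isComodHom_comp M.subtype hsub g hg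
  obtain ⟨N', hN', hc⟩ := hss (LinearMap.ker gM) (isSubcomod_ker gM hgMhom)
  have hN'bot : N' = ⊥ := by
    rw [eq_bot_iff]
    intro y hy
    have hyfix : y ∈ HopfRep.fixedPts k A M := by
      rw [mem_fixedPts_iff]
      intro φ
      have h1 : dualAct A M φ y - φ 1 • y ∈ N' :=
        sub_mem (dualAct_mem_of_isSubcomod N' hN' φ y hy) (Submodule.smul_mem _ _ hy)
      have h2 : dualAct A M φ y - φ 1 • y ∈ LinearMap.ker gM := by
        rw [LinearMap.mem_ker, map_sub, map_smul, ← dualAct_comm_of_isComodHom gM hgMhom]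
        have := (mem_fixedPts_iff (gM y)).1 (hgf _) φ
        rw [this, sub_self]
      have h3 : dualAct A M φ y - φ 1 • y ∈ LinearMap.ker gM ⊓ N' := ⟨h2, h1⟩
      rw [hc.inf_eq_bot, Submodule.mem_bot, sub_eq_zero] at h3
      exact h3
    have hyV : (y : V) ∈ HopfRep.fixedPts k A V := map_mem_fixedPts M.subtype hsub y hyfix
    have h4 : E (y : V) = (y : V) := hE₃ _ hyV
    have h5 : E (y : V) = 0 := (y.2 : (y : V) ∈ M₀ ⊓ LinearMap.ker E).2
    rw [Submodule.mem_bot]
    apply Subtype.ext
    rw [Submodule.coe_zero, ← h4, h5]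
  have hker : LinearMap.ker gM = ⊤ := by
    have := hc.sup_eq_top
    rwa [hN'bot, sup_bot_eq] at this
  have hzM : z ∈ M := ⟨hzM₀, hz⟩
  have : (⟨z, hzM⟩ : M) ∈ LinearMap.ker gM := by rw [hker]; trivial
  exact this

end Reductive

end Groth.Agent.Lib.Helper97.Reynolds
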