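import Groth.Prelude.Def_W4c1hurwitzcptBd
import Mathlib

/-! Helper lemmas (helper97): orders in `RootDisk p k`. -/

set_option autoImplicit false
universe u

open W4c1hurwitzcpt

namespace Groth.Agent.Lib.Helper97.RootDiskLib

variable {k : Type u} [Field k] {p : ℕ} [NeZero p]

theorem val_smul (r : PowerSeries k) (y : RootDisk p k) :
    RootDisk.val (r • y) = PowerSeries.expand p (NeZero.ne p) r * RootDisk.val y := by
  rw [Algebra.smul_def, map_mul]
  rfl

/-- The order of an `R`-combination `A(x^p) + B(x^p) x^m g + (terms of order > d)` is never a `d`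
with `d ≢ 0` and `d ≢ m` modulo `p`. -/
theorem order_expand_add_ne (r₁ r₂ : PowerSeries k) (G : PowerSeries k) (hG : G.order = 0)
    (m d : ℕ) (hpm : ¬ p ∣ m) (hd1 : ¬ p ∣ d) (hd2 : ∀ b : ℕ, d ≠ p * b + m) :
    (PowerSeries.expand p (NeZero.ne p) r₁ +
      PowerSeries.expand p (NeZero.ne p) r₂ * (PowerSeries.X ^ m * G)).order ≠ (d : ℕ∞) := by
  have hA : (PowerSeries.expand p (NeZero.ne p) r₁).order = p • r₁.order :=
    PowerSeries.order_expand _ _ _
  have hB : (PowerSeries.expand p (NeZero.ne p) r₂ * (PowerSeries.X ^ m * G)).order =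
      p • r₂.order + m := by
    rw [PowerSeries.order_mul, PowerSeries.order_mul, PowerSeries.order_X_pow, hG,
      PowerSeries.order_expand, add_zero]
  have hp0 : p ≠ 0 := NeZero.ne p
  intro h
  by_cases hne : (PowerSeries.expand p (NeZero.ne p) r₁).order =
      (PowerSeries.expand p (NeZero.ne p) r₂ * (PowerSeries.X ^ m * G)).order
  · -- equal orders
    rw [hA, hB] at hne
    induction hα : r₁.order using ENat.recTopCoe with
    | top =>
      induction hβ : r₂.order using ENat.recTopCoe with
      | top =>
        have h1 : r₁ = 0 := PowerSeries.order_eq_top.1 hα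
        have h2 : r₂ = 0 := PowerSeries.order_eq_top.1 hβ
        rw [h1, h2] at h
        simp at h
      | coe b =>
        rw [hα, hβ] at hne
        have : (p • (⊤ : ℕ∞)) = ⊤ := by
          rw [nsmul_eq_mul]
          exact ENat.mul_top (by exact_mod_cast hp0)
        rw [this] at hne
        have h3 : (p • (b : ℕ∞) + m : ℕ∞) = ((p * b + m : ℕ) : ℕ∞) := by
          push_cast
          rw [nsmul_eq_mul]
        rw [h3] at hne
        exact ENat.top_ne_natCast _ hne
    | coe a =>
      induction hβ : r₂.order using ENat.recTopCoe with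
      | top =>
        rw [hα, hβ] at hne
        have : (p • (⊤ : ℕ∞)) = ⊤ := by
          rw [nsmul_eq_mul]
          exact ENat.mul_top (by exact_mod_cast hp0)
        rw [this, top_add] at hne
        have h3 : (p • (a : ℕ∞)) = ((p * a : ℕ) : ℕ∞) := by
          push_cast
          rw [nsmul_eq_mul]
        rw [h3] at hne
        exact ENat.natCast_ne_top _ hne
      | coe b =>
        rw [hα, hβ] at hne
        have h3 : (p • (a : ℕ∞)) = ((p * a : ℕ) : ℕ∞) := by
          push_cast
          rw [nsmul_eq_mul]
        have h4 : (p • (b : ℕ∞) + m : ℕ∞) = ((p * b + m : ℕ) : ℕ∞) := by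
          push_cast
          rw [nsmul_eq_mul]
        rw [h3, h4] at hne
        have h5 : p * a = p * b + m := by exact_mod_cast hne
        apply hpm
        have : p ∣ p * a - p * b := Nat.dvd_sub (Dvd.intro _ rfl) (Dvd.intro _ rfl)
        have h6 : m = p * a - p * b := by omega
        rw [h6]
        exact this
  · rw [PowerSeries.order_add_of_order_ne _ _ hne, hA, hB] at h
    rcases min_choice (p • r₁.order) (p • r₂.order + (m : ℕ∞)) with hc | hc
    · rw [hc] at h
      induction hα : r₁.order using ENat.recTopCoe with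
      | top =>
        rw [hα] at h
        have : (p • (⊤ : ℕ∞)) = ⊤ := by
          rw [nsmul_eq_mul]
          exact ENat.mul_top (by exact_mod_cast hp0)
        rw [this] at h
        exact ENat.top_ne_natCast _ h
      | coe a =>
        rw [hα] at h
        have h3 : (p • (a : ℕ∞)) = ((p * a : ℕ) : ℕ∞) := by
          push_cast
          rw [nsmul_eq_mul]
        rw [h3] at h
        have h5 : p * a = d := by exact_mod_cast h
        exact hd1 ⟨a, h5.symm⟩
    · rw [hc] at h
      induction hβ : r₂.order using ENat.recTopCoe with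
      | top =>
        rw [hβ] at h
        have : (p • (⊤ : ℕ∞)) = ⊤ := by
          rw [nsmul_eq_mul]
          exact ENat.mul_top (by exact_mod_cast hp0)
        rw [this, top_add] at h
        exact ENat.top_ne_natCast _ h
      | coe b =>
        rw [hβ] at h
        have h4 : (p • (b : ℕ∞) + m : ℕ∞) = ((p * b + m : ℕ) : ℕ∞) := by
          push_cast
          rw [nsmul_eq_mul]
        rw [h4] at h
        have h5 : p * b + m = d := by exact_mod_cast h
        exact hd2 b h5.symm

/-- The order of `B(x^p) x^m g` is never a `d` with `d ≢ m` modulo `p` (or `d < m`). -/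
theorem order_expand_mul_ne (r₂ : PowerSeries k) (G : PowerSeries k) (hG : G.order = 0)
    (m d : ℕ) (hd2 : ∀ b : ℕ, d ≠ p * b + m) :
    (PowerSeries.expand p (NeZero.ne p) r₂ * (PowerSeries.X ^ m * G)).order ≠ (d : ℕ∞) := by
  have hB : (PowerSeries.expand p (NeZero.ne p) r₂ * (PowerSeries.X ^ m * G)).order =
      p • r₂.order + m := by
    rw [PowerSeries.order_mul, PowerSeries.order_mul, PowerSeries.order_X_pow, hG,
      PowerSeries.order_expand, add_zero]
  have hp0 : p ≠ 0 := NeZero.ne p
  intro h
  rw [hB] at h
  induction hβ : r₂.order using ENat.recTopCoe with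
  | top =>
    rw [hβ] at h
    have : (p • (⊤ : ℕ∞)) = ⊤ := by
      rw [nsmul_eq_mul]
      exact ENat.mul_top (by exact_mod_cast hp0)
    rw [this, top_add] at h
    exact ENat.top_ne_natCast _ h
  | coe b =>
    rw [hβ] at h
    have h4 : (p • (b : ℕ∞) + m : ℕ∞) = ((p * b + m : ℕ) : ℕ∞) := by
      push_cast
      rw [nsmul_eq_mul]
    rw [h4] at h
    have h5 : p * b + m = d := by exact_mod_cast h
    exact hd2 b h5.symm

end Groth.Agent.Lib.Helper97.RootDiskLib
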