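import Groth.Agent.Lib.Helper97.StalkTensor
import Groth.Agent.Lib.Helper22.FFRel

/-!
# Flatness of `A ⊗ q^* G'` over a further base (helper97)
-/

set_option autoImplicit false
set_option linter.style.haveILetI false
universe u

open AlgebraicGeometry CategoryTheory TensorProduct Opposite TopologicalSpace

namespace Groth.Agent.Lib.Helper97.StalkTensor

open Groth.Agent.Lib.Helper22.FFRel

variable {T Y' Z : Scheme.{u}} (q : T ⟶ Y') (h : Y' ⟶ Z) (A : T.Modules) [A.IsQuasicoherent]
  (G' : Y'.Modules) [G'.IsQuasicoherent] (t : T)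

/-- If `A` is flat over `Y'` at `t` and `G'` is flat over `Z` at `q t`, then `A ⊗ q^* G'` is flat
over `Z` at `t`. -/
theorem isFlatOverAt_tensor_pullback (hA : FlatMod.IsFlatOverAt q A t)
    (hG : FlatMod.IsFlatOverAt h G' (q.base t)) :
    FlatMod.IsFlatOverAt (q ≫ h) (CohB1.tensorMod A ((Scheme.Modules.pullback q).obj G')) t := by
  unfold FlatMod.IsFlatOverAt at hA hG ⊢
  -- rings
  letI algB'L : Algebra (Y'.presheaf.stalk (q.base t)) (T.presheaf.stalk t) :=
    (q.stalkMap t).hom.toAlgebra
  letI algA'B' : Algebra (Z.presheaf.stalk (h.base (q.base t))) (Y'.presheaf.stalk (q.base t)) :=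
    (h.stalkMap (q.base t)).hom.toAlgebra
  letI algA'L : Algebra (Z.presheaf.stalk (h.base (q.base t))) (T.presheaf.stalk t) :=
    ((q ≫ h).stalkMap t).hom.toAlgebra
  -- modules on `MA = A_t`
  letI mB'MA : Module (Y'.presheaf.stalk (q.base t)) (A.presheaf.stalk t) :=
    FlatMod.moduleStalkOver q A t
  haveI tB'LMA : IsScalarTower (Y'.presheaf.stalk (q.base t)) (T.presheaf.stalk t)
    (A.presheaf.stalk t) := IsScalarTower.of_compHom _ _ _
  letI mA'MA : Module (Z.presheaf.stalk (h.base (q.base t))) (A.presheaf.stalk t) :=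
    FlatMod.moduleStalkOver (q ≫ h) A t
  haveI tA'LMA : IsScalarTower (Z.presheaf.stalk (h.base (q.base t))) (T.presheaf.stalk t)
    (A.presheaf.stalk t) := IsScalarTower.of_compHom _ _ _
  haveI tA'B'MA : IsScalarTower (Z.presheaf.stalk (h.base (q.base t)))
    (Y'.presheaf.stalk (q.base t)) (A.presheaf.stalk t) := isScalarTower_stalk q h A t
  -- modules on `G = G'_{q t}`
  letI mA'G : Module (Z.presheaf.stalk (h.base (q.base t))) (G'.presheaf.stalk (q.base t)) :=
    FlatMod.moduleStalkOver h G' (q.base t)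
  haveI tA'B'G : IsScalarTower (Z.presheaf.stalk (h.base (q.base t)))
    (Y'.presheaf.stalk (q.base t)) (G'.presheaf.stalk (q.base t)) := IsScalarTower.of_compHom _ _ _
  -- modules on the stalk of the tensor product
  letI mA'X : Module (Z.presheaf.stalk (h.base (q.base t)))
      ((CohB1.tensorMod A ((Scheme.Modules.pullback q).obj G')).presheaf.stalk t) :=
    FlatMod.moduleStalkOver (q ≫ h) (CohB1.tensorMod A ((Scheme.Modules.pullback q).obj G')) t
  haveI tA'LX : IsScalarTower (Z.presheaf.stalk (h.base (q.base t))) (T.presheaf.stalk t)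
    ((CohB1.tensorMod A ((Scheme.Modules.pullback q).obj G')).presheaf.stalk t) :=
    IsScalarTower.of_compHom _ _ _
  obtain ⟨e⟩ := nonempty_stalk_tensor_pullback_equiv A q G' t
  haveI fMA : Module.Flat (Y'.presheaf.stalk (q.base t)) (A.presheaf.stalk t) := hA
  haveI fG : Module.Flat (Z.presheaf.stalk (h.base (q.base t))) (G'.presheaf.stalk (q.base t)) := hG
  haveI := LocTensor.flat_tensor_of_flat (R := Z.presheaf.stalk (h.base (q.base t)))
    (A := Y'.presheaf.stalk (q.base t)) (A.presheaf.stalk t) (G'.presheaf.stalk (q.base t))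
  have key : Module.Flat (Z.presheaf.stalk (h.base (q.base t)))
      ((CohB1.tensorMod A ((Scheme.Modules.pullback q).obj G')).presheaf.stalk t) :=
    Module.Flat.of_linearEquiv (e.restrictScalars (Z.presheaf.stalk (h.base (q.base t))))
  exact key

/-- Converse: if `A` is faithfully flat over `Y'` at `t` (flat, with non-zero fibre) and
`A ⊗ q^* G'` is flat over `Z` at `t`, then `G'` is flat over `Z` at `q t`. -/
theorem isFlatOverAt_of_tensor_pullback (hA : FlatMod.IsFlatOverAt q A t)
    (hne :
      letI := FlatMod.moduleStalkOver q A t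
      IsLocalRing.maximalIdeal (Y'.presheaf.stalk (q.base t)) •
        (⊤ : Submodule (Y'.presheaf.stalk (q.base t)) (A.presheaf.stalk t)) ≠ ⊤)
    (hT : FlatMod.IsFlatOverAt (q ≫ h)
      (CohB1.tensorMod A ((Scheme.Modules.pullback q).obj G')) t) :
    FlatMod.IsFlatOverAt h G' (q.base t) := by
  unfold FlatMod.IsFlatOverAt at hA hT ⊢
  -- rings
  letI algB'L : Algebra (Y'.presheaf.stalk (q.base t)) (T.presheaf.stalk t) :=
    (q.stalkMap t).hom.toAlgebra
  letI algA'B' : Algebra (Z.presheaf.stalk (h.base (q.base t))) (Y'.presheaf.stalk (q.base t)) :=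
    (h.stalkMap (q.base t)).hom.toAlgebra
  letI algA'L : Algebra (Z.presheaf.stalk (h.base (q.base t))) (T.presheaf.stalk t) :=
    ((q ≫ h).stalkMap t).hom.toAlgebra
  -- modules on `MA = A_t`
  letI mB'MA : Module (Y'.presheaf.stalk (q.base t)) (A.presheaf.stalk t) :=
    FlatMod.moduleStalkOver q A t
  haveI tB'LMA : IsScalarTower (Y'.presheaf.stalk (q.base t)) (T.presheaf.stalk t)
    (A.presheaf.stalk t) := IsScalarTower.of_compHom _ _ _
  letI mA'MA : Module (Z.presheaf.stalk (h.base (q.base t))) (A.presheaf.stalk t) :=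
    FlatMod.moduleStalkOver (q ≫ h) A t
  haveI tA'LMA : IsScalarTower (Z.presheaf.stalk (h.base (q.base t))) (T.presheaf.stalk t)
    (A.presheaf.stalk t) := IsScalarTower.of_compHom _ _ _
  haveI tA'B'MA : IsScalarTower (Z.presheaf.stalk (h.base (q.base t)))
    (Y'.presheaf.stalk (q.base t)) (A.presheaf.stalk t) := isScalarTower_stalk q h A t
  -- modules on `G = G'_{q t}`
  letI mA'G : Module (Z.presheaf.stalk (h.base (q.base t))) (G'.presheaf.stalk (q.base t)) :=
    FlatMod.moduleStalkOver h G' (q.base t)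
  haveI tA'B'G : IsScalarTower (Z.presheaf.stalk (h.base (q.base t)))
    (Y'.presheaf.stalk (q.base t)) (G'.presheaf.stalk (q.base t)) := IsScalarTower.of_compHom _ _ _
  -- modules on the stalk of the tensor product
  letI mA'X : Module (Z.presheaf.stalk (h.base (q.base t)))
      ((CohB1.tensorMod A ((Scheme.Modules.pullback q).obj G')).presheaf.stalk t) :=
    FlatMod.moduleStalkOver (q ≫ h) (CohB1.tensorMod A ((Scheme.Modules.pullback q).obj G')) t
  haveI tA'LX : IsScalarTower (Z.presheaf.stalk (h.base (q.base t))) (T.presheaf.stalk t)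
    ((CohB1.tensorMod A ((Scheme.Modules.pullback q).obj G')).presheaf.stalk t) :=
    IsScalarTower.of_compHom _ _ _
  obtain ⟨e⟩ := nonempty_stalk_tensor_pullback_equiv A q G' t
  haveI fMA : Module.Flat (Y'.presheaf.stalk (q.base t)) (A.presheaf.stalk t) := hA
  haveI ffMA : Module.FaithfullyFlat (Y'.presheaf.stalk (q.base t)) (A.presheaf.stalk t) :=
    faithfullyFlat_of_flat_of_maximalIdeal_smul_ne_top hne
  have hT' : Module.Flat (Z.presheaf.stalk (h.base (q.base t)))
      ((CohB1.tensorMod A ((Scheme.Modules.pullback q).obj G')).presheaf.stalk t) := hT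
  haveI : Module.Flat (Z.presheaf.stalk (h.base (q.base t)))
      ((A.presheaf.stalk t) ⊗[Y'.presheaf.stalk (q.base t)] (G'.presheaf.stalk (q.base t))) :=
    Module.Flat.of_linearEquiv (e.restrictScalars (Z.presheaf.stalk (h.base (q.base t)))).symm
  exact LocTensor.flat_of_flat_tensor (R := Z.presheaf.stalk (h.base (q.base t)))
    (A := Y'.presheaf.stalk (q.base t)) (A.presheaf.stalk t) (G'.presheaf.stalk (q.base t))

/-- Non-vanishing of the fibre of `A ⊗ q^* G'` over `Z`, from that of `G'` and faithful flatness of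
`A` over `Y'` at `t`. -/
theorem smul_top_ne_top_tensor_pullback (hA : FlatMod.IsFlatOverAt q A t)
    (hne :
      letI := FlatMod.moduleStalkOver q A t
      IsLocalRing.maximalIdeal (Y'.presheaf.stalk (q.base t)) •
        (⊤ : Submodule (Y'.presheaf.stalk (q.base t)) (A.presheaf.stalk t)) ≠ ⊤)
    (hG :
      letI := FlatMod.moduleStalkOver h G' (q.base t)
      IsLocalRing.maximalIdeal (Z.presheaf.stalk (h.base (q.base t))) •
        (⊤ : Submodule (Z.presheaf.stalk (h.base (q.base t))) (G'.presheaf.stalk (q.base t))) ≠ ⊤) :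
    letI := FlatMod.moduleStalkOver (q ≫ h)
      (CohB1.tensorMod A ((Scheme.Modules.pullback q).obj G')) t
    IsLocalRing.maximalIdeal (Z.presheaf.stalk ((q ≫ h).base t)) •
      (⊤ : Submodule (Z.presheaf.stalk ((q ≫ h).base t))
        ((CohB1.tensorMod A ((Scheme.Modules.pullback q).obj G')).presheaf.stalk t)) ≠ ⊤ := by
  unfold FlatMod.IsFlatOverAt at hA
  -- rings
  letI algB'L : Algebra (Y'.presheaf.stalk (q.base t)) (T.presheaf.stalk t) :=
    (q.stalkMap t).hom.toAlgebra
  letI algA'B' : Algebra (Z.presheaf.stalk (h.base (q.base t))) (Y'.presheaf.stalk (q.base t)) :=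
    (h.stalkMap (q.base t)).hom.toAlgebra
  letI algA'L : Algebra (Z.presheaf.stalk (h.base (q.base t))) (T.presheaf.stalk t) :=
    ((q ≫ h).stalkMap t).hom.toAlgebra
  -- modules on `MA = A_t`
  letI mB'MA : Module (Y'.presheaf.stalk (q.base t)) (A.presheaf.stalk t) :=
    FlatMod.moduleStalkOver q A t
  haveI tB'LMA : IsScalarTower (Y'.presheaf.stalk (q.base t)) (T.presheaf.stalk t)
    (A.presheaf.stalk t) := IsScalarTower.of_compHom _ _ _
  letI mA'MA : Module (Z.presheaf.stalk (h.base (q.base t))) (A.presheaf.stalk t) :=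
    FlatMod.moduleStalkOver (q ≫ h) A t
  haveI tA'LMA : IsScalarTower (Z.presheaf.stalk (h.base (q.base t))) (T.presheaf.stalk t)
    (A.presheaf.stalk t) := IsScalarTower.of_compHom _ _ _
  haveI tA'B'MA : IsScalarTower (Z.presheaf.stalk (h.base (q.base t)))
    (Y'.presheaf.stalk (q.base t)) (A.presheaf.stalk t) := isScalarTower_stalk q h A t
  -- modules on `G = G'_{q t}`
  letI mA'G : Module (Z.presheaf.stalk (h.base (q.base t))) (G'.presheaf.stalk (q.base t)) :=
    FlatMod.moduleStalkOver h G' (q.base t)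
  haveI tA'B'G : IsScalarTower (Z.presheaf.stalk (h.base (q.base t)))
    (Y'.presheaf.stalk (q.base t)) (G'.presheaf.stalk (q.base t)) := IsScalarTower.of_compHom _ _ _
  -- modules on the stalk of the tensor product
  letI mA'X : Module (Z.presheaf.stalk (h.base (q.base t)))
      ((CohB1.tensorMod A ((Scheme.Modules.pullback q).obj G')).presheaf.stalk t) :=
    FlatMod.moduleStalkOver (q ≫ h) (CohB1.tensorMod A ((Scheme.Modules.pullback q).obj G')) t
  haveI tA'LX : IsScalarTower (Z.presheaf.stalk (h.base (q.base t))) (T.presheaf.stalk t)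
    ((CohB1.tensorMod A ((Scheme.Modules.pullback q).obj G')).presheaf.stalk t) :=
    IsScalarTower.of_compHom _ _ _
  obtain ⟨e⟩ := nonempty_stalk_tensor_pullback_equiv A q G' t
  haveI fMA : Module.Flat (Y'.presheaf.stalk (q.base t)) (A.presheaf.stalk t) := hA
  haveI ffMA : Module.FaithfullyFlat (Y'.presheaf.stalk (q.base t)) (A.presheaf.stalk t) :=
    faithfullyFlat_of_flat_of_maximalIdeal_smul_ne_top hne
  have h1 := LocTensor.smul_top_tensor_ne_top (R := Z.presheaf.stalk (h.base (q.base t)))
    (A := Y'.presheaf.stalk (q.base t)) (A.presheaf.stalk t)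
    (P := G'.presheaf.stalk (q.base t))
    (IsLocalRing.maximalIdeal (Z.presheaf.stalk (h.base (q.base t)))) hG
  have key : IsLocalRing.maximalIdeal (Z.presheaf.stalk (h.base (q.base t))) •
      (⊤ : Submodule (Z.presheaf.stalk (h.base (q.base t)))
        ((CohB1.tensorMod A ((Scheme.Modules.pullback q).obj G')).presheaf.stalk t)) ≠ ⊤ := by
    intro htop
    exact h1 (LocTensor.smul_top_eq_top_of_linearEquiv
      (e.restrictScalars (Z.presheaf.stalk (h.base (q.base t)))) _ htop)
  exact key

/-- Non-vanishing of the fibre of `G'` over `Z` at `q t`, from that of `A ⊗ q^* G'` at `t`. -/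
theorem smul_top_ne_top_of_tensor_pullback
    (hT :
      letI := FlatMod.moduleStalkOver (q ≫ h)
        (CohB1.tensorMod A ((Scheme.Modules.pullback q).obj G')) t
      IsLocalRing.maximalIdeal (Z.presheaf.stalk ((q ≫ h).base t)) •
        (⊤ : Submodule (Z.presheaf.stalk ((q ≫ h).base t))
          ((CohB1.tensorMod A ((Scheme.Modules.pullback q).obj G')).presheaf.stalk t)) ≠ ⊤) :
    letI := FlatMod.moduleStalkOver h G' (q.base t)
    IsLocalRing.maximalIdeal (Z.presheaf.stalk (h.base (q.base t))) •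
      (⊤ : Submodule (Z.presheaf.stalk (h.base (q.base t))) (G'.presheaf.stalk (q.base t))) ≠ ⊤ := by
  -- rings
  letI algB'L : Algebra (Y'.presheaf.stalk (q.base t)) (T.presheaf.stalk t) :=
    (q.stalkMap t).hom.toAlgebra
  letI algA'B' : Algebra (Z.presheaf.stalk (h.base (q.base t))) (Y'.presheaf.stalk (q.base t)) :=
    (h.stalkMap (q.base t)).hom.toAlgebra
  letI algA'L : Algebra (Z.presheaf.stalk (h.base (q.base t))) (T.presheaf.stalk t) :=
    ((q ≫ h).stalkMap t).hom.toAlgebra
  -- modules on `MA = A_t`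
  letI mB'MA : Module (Y'.presheaf.stalk (q.base t)) (A.presheaf.stalk t) :=
    FlatMod.moduleStalkOver q A t
  haveI tB'LMA : IsScalarTower (Y'.presheaf.stalk (q.base t)) (T.presheaf.stalk t)
    (A.presheaf.stalk t) := IsScalarTower.of_compHom _ _ _
  letI mA'MA : Module (Z.presheaf.stalk (h.base (q.base t))) (A.presheaf.stalk t) :=
    FlatMod.moduleStalkOver (q ≫ h) A t
  haveI tA'LMA : IsScalarTower (Z.presheaf.stalk (h.base (q.base t))) (T.presheaf.stalk t)
    (A.presheaf.stalk t) := IsScalarTower.of_compHom _ _ _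
  haveI tA'B'MA : IsScalarTower (Z.presheaf.stalk (h.base (q.base t)))
    (Y'.presheaf.stalk (q.base t)) (A.presheaf.stalk t) := isScalarTower_stalk q h A t
  -- modules on `G = G'_{q t}`
  letI mA'G : Module (Z.presheaf.stalk (h.base (q.base t))) (G'.presheaf.stalk (q.base t)) :=
    FlatMod.moduleStalkOver h G' (q.base t)
  haveI tA'B'G : IsScalarTower (Z.presheaf.stalk (h.base (q.base t)))
    (Y'.presheaf.stalk (q.base t)) (G'.presheaf.stalk (q.base t)) := IsScalarTower.of_compHom _ _ _
  -- modules on the stalk of the tensor product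
  letI mA'X : Module (Z.presheaf.stalk (h.base (q.base t)))
      ((CohB1.tensorMod A ((Scheme.Modules.pullback q).obj G')).presheaf.stalk t) :=
    FlatMod.moduleStalkOver (q ≫ h) (CohB1.tensorMod A ((Scheme.Modules.pullback q).obj G')) t
  haveI tA'LX : IsScalarTower (Z.presheaf.stalk (h.base (q.base t))) (T.presheaf.stalk t)
    ((CohB1.tensorMod A ((Scheme.Modules.pullback q).obj G')).presheaf.stalk t) :=
    IsScalarTower.of_compHom _ _ _
  obtain ⟨e⟩ := nonempty_stalk_tensor_pullback_equiv A q G' t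
  intro htop
  have h1 := LocTensor.smul_top_tensor_eq_top (R := Z.presheaf.stalk (h.base (q.base t)))
    (A := Y'.presheaf.stalk (q.base t)) (A.presheaf.stalk t)
    (P := G'.presheaf.stalk (q.base t))
    (IsLocalRing.maximalIdeal (Z.presheaf.stalk (h.base (q.base t)))) htop
  have hT' : IsLocalRing.maximalIdeal (Z.presheaf.stalk (h.base (q.base t))) •
      (⊤ : Submodule (Z.presheaf.stalk (h.base (q.base t)))
        ((CohB1.tensorMod A ((Scheme.Modules.pullback q).obj G')).presheaf.stalk t)) ≠ ⊤ := hT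
  exact hT' (LocTensor.smul_top_eq_top_of_linearEquiv
    (e.restrictScalars (Z.presheaf.stalk (h.base (q.base t)))).symm _ h1)

end Groth.Agent.Lib.Helper97.StalkTensor
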